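import Mathlib
import Cfsg.Prelude.Def_Blocks
import Cfsg.Agent.Lib.Helper78.DimBlock

/-!
# `p^a χ` truncated to `p`-regular elements is a generalized character (helper78)

Everything is stated relative to the hypothesis `BrauerChar G` (Brauer's characterisation of
characters for the group `G`).
-/

set_option autoImplicit false

namespace Cfsg.Agent.Lib.Helper78

open Cfsg
open scoped ComplexConjugate

/-- Brauer's characterisation of characters, as a hypothesis on `G`. -/
def BrauerChar (G : Type*) [Group G] : Prop :=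
  ∀ θ : G → ℂ, IsClassFunction G θ →
    (∀ (E : Subgroup G) (p : ℕ), p.Prime → IsElementary p E →
      IsGeneralizedCharacter E (fun e : E => θ e)) → IsGeneralizedCharacter G θ

theorem normal_of_le_center' {E : Type*} [Group E] {H : Subgroup E}
    (h : H ≤ Subgroup.center E) : H.Normal := by
  refine ⟨fun x hx g => ?_⟩
  have := Subgroup.mem_center_iff.1 (h hx) g
  rw [this, mul_inv_cancel_right]
  exact hx

open scoped Pointwise in
/-- An elementary group has a normal `p`-complement for every prime `p`. -/
theorem exists_normal_p_complement_of_isElementary {E : Type*} [Group E] [Finite E] {p q : ℕ}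
    (hp : p.Prime) (hq : q.Prime) (hE : IsElementary q E) :
    ∃ H : Subgroup E, H.Normal ∧ ¬ p ∣ Nat.card H ∧ ∃ j : ℕ, H.index = p ^ j := by
  obtain ⟨x, hxc, hxq, k, hk⟩ := hE
  have hzc : Subgroup.zpowers x ≤ Subgroup.center E := by
    rw [Subgroup.zpowers_le]; exact hxc
  by_cases hpq : p = q
  · subst hpq
    refine ⟨Subgroup.zpowers x, normal_of_le_center' hzc, ?_, k, hk⟩
    rw [Nat.card_zpowers]
    exact fun h => (Nat.Prime.coprime_iff_not_dvd hp).1 hxq.symm h
  · -- the Sylow `p`-subgroup of `⟨x⟩` is central with coprime index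
    set n := orderOf x with hn
    have hn0 : n ≠ 0 := (orderOf_pos x).ne'
    set j := n.factorization p with hj
    set m := n / p ^ j with hm
    have hnm : p ^ j * m = n := Nat.ordProj_mul_ordCompl_eq_self n p
    have hm0 : m ≠ 0 := by
      rintro h0; rw [h0, mul_zero] at hnm; exact hn0 hnm.symm
    have hpm : ¬ p ∣ m := Nat.not_dvd_ordCompl hp hn0
    set Z := Subgroup.zpowers (x ^ m) with hZ
    have hZc : Z ≤ Subgroup.center E := by
      rw [hZ, Subgroup.zpowers_le]; exact Subgroup.pow_mem _ hxc m
    haveI hZn : Z.Normal := normal_of_le_center' hZc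
    have hZcard : Nat.card Z = p ^ j := by
      rw [hZ, Nat.card_zpowers, orderOf_pow' x hm0, ← hn, Nat.gcd_eq_right ⟨p ^ j, by rw [mul_comm]; exact hnm.symm⟩,
        ← hnm, Nat.mul_div_cancel _ (Nat.pos_of_ne_zero hm0)]
    have hcardE : Nat.card E = q ^ k * n := by
      rw [← (Subgroup.zpowers x).index_mul_card, hk, Nat.card_zpowers]
    have hZidx : Z.index = q ^ k * m := by
      have h1 := Z.index_mul_card
      rw [hZcard, hcardE, ← hnm] at h1
      have hpj : 0 < p ^ j := pow_pos hp.pos j
      apply Nat.eq_of_mul_eq_mul_right hpj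
      rw [h1]; ring
    have hcop : Nat.Coprime (Nat.card Z) Z.index := by
      rw [hZcard, hZidx]
      apply Nat.Coprime.pow_left
      rw [Nat.Prime.coprime_iff_not_dvd hp]
      intro hd
      rcases (Nat.Prime.dvd_mul hp).1 hd with h1 | h1
      · exact hpq ((Nat.prime_dvd_prime_iff_eq hp hq).1 (hp.dvd_of_dvd_pow h1))
      · exact hpm h1
    obtain ⟨H, hH⟩ := Subgroup.exists_right_complement'_of_coprime hcop
    have hHcard : Nat.card H = q ^ k * m := by
      have h1 := hH.card_mul
      rw [hZcard, hcardE, ← hnm] at h1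
      have hpj : 0 < p ^ j := pow_pos hp.pos j
      apply Nat.eq_of_mul_eq_mul_left hpj
      rw [h1]; ring
    have hHidx : H.index = p ^ j := by
      have h1 := H.index_mul_card
      rw [hHcard, hcardE, ← hnm] at h1
      have hpos : 0 < q ^ k * m := Nat.mul_pos (pow_pos hq.pos k) (Nat.pos_of_ne_zero hm0)
      apply Nat.eq_of_mul_eq_mul_right hpos
      rw [h1]; ring
    refine ⟨H, ⟨fun h hh g => ?_⟩, ?_, j, hHidx⟩
    · -- g = z * h'
      have hprod : (Z : Set E) * (H : Set E) = Set.univ := hH.mul_eq
      have hg : g ∈ (Z : Set E) * (H : Set E) := by rw [hprod]; trivial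
      obtain ⟨z, hz, h', hh', rfl⟩ := hg
      have hzc' := Subgroup.mem_center_iff.1 (hZc hz)
      have : z * h' * h * (z * h')⁻¹ = h' * h * h'⁻¹ := by
        rw [mul_inv_rev, mul_assoc z, mul_assoc z, ← hzc' (h' * h * (h'⁻¹ * z⁻¹))]
        group
      rw [this]
      exact H.mul_mem (H.mul_mem hh' hh) (H.inv_mem hh')
    · rw [hHcard]
      intro hd
      rcases (Nat.Prime.dvd_mul hp).1 hd with h1 | h1
      · exact hpq ((Nat.prime_dvd_prime_iff_eq hp hq).1 (hp.dvd_of_dvd_pow h1))
      · exact hpm h1

open Classical in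
/-- The inflation of the regular character of `E ⧸ H`. -/
theorem isCharacter_index_indicator {E : Type*} [Group E] [Finite E] (H : Subgroup E) [H.Normal] :
    IsCharacter E (fun e => if e ∈ H then (H.index : ℂ) else 0) := by
  haveI := Fintype.ofFinite (E ⧸ H)
  have h1 : IsCharacter (E ⧸ H) (regRep (E ⧸ H)).character := Helper74.isCharacter_of_rep _
  have h2 := Helper74.IsCharacter.comp h1 (QuotientGroup.mk' H)
  convert h2 using 1
  ext e
  simp only [Function.comp, regRep_character, QuotientGroup.mk'_apply, QuotientGroup.eq_one_iff]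
  rw [Subgroup.index_eq_card, Nat.card_eq_fintype_card]

/-- In a group with a normal `p`-complement `H` the `p`-regular elements are those of `H`. -/
theorem dvd_orderOf_iff_not_mem {E : Type*} [Group E] [Finite E] {p : ℕ} (hp : p.Prime)
    (H : Subgroup E) [H.Normal] (hH : ¬ p ∣ Nat.card H) {j : ℕ} (hj : H.index = p ^ j) (e : E) :
    p ∣ orderOf e ↔ e ∉ H := by
  constructor
  · intro hd he
    apply hH
    have h1 : orderOf (⟨e, he⟩ : H) ∣ Nat.card H := orderOf_dvd_natCard _
    rw [Subgroup.orderOf_mk] at h1
    exact hd.trans h1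
  · intro he
    have h1 : (QuotientGroup.mk' H e) ≠ 1 := by
      rw [QuotientGroup.mk'_apply, Ne, QuotientGroup.eq_one_iff]; exact he
    have h2 : orderOf (QuotientGroup.mk' H e) ∣ p ^ j := by
      rw [← hj, Subgroup.index_eq_card]; exact orderOf_dvd_natCard _
    obtain ⟨i, -, hi⟩ := (Nat.dvd_prime_pow hp).1 h2
    have hi0 : i ≠ 0 := by
      rintro rfl
      rw [pow_zero, orderOf_eq_one_iff] at hi
      exact h1 hi
    have h3 : p ∣ orderOf (QuotientGroup.mk' H e) := by rw [hi]; exact dvd_pow_self p hi0
    exact h3.trans (orderOf_map_dvd _ e)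

variable {G : Type*} [Group G] [Finite G]

open Classical in
/-- `p^a χ` truncated to the `p`-regular elements is a generalized character. -/
theorem isGeneralizedCharacter_regPart (hBr : BrauerChar G) {p : ℕ} (hp : p.Prime) {χ : G → ℂ}
    (hχ : IsCharacter G χ) :
    IsGeneralizedCharacter G (fun x : G => if p ∣ orderOf x then 0 else
      ((p ^ (Nat.card G).factorization p : ℕ) : ℂ) * χ x) := by
  refine hBr _ ?_ ?_
  · have := regPart_isClassFunction p (f := fun x => ((p ^ (Nat.card G).factorization p : ℕ) : ℂ) * χ x)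
      (fun g x => by simp only; rw [Helper74.IsCharacter.isClassFunction hχ])
    exact this
  · intro E q hq hE
    obtain ⟨H, hHn, hH, j, hj⟩ := exists_normal_p_complement_of_isElementary hp hq hE
    have hja : j ≤ (Nat.card G).factorization p := by
      have h1 : p ^ j ∣ Nat.card G := by
        rw [← hj]
        exact (H.index_dvd_card).trans (Subgroup.card_subgroup_dvd_card E)
      exact (Nat.Prime.pow_dvd_iff_le_factorization hp Nat.card_pos.ne').1 h1
    have h1 := Helper74.IsCharacter.nsmul (Helper74.IsCharacter.mul (isCharacter_index_indicator H)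
      (Helper74.IsCharacter.restrict hχ E)) (p ^ ((Nat.card G).factorization p - j))
    refine ⟨_, 0, h1, Helper74.IsCharacter.zero, ?_⟩
    ext e
    simp only [Pi.sub_apply, Pi.zero_apply, sub_zero, Pi.smul_apply, Pi.mul_apply, smul_eq_mul]
    rw [Subgroup.orderOf_coe]
    by_cases he : e ∈ H
    · rw [if_neg (fun h => (dvd_orderOf_iff_not_mem hp H hH hj e).1 h he), if_pos he, hj, ← mul_assoc]
      congr 1
      rw [← Nat.cast_mul, ← pow_add, Nat.sub_add_cancel hja]
    · rw [if_pos ((dvd_orderOf_iff_not_mem hp H hH hj e).2 he), if_neg he]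
      simp

end Cfsg.Agent.Lib.Helper78
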