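import Mathlib
import Cfsg.Prelude.Def_Blocks
import Cfsg.Agent.Lib.Helper78.RegGenChar
import Cfsg.Agent.Lib.Helper78.HeightZero
import Cfsg.Agent.Lib.Helper3.Table

/-!
# Inner products with `χ̃ = p^a χ` on `p`-regular elements (helper78)
-/

set_option autoImplicit false

namespace Cfsg.Agent.Lib.Helper78

open Cfsg
open scoped ComplexConjugate

variable {M : Ideal AlgInt}

/-- An integer quotient in the local ring: divisibility. -/
theorem pow_factorization_dvd_of_memLocalRing {p : ℕ} (h : IsPModular p M) {n : ℤ} {d : ℕ}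
    (hd : d ≠ 0) (hn : MemLocalRing M ((n : ℂ) / (d : ℂ))) :
    ((p ^ d.factorization p : ℕ) : ℤ) ∣ n := by
  have hM := pmod_isPrime h
  by_cases hn0 : n = 0
  · rw [hn0]; exact dvd_zero _
  have hm0 : n.natAbs ≠ 0 := Int.natAbs_ne_zero.2 hn0
  have hm : MemLocalRing M ((n.natAbs : ℂ) / (d : ℂ)) := by
    rcases Int.natAbs_eq n with h1 | h1
    · have : (n : ℂ) = (n.natAbs : ℂ) := by
        conv_lhs => rw [h1]
        simp
      rwa [this] at hn
    · have : (n : ℂ) = -(n.natAbs : ℂ) := by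
        conv_lhs => rw [h1]
        simp
      rw [this, neg_div] at hn
      simpa using MemLocalRing.neg hn
  rw [Int.natCast_dvd]
  rw [Nat.Prime.pow_dvd_iff_le_factorization h.1 hm0]
  by_contra hlt
  push Not at hlt
  have h3 := memLocalIdeal_natCast_div h hm0 hlt
  have h4 := MemLocalIdeal.mul_right hM h3 hm
  have ha' : (n.natAbs : ℂ) ≠ 0 := by exact_mod_cast hm0
  have hb' : (d : ℂ) ≠ 0 := by exact_mod_cast hd
  have : (d : ℂ) / (n.natAbs : ℂ) * ((n.natAbs : ℂ) / (d : ℂ)) = 1 := by field_simp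
  rw [this] at h4
  exact not_memLocalIdeal_one hM h4

/-- An integer quotient in the local ring is a unit iff the valuations agree. -/
theorem not_memLocalIdeal_intCast_div_iff {p : ℕ} (h : IsPModular p M) {n : ℤ} {d : ℕ}
    (hd : d ≠ 0) (hn : MemLocalRing M ((n : ℂ) / (d : ℂ))) :
    ¬ MemLocalIdeal M ((n : ℂ) / (d : ℂ)) ↔ n ≠ 0 ∧ padicValInt p n = d.factorization p := by
  have hM := pmod_isPrime h
  haveI : Fact p.Prime := ⟨h.1⟩
  by_cases hn0 : n = 0
  · subst hn0
    simp [memLocalIdeal_zero hM]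
  have hm0 : n.natAbs ≠ 0 := Int.natAbs_ne_zero.2 hn0
  have hiff : MemLocalIdeal M ((n : ℂ) / (d : ℂ)) ↔ MemLocalIdeal M ((n.natAbs : ℂ) / (d : ℂ)) := by
    rcases Int.natAbs_eq n with h1 | h1
    · have : (n : ℂ) = (n.natAbs : ℂ) := by
        conv_lhs => rw [h1]
        simp
      rw [this]
    · have : (n : ℂ) = -(n.natAbs : ℂ) := by
        conv_lhs => rw [h1]
        simp
      rw [this, neg_div]
      constructor
      · intro h2; simpa using MemLocalIdeal.neg h2
      · intro h2; exact MemLocalIdeal.neg h2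
  have hval : padicValInt p n = n.natAbs.factorization p := by
    rw [Nat.factorization_def _ h.1]; rfl
  rw [hiff, hval]
  have hdvd := pow_factorization_dvd_of_memLocalRing h hd hn
  rw [Int.natCast_dvd, Nat.Prime.pow_dvd_iff_le_factorization h.1 hm0] at hdvd
  constructor
  · intro h2
    refine ⟨hn0, ?_⟩
    by_contra hne
    exact h2 (memLocalIdeal_natCast_div h hd (lt_of_le_of_ne hdvd (Ne.symm hne)))
  · rintro ⟨-, h2⟩
    exact not_memLocalIdeal_natCast_div h hm0 hd h2.symm

variable {G : Type*} [Group G] [Fintype G]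

/-- `χ̃`: `p^a χ` on the `p`-regular elements, `0` elsewhere. -/
noncomputable def tilde (p : ℕ) (χ : G → ℂ) : G → ℂ :=
  fun x : G => if p ∣ orderOf x then (0 : ℂ) else
    ((p ^ (Nat.card G).factorization p : ℕ) : ℂ) * χ x

/-- The class function `(p^a/|G|) conj χ` on `p`-regular elements. -/
noncomputable def cfun (p : ℕ) (χ : G → ℂ) : G → ℂ :=
  regPart p fun g => ((p ^ (Nat.card G).factorization p : ℕ) : ℂ) / ((Nat.card G : ℕ) : ℂ) *
    conj (χ g)

theorem tilde_isClassFunction (p : ℕ) {χ : G → ℂ} (hχ : IsClassFunction G χ) :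
    IsClassFunction G (tilde p χ) :=
  regPart_isClassFunction p (f := fun x => ((p ^ (Nat.card G).factorization p : ℕ) : ℂ) * χ x)
    (fun g x => by simp only; rw [hχ])

theorem cfun_isClassFunction (p : ℕ) {χ : G → ℂ} (hχ : IsClassFunction G χ) :
    IsClassFunction G (cfun p χ) :=
  regPart_isClassFunction p (fun g x => by rw [hχ])

theorem cfun_memLocalRing {p : ℕ} (h : IsPModular p M) (χ : IrrCharacter G) (g : G) :
    MemLocalRing M (cfun p (χ : G → ℂ) g) := by
  have hM := pmod_isPrime h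
  unfold cfun regPart
  split_ifs
  · exact memLocalRing_zero hM
  · refine MemLocalRing.mul hM ?_ (memLocalRing_conj_irr hM χ g)
    refine memLocalRing_natCast_div h Nat.card_pos.ne' ?_
    rw [Nat.Prime.factorization_pow h.1, Finsupp.single_eq_same]

/-- `conj [χ̃, ξ] = ξ(1) ω_ξ(c_χ)`. -/
theorem conj_classInner_tilde (p : ℕ) (χ : G → ℂ) (ξ : IrrCharacter G) :
    conj (classInner (tilde p χ) (ξ : G → ℂ)) =
      (ξ : G → ℂ) 1 * omega (ξ : G → ℂ) (cfun p χ) := by
  unfold classInner omega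
  rw [mul_div_cancel₀ _ (irr_one_ne_zero ξ), map_mul, map_inv₀, Complex.conj_natCast, map_sum,
    Finset.mul_sum]
  refine Finset.sum_congr rfl fun g _ => ?_
  unfold tilde cfun regPart
  split_ifs
  · simp
  · rw [map_mul, map_mul, Complex.conj_conj, Complex.conj_natCast]
    ring

theorem classInner_tilde_symm (p : ℕ) (χ ξ : G → ℂ) :
    classInner (tilde p χ) ξ = conj (classInner (tilde p ξ) χ) := by
  unfold classInner
  rw [map_mul, map_inv₀, Complex.conj_natCast, map_sum]
  congr 1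
  refine Finset.sum_congr rfl fun g _ => ?_
  unfold tilde
  split_ifs
  · simp
  · rw [map_mul, map_mul, Complex.conj_conj, Complex.conj_natCast]
    ring

theorem classInner_tilde_eq_zero {p : ℕ} (h : IsPModular p M) {B : Set (IrrCharacter G)}
    (hB : IsPBlock M B) {χ ψ : IrrCharacter G} (hχ : χ ∈ B) (hψ : ψ ∉ B) :
    classInner (tilde p (χ : G → ℂ)) (ψ : G → ℂ) = 0 := by
  have h1 := conj_classInner_tilde p (χ : G → ℂ) ψ
  unfold cfun at h1
  rw [omega_regPart_conj_eq_zero h hB hχ hψ, mul_zero] at h1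
  simpa using h1

open Classical in
/-- Averaging the Fourier inversion formula over a Sylow `p`-subgroup. -/
theorem sum_omega_mul_avg {p : ℕ} (hp : p.Prime) (P : Subgroup G) (hP : IsPGroup p P)
    {c : G → ℂ} (hc : IsClassFunction G c) (hc0 : ∀ g, p ∣ orderOf g → c g = 0) :
    ∑ ψ : IrrCharacter G, omega (ψ : G → ℂ) c * ((ψ : G → ℂ) 1 *
      conj ((Nat.card P : ℂ)⁻¹ * ∑ u : G, if u ∈ P then (ψ : G → ℂ) (1 * u) else 0)) =
      (Fintype.card G : ℂ) / (Nat.card P : ℂ) * c 1 := by
  have hcardG : (Fintype.card G : ℂ) ≠ 0 := by exact_mod_cast Fintype.card_ne_zero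
  have hcardP : (Nat.card P : ℂ) ≠ 0 := by exact_mod_cast Nat.card_pos.ne'
  have hsing : ∀ u ∈ P, u ≠ 1 → p ∣ orderOf u := by
    intro u hu hu1
    obtain ⟨k, hk⟩ := hP ⟨u, hu⟩
    have hk' : u ^ p ^ k = 1 := by
      have := congrArg Subtype.val hk
      simpa using this
    obtain ⟨j, -, hj⟩ := (Nat.dvd_prime_pow hp).1 (orderOf_dvd_of_pow_eq_one hk')
    rw [hj]
    refine dvd_pow_self p ?_
    rintro rfl
    rw [pow_zero, orderOf_eq_one_iff] at hj
    exact hu1 hj
  have e1 : ∑ u : G, (if u ∈ P then c u else 0) = c 1 := by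
    rw [Finset.sum_eq_single 1]
    · rw [if_pos P.one_mem]
    · intro u _ hu1
      split_ifs with hu
      · exact hc0 u (hsing u hu hu1)
      · rfl
    · intro h1; exact absurd (Finset.mem_univ _) h1
  have e2 : ∑ u : G, (if u ∈ P then c u else 0) =
      (Fintype.card G : ℂ)⁻¹ * (Nat.card P : ℂ) *
        ∑ ψ : IrrCharacter G, omega (ψ : G → ℂ) c * ((ψ : G → ℂ) 1 *
          conj ((Nat.card P : ℂ)⁻¹ * ∑ u : G, if u ∈ P then (ψ : G → ℂ) (1 * u) else 0)) := by
    have : ∀ u : G, (if u ∈ P then c u else 0) =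
        ∑ ψ : IrrCharacter G, (Fintype.card G : ℂ)⁻¹ * (omega (ψ : G → ℂ) c * ((ψ : G → ℂ) 1 *
          (if u ∈ P then conj ((ψ : G → ℂ) u) else 0))) := by
      intro u
      split_ifs with hu
      · rw [inversion hc u, Finset.mul_sum]
      · simp
    simp only [this]
    rw [Finset.sum_comm, Finset.mul_sum]
    refine Finset.sum_congr rfl fun ψ _ => ?_
    rw [← Finset.mul_sum, ← Finset.mul_sum, ← Finset.mul_sum, map_mul, map_inv₀,
      Complex.conj_natCast, map_sum]
    have : ∑ u : G, conj (if u ∈ P then (ψ : G → ℂ) (1 * u) else 0) =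
        ∑ u : G, if u ∈ P then conj ((ψ : G → ℂ) u) else 0 := by
      refine Finset.sum_congr rfl fun u _ => ?_
      split_ifs <;> simp
    rw [this]
    field_simp
  rw [e1] at e2
  rw [e2]
  field_simp

open Classical in
/-- For `χ` of height zero in `B`, `ω_χ(c_χ) = [χ̃,χ]/χ(1)` is a local unit. -/
theorem not_memLocalIdeal_omega_cfun {p : ℕ} (h : IsPModular p M) {B : Set (IrrCharacter G)}
    (hB : IsPBlock M B) {χ : IrrCharacter G} (hχ : χ ∈ B)
    (h0 : blockHeight p B (χ : G → ℂ) = 0) :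
    ¬ MemLocalIdeal M (omega (χ : G → ℂ) (cfun p (χ : G → ℂ))) := by
  have hM := pmod_isPrime h
  haveI : Fact p.Prime := ⟨h.1⟩
  have hp0 : p ≠ 0 := h.1.ne_zero
  intro hLI
  obtain P : Sylow p G := default
  have hcardP : Nat.card (P : Subgroup G) = p ^ (Nat.card G).factorization p :=
    P.card_eq_multiplicity
  have hccl := cfun_isClassFunction p (irr_isClassFunction χ)
  have hcR := cfun_memLocalRing h χ
  have F2 := sum_omega_mul_avg h.1 (P : Subgroup G) P.isPGroup' hccl
    (fun g hg => by unfold cfun regPart; rw [if_pos hg])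
  have hreg1 : ¬ p ∣ orderOf (1 : G) := by simp [h.1.one_lt.ne']
  have hcardG : (Fintype.card G : ℂ) ≠ 0 := by exact_mod_cast Fintype.card_ne_zero
  have hpa : ((p ^ (Nat.card G).factorization p : ℕ) : ℂ) ≠ 0 := by
    exact_mod_cast pow_ne_zero _ hp0
  have e3 : (Fintype.card G : ℂ) / (Nat.card (P : Subgroup G) : ℂ) * cfun p (χ : G → ℂ) 1 =
      (χ : G → ℂ) 1 := by
    unfold cfun regPart
    rw [if_neg hreg1]
    simp only
    rw [irr_conj_one, hcardP, Nat.card_eq_fintype_card]
    field_simp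
  rw [e3] at F2
  set mn := minDeg p B with hmn
  have hχe := (blockHeight_eq_zero_iff hχ).1 h0
  have hχunit : ¬ MemLocalIdeal M (((charDegree (χ : G → ℂ) : ℕ) : ℂ) / ((p ^ mn : ℕ) : ℂ)) := by
    refine not_memLocalIdeal_natCast_div h (irr_charDegree_pos χ).ne' (pow_ne_zero _ hp0) ?_
    rw [Nat.Prime.factorization_pow h.1, Finsupp.single_eq_same, hχe]
  apply hχunit
  rw [← irr_one_eq, ← F2, Finset.sum_div]
  refine MemLocalIdeal.sum hM _ _ fun ψ _ => ?_
  by_cases hψ : ψ ∈ B
  · have h1 : MemLocalIdeal M (omega (ψ : G → ℂ) (cfun p (χ : G → ℂ))) :=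
      (MemLocalIdeal.congr hM
        (memLocalIdeal_omega_sub hM (IsPBlock.sameBlock hM hB hψ hχ) hccl hcR)).2 hLI
    have h2 : MemLocalRing M (((charDegree (ψ : G → ℂ) : ℕ) : ℂ) / ((p ^ mn : ℕ) : ℂ)) := by
      refine memLocalRing_natCast_div h (pow_ne_zero _ hp0) ?_
      rw [Nat.Prime.factorization_pow h.1, Finsupp.single_eq_same]
      exact minDeg_le hψ
    have h3 : MemLocalRing M (conj ((Nat.card (P : Subgroup G) : ℂ)⁻¹ *
        ∑ u : G, if u ∈ (P : Subgroup G) then (ψ : G → ℂ) (1 * u) else 0)) :=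
      memLocalRing_of_isIntegral hM (map_isIntegral_int (starRingEnd ℂ)
        (isIntegral_avg_char (Helper74.IrrCharacter.isCharacter ψ) (P : Subgroup G) 1
          (by intro u _; simp)))
    have := MemLocalIdeal.mul_right hM h1 (MemLocalRing.mul hM h2 h3)
    convert this using 1
    rw [irr_one_eq]; ring
  · unfold cfun
    rw [omega_regPart_conj_eq_zero h hB hχ hψ]
    simpa using memLocalIdeal_zero hM

end Cfsg.Agent.Lib.Helper78
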