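import Mathlib
import Cfsg.Prelude.Def_Blocks
import Cfsg.Agent.Lib.Helper78.RegInner
import Cfsg.Agent.Lib.Helper16.HeightT
import Cfsg.Agent.Lib.Helper15.Ind
import Cfsg.Agent.Lib.Helper80.Induced

/-!
# Induced blocks and regular truncations (helper78): S4428, S4430, S4431
-/

set_option autoImplicit false

namespace Cfsg.Agent.Lib.Helper78

open Cfsg
open scoped ComplexConjugate

variable {M : Ideal AlgInt}

section One
variable {G : Type*} [Group G] [Fintype G]

open Classical in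
theorem blockPart_apply (B : Set (IrrCharacter G)) (ϑ : G → ℂ) (g : G) :
    blockPart B ϑ g = ∑ χ : IrrCharacter G,
      if χ ∈ B then classInner ϑ (χ : G → ℂ) * (χ : G → ℂ) g else 0 := by
  unfold blockPart
  rw [finsum_mem_irr]
  refine Finset.sum_congr rfl fun χ _ => ?_
  split_ifs
  · rw [Helper15.classInner_inst]
  · rfl

/-- `[χ̃, ξ] = ξ(1) ω_ξ(c_χ)` for `χ` with `χ(g⁻¹) = conj χ(g)`. -/
theorem classInner_tilde_eq (p : ℕ) {χ : G → ℂ} (hχ : ∀ g, χ g⁻¹ = conj (χ g))
    (ξ : IrrCharacter G) :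
    classInner (tilde p χ) (ξ : G → ℂ) = (ξ : G → ℂ) 1 * omega (ξ : G → ℂ) (cfun p χ) := by
  unfold classInner omega
  rw [mul_div_cancel₀ _ (irr_one_ne_zero ξ), Finset.mul_sum]
  refine Fintype.sum_equiv (Equiv.inv G) _ _ fun g => ?_
  simp only [Equiv.inv_apply]
  unfold tilde cfun regPart
  rw [orderOf_inv]
  split_ifs
  · simp
  · simp only
    rw [← hχ, inv_inv, irr_inv]
    ring

end One

section Two
variable {G : Type*} [Group G] [Fintype G]
variable (H : Subgroup G) [Fintype H]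

/-- S4431 in `ω` form. -/
theorem classInner_tilde_res_div (p : ℕ) (χ : IrrCharacter G) (ψ : IrrCharacter H) :
    classInner (tilde p (fun h : H => (χ : G → ℂ) h)) (ψ : H → ℂ) / (ψ : H → ℂ) 1 =
      ((p ^ (Nat.card H).factorization p : ℕ) : ℂ) / ((Nat.card H : ℕ) : ℂ) *
        omega (ψ : H → ℂ) (fun x : H => Helper16.rcF p (χ : G → ℂ) x) := by
  rw [classInner_tilde_eq p (fun g => by simpa using irr_inv χ (g : G)),
    mul_div_cancel_left₀ _ (irr_one_ne_zero ψ), ← omega_smul]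
  congr 1
  ext x
  simp only [cfun, regPart, Helper16.rcF, Pi.smul_apply, smul_eq_mul, Subgroup.orderOf_coe]
  split_ifs <;> simp

theorem unit_card_div {p : ℕ} (h : IsPModular p M) (n : ℕ) (hn : n ≠ 0) :
    MemLocalRing M (((p ^ n.factorization p : ℕ) : ℂ) / ((n : ℕ) : ℂ)) ∧
      ¬ MemLocalIdeal M (((p ^ n.factorization p : ℕ) : ℂ) / ((n : ℕ) : ℂ)) := by
  have h1 : n.factorization p = (p ^ n.factorization p).factorization p := by
    rw [Nat.Prime.factorization_pow h.1, Finsupp.single_eq_same]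
  exact ⟨memLocalRing_natCast_div h hn h1.le,
    not_memLocalIdeal_natCast_div h (pow_ne_zero _ h.1.ne_zero) hn h1⟩

theorem memLocalIdeal_classInner_tilde_res {p : ℕ} (h : IsPModular p M)
    {b : Set (IrrCharacter H)} {B₀ : Set (IrrCharacter G)} (hind : IsInducedBlock M H b B₀)
    (χ : IrrCharacter G) {ψ : IrrCharacter H} (hψ : ψ ∈ b) (hχ : χ ∉ B₀) :
    MemLocalIdeal M (classInner (tilde p (fun h : H => (χ : G → ℂ) h)) (ψ : H → ℂ) /
      (ψ : H → ℂ) 1) := by
  have hM := pmod_isPrime h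
  rw [classInner_tilde_res_div]
  refine MemLocalIdeal.mul_left hM (unit_card_div h _ Nat.card_pos.ne').1 ?_
  obtain ⟨χ', hχ'⟩ := IsPBlock.nonempty hM hind.2.1
  have h1 := Helper16.memLocalIdeal_omega_res_sub H h hind hψ hχ'
    (Helper16.rcF_isClassFunction p (irr_isClassFunction χ)) (Helper16.rcF_mem hM p χ)
  have h2 : χ' ∉ blockOf M (χ : G → ℂ) := by
    intro hmem
    apply hχ
    exact IsPBlock.mem_of_sameBlock hM hind.2.1 hχ' (sameBlock_symm hmem)
  rw [Helper16.omega_rcF_eq_zero h (isPBlock_blockOf χ) (mem_blockOf_self hM χ) h2, sub_zero] at h1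
  exact h1

theorem not_memLocalIdeal_classInner_tilde_res {p : ℕ} (h : IsPModular p M)
    {b : Set (IrrCharacter H)} {B₀ : Set (IrrCharacter G)} (hind : IsInducedBlock M H b B₀)
    (χ : IrrCharacter G) {ψ : IrrCharacter H} (hψ : ψ ∈ b) (hχ : χ ∈ B₀)
    (h0 : blockHeight p B₀ (χ : G → ℂ) = 0) :
    ¬ MemLocalIdeal M (classInner (tilde p (fun h : H => (χ : G → ℂ) h)) (ψ : H → ℂ) /
      (ψ : H → ℂ) 1) := by
  have hM := pmod_isPrime h
  rw [classInner_tilde_res_div]
  have h1 := Helper16.memLocalIdeal_omega_res_sub H h hind hψ hχ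
    (Helper16.rcF_isClassFunction p (irr_isClassFunction χ)) (Helper16.rcF_mem hM p χ)
  have h2 := Helper16.omega_rcF_unit h hind.2.1 hχ h0
  have h3 : ¬ MemLocalIdeal M (omega (ψ : H → ℂ) (fun x : H => Helper16.rcF p (χ : G → ℂ) x)) := by
    rwa [MemLocalIdeal.congr hM h1]
  have h4 : MemLocalRing M (omega (ψ : H → ℂ) (fun x : H => Helper16.rcF p (χ : G → ℂ) x)) :=
    memLocalRing_omega hM ψ
      (fun g x => Helper16.rcF_isClassFunction p (irr_isClassFunction χ) g x)
      (fun x => Helper16.rcF_mem hM p χ x)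
  rw [memLocalIdeal_mul_iff hM (unit_card_div h _ Nat.card_pos.ne').1 h4]
  rintro (h5 | h5)
  · exact (unit_card_div h _ Nat.card_pos.ne').2 h5
  · exact h3 h5

end Two

end Cfsg.Agent.Lib.Helper78
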