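import Mathlib
import Cfsg.Prelude.Def_Blocks
import Cfsg.Agent.Lib.Helper78.IndBlock

/-!
# Block parts of induced characters, height zero subsections (helper78): S4430, S4428
-/

set_option autoImplicit false

namespace Cfsg.Agent.Lib.Helper78

open Cfsg
open scoped ComplexConjugate

variable {M : Ideal AlgInt}

variable {G : Type*} [Group G] [Fintype G]
variable (H : Subgroup G) [Fintype H]

open Classical in
theorem exists_nat_blockPart_one (B : Set (IrrCharacter G)) {ϑ : G → ℂ} (hϑ : IsCharacter G ϑ) :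
    ∃ n : ℕ, blockPart B ϑ 1 = n := by
  choose m hm using Helper74.IsCharacter.classInner_irr_nat hϑ
  refine ⟨∑ χ : IrrCharacter G, if χ ∈ B then m χ * charDegree (χ : G → ℂ) else 0, ?_⟩
  rw [blockPart_apply]
  push_cast
  refine Finset.sum_congr rfl fun χ _ => ?_
  split_ifs
  · rw [hm, irr_one_eq]
  · rfl

open Classical in
theorem blockPart_indFun_one (B : Set (IrrCharacter G)) (ξ : IrrCharacter H) :
    blockPart B (indFun H (ξ : H → ℂ)) 1 =
      ((charDegree (indFun H (ξ : H → ℂ)) : ℕ) : ℂ) *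
        omega (ξ : H → ℂ) (fun x : H => blockCoeff B x) := by
  have hcardG : (Fintype.card G : ℂ) ≠ 0 := by exact_mod_cast Fintype.card_ne_zero
  have hcardH : (Nat.card H : ℂ) ≠ 0 := by exact_mod_cast Nat.card_pos.ne'
  rw [blockPart_apply, Helper80.charDegree_indFun H (Helper74.IrrCharacter.isCharacter ξ)]
  have hidx : ((H.index * charDegree (ξ : H → ℂ) : ℕ) : ℂ) =
      (Fintype.card G : ℂ) / (Nat.card H : ℂ) * (ξ : H → ℂ) 1 := by
    rw [irr_one_eq]
    push_cast
    congr 1
    rw [eq_div_iff hcardH, ← Nat.cast_mul, H.index_mul_card, Nat.card_eq_fintype_card]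
  rw [hidx]
  unfold omega
  rw [mul_assoc, mul_div_cancel₀ _ (irr_one_ne_zero ξ)]
  simp only [blockCoeff_eq_sum]
  have : ∀ χ : IrrCharacter G, (if χ ∈ B then classInner (indFun H (ξ : H → ℂ)) (χ : G → ℂ) *
      (χ : G → ℂ) 1 else 0) = ∑ x : H, (Nat.card H : ℂ)⁻¹ * ((if χ ∈ B then (1 : ℂ) else 0) *
        ((χ : G → ℂ) 1 * conj ((χ : G → ℂ) x)) * (ξ : H → ℂ) x) := by
    intro χ
    split_ifs
    · rw [Helper15.classInner_indFun_left H _ _ (irr_isClassFunction χ)]
      unfold classInner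
      rw [Finset.mul_sum, Finset.sum_mul]
      refine Finset.sum_congr rfl fun x _ => ?_
      ring
    · simp
  simp only [this]
  rw [Finset.sum_comm, Finset.mul_sum]
  refine Finset.sum_congr rfl fun x _ => ?_
  rw [← Finset.mul_sum, ← Finset.sum_mul]
  field_simp

theorem blockPart_indFun_induced {p : ℕ} (h : IsPModular p M)
    {b : Set (IrrCharacter H)} {B₀ : Set (IrrCharacter G)} (hind : IsInducedBlock M H b B₀)
    {ξ : IrrCharacter H} (hξ : ξ ∈ b) :
    ∃ n : ℕ, blockPart B₀ (indFun H (ξ : H → ℂ)) 1 = (n : ℂ) ∧ n ≠ 0 ∧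
      n.factorization p = (charDegree (indFun H (ξ : H → ℂ))).factorization p := by
  classical
  have hM := pmod_isPrime h
  have hchar := Helper3.isCharacter_indFun H (Helper74.IrrCharacter.isCharacter ξ)
  obtain ⟨n, hn⟩ := exists_nat_blockPart_one B₀ hchar
  obtain ⟨χ', hχ'⟩ := IsPBlock.nonempty hM hind.2.1
  have h1 := Helper16.memLocalIdeal_omega_res_sub H h hind hξ hχ'
    (blockCoeff_isClassFunction B₀) (memLocalRing_blockCoeff hM hind.2.1)
  rw [omega_blockCoeff, if_pos hχ'] at h1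
  have hdeg : charDegree (indFun H (ξ : H → ℂ)) ≠ 0 := by
    rw [Helper80.charDegree_indFun H (Helper74.IrrCharacter.isCharacter ξ)]
    exact Nat.mul_ne_zero Subgroup.index_ne_zero_of_finite (irr_charDegree_pos ξ).ne'
  have hdeg' : ((charDegree (indFun H (ξ : H → ℂ)) : ℕ) : ℂ) ≠ 0 := by exact_mod_cast hdeg
  have h2 : omega (ξ : H → ℂ) (fun x : H => blockCoeff B₀ x) =
      (n : ℂ) / ((charDegree (indFun H (ξ : H → ℂ)) : ℕ) : ℂ) := by
    rw [← hn, blockPart_indFun_one, mul_div_cancel_left₀ _ hdeg']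
  rw [h2] at h1
  have h3 : ¬ MemLocalIdeal M ((n : ℂ) / ((charDegree (indFun H (ξ : H → ℂ)) : ℕ) : ℂ)) := by
    rw [MemLocalIdeal.congr hM h1]
    exact not_memLocalIdeal_one hM
  have h4 : MemLocalRing M ((n : ℂ) / ((charDegree (indFun H (ξ : H → ℂ)) : ℕ) : ℂ)) :=
    (MemLocalRing.congr hM h1).2 (memLocalRing_one hM)
  have hn0 : n ≠ 0 := by
    rintro rfl
    apply h3
    simpa using memLocalIdeal_zero hM
  exact ⟨n, hn, hn0, factorization_eq_of_unit h hn0 hdeg h4 h3⟩

theorem blockPart_indFun_other {p : ℕ} (h : IsPModular p M)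
    {b : Set (IrrCharacter H)} {B₀ : Set (IrrCharacter G)} (hind : IsInducedBlock M H b B₀)
    {ξ : IrrCharacter H} (hξ : ξ ∈ b) {B : Set (IrrCharacter G)} (hB : IsPBlock M B)
    (hne : B ≠ B₀) :
    ∃ n : ℕ, blockPart B (indFun H (ξ : H → ℂ)) 1 = (n : ℂ) ∧ (n = 0 ∨
      (charDegree (indFun H (ξ : H → ℂ))).factorization p < n.factorization p) := by
  classical
  have hM := pmod_isPrime h
  have hchar := Helper3.isCharacter_indFun H (Helper74.IrrCharacter.isCharacter ξ)
  obtain ⟨n, hn⟩ := exists_nat_blockPart_one B hchar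
  obtain ⟨χ', hχ'⟩ := IsPBlock.nonempty hM hind.2.1
  have hχ'B : χ' ∉ B := fun hmem => hne (IsPBlock.eq_of_mem_mem hM hB hind.2.1 hmem hχ')
  have h1 := Helper16.memLocalIdeal_omega_res_sub H h hind hξ hχ'
    (blockCoeff_isClassFunction B) (memLocalRing_blockCoeff hM hB)
  rw [omega_blockCoeff, if_neg hχ'B, sub_zero] at h1
  have hdeg : charDegree (indFun H (ξ : H → ℂ)) ≠ 0 := by
    rw [Helper80.charDegree_indFun H (Helper74.IrrCharacter.isCharacter ξ)]
    exact Nat.mul_ne_zero Subgroup.index_ne_zero_of_finite (irr_charDegree_pos ξ).ne'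
  have hdeg' : ((charDegree (indFun H (ξ : H → ℂ)) : ℕ) : ℂ) ≠ 0 := by exact_mod_cast hdeg
  have h2 : omega (ξ : H → ℂ) (fun x : H => blockCoeff B x) =
      (n : ℂ) / ((charDegree (indFun H (ξ : H → ℂ)) : ℕ) : ℂ) := by
    rw [← hn, blockPart_indFun_one, mul_div_cancel_left₀ _ hdeg']
  rw [h2] at h1
  refine ⟨n, hn, ?_⟩
  by_contra hcon
  push Not at hcon
  obtain ⟨hn0, hle⟩ := hcon
  have h3 := memLocalRing_natCast_div h hn0 hle
  have h4 := MemLocalIdeal.mul_left hM h3 h1
  have hn0' : (n : ℂ) ≠ 0 := by exact_mod_cast hn0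
  rw [div_mul_div_cancel₀ hn0', div_self hdeg'] at h4
  exact not_memLocalIdeal_one hM h4

open Classical in
/-- The regular inner product with `ψ ∈ b` only sees the `b`-part. -/
theorem sum_regular_blockPart {X : Type*} [Group X] [Fintype X] {p : ℕ} (h : IsPModular p M)
    {b : Set (IrrCharacter X)} (hb : IsPBlock M b) {ψ : IrrCharacter X} (hψ : ψ ∈ b)
    {ϑ : X → ℂ} (hϑ : IsClassFunction X ϑ) :
    ∑ c : X, (if ¬ p ∣ orderOf c then ϑ c * conj ((ψ : X → ℂ) c) else 0) =
      ∑ c : X, (if ¬ p ∣ orderOf c then blockPart b ϑ c * conj ((ψ : X → ℂ) c) else 0) := by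
  have hexp := Helper3.classFunction_expansion hϑ
  have e1 : ∀ c : X, (if ¬ p ∣ orderOf c then ϑ c * conj ((ψ : X → ℂ) c) else 0) =
      ∑ ξ : IrrCharacter X, classInner ϑ (ξ : X → ℂ) *
        (if ¬ p ∣ orderOf c then (ξ : X → ℂ) c * conj ((ψ : X → ℂ) c) else 0) := by
    intro c
    by_cases hc : p ∣ orderOf c
    · simp [hc]
    · simp only [if_pos hc]
      conv_lhs => rw [hexp]
      rw [Finset.sum_apply, Finset.sum_mul]
      refine Finset.sum_congr rfl fun ξ _ => ?_
      rw [Pi.smul_apply, smul_eq_mul, mul_assoc]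
  have e2 : ∀ c : X, (if ¬ p ∣ orderOf c then blockPart b ϑ c * conj ((ψ : X → ℂ) c) else 0) =
      ∑ ξ : IrrCharacter X, (if ξ ∈ b then classInner ϑ (ξ : X → ℂ) *
        (if ¬ p ∣ orderOf c then (ξ : X → ℂ) c * conj ((ψ : X → ℂ) c) else 0) else 0) := by
    intro c
    by_cases hc : p ∣ orderOf c
    · simp [hc]
    · simp only [if_pos hc]
      rw [blockPart_apply, Finset.sum_mul]
      refine Finset.sum_congr rfl fun ξ _ => ?_
      split_ifs
      · rw [mul_assoc]
      · rw [zero_mul]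
  simp only [e1, e2]
  rw [Finset.sum_comm, Finset.sum_comm (s := Finset.univ (α := X))]
  refine Finset.sum_congr rfl fun ξ _ => ?_
  by_cases hξ : ξ ∈ b
  · simp only [if_pos hξ]
  · simp only [if_neg hξ, Finset.sum_const_zero]
    rw [← Finset.mul_sum]
    have h1 := sum_regular_eq_zero h hb hψ hξ
    have h2 := congrArg conj h1
    rw [map_zero, map_sum] at h2
    have h3 : ∑ c : X, (if ¬ p ∣ orderOf c then (ξ : X → ℂ) c * conj ((ψ : X → ℂ) c) else 0) = 0 := by
      refine Eq.trans ?_ h2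
      refine Finset.sum_congr rfl fun c _ => ?_
      by_cases hc : p ∣ orderOf c
      · simp [hc]
      · rw [if_pos hc, if_pos hc, map_mul, Complex.conj_conj, mul_comm]
    rw [h3, mul_zero]

open Classical in
/-- S4428: height zero characters have non-vanishing subsection parts. -/
theorem exists_regular_blockPart_ne_zero {p : ℕ} (h : IsPModular p M)
    {b : Set (IrrCharacter H)} {B : Set (IrrCharacter G)} (hind : IsInducedBlock M H b B)
    {χ : IrrCharacter G} (hχ : χ ∈ B) (h0 : blockHeight p B (χ : G → ℂ) = 0)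
    {x : G} {k : ℕ} (hx : x ^ p ^ k = 1) (hxH : ∀ c ∈ H, Commute x c) :
    ∃ y : H, ¬ p ∣ orderOf y ∧ blockPart b (fun c : H => (χ : G → ℂ) (x * (c : G))) y ≠ 0 := by
  have hM := pmod_isPrime h
  by_contra hcon
  push Not at hcon
  obtain ⟨ψ, hψ⟩ := IsPBlock.nonempty hM hind.1
  set ϑ : H → ℂ := fun c : H => (χ : G → ℂ) (x * (c : G)) with hϑ
  have hϑcl : IsClassFunction H ϑ := by
    intro c t
    simp only [hϑ]
    have h1 : x * ((t * c * t⁻¹ : H) : G) = (t : G) * (x * (c : G)) * (t : G)⁻¹ := by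
      have := (hxH t t.2).eq
      push_cast
      calc x * ((t : G) * (c : G) * (t : G)⁻¹) = (x * (t : G)) * (c : G) * (t : G)⁻¹ := by group
        _ = ((t : G) * x) * (c : G) * (t : G)⁻¹ := by rw [this]
        _ = _ := by group
    rw [h1, irr_isClassFunction χ]
  set A1 : H → ℂ := regPart p (fun c : H => (χ : G → ℂ) (x * (c : G)⁻¹)) with hA1
  have hA1cl : IsClassFunction H A1 := by
    refine regPart_isClassFunction p ?_
    intro c t
    have := hϑcl c⁻¹ t
    simp only [hϑ] at this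
    simp only
    have e1 : ((t * c * t⁻¹ : H) : G)⁻¹ = ((t * c⁻¹ * t⁻¹ : H) : G) := by
      push_cast
      group
    have e2 : (c : G)⁻¹ = ((c⁻¹ : H) : G) := by push_cast; rfl
    rw [e1, e2]
    exact this
  have hA1R : ∀ c, MemLocalRing M (A1 c) := by
    intro c
    rw [hA1]; unfold regPart
    split_ifs
    · exact memLocalRing_zero hM
    · exact memLocalRing_irr hM χ _
  -- (2) ω_ψ(A1) = 0
  have hzero : omega (ψ : H → ℂ) A1 = 0 := by
    unfold omega
    have e1 : ∑ c : H, A1 c * (ψ : H → ℂ) c =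
        ∑ c : H, (if ¬ p ∣ orderOf c then ϑ c * conj ((ψ : H → ℂ) c) else 0) := by
      refine Fintype.sum_equiv (Equiv.inv H) _ _ fun c => ?_
      simp only [Equiv.inv_apply, hA1, regPart, hϑ, orderOf_inv]
      by_cases hc : p ∣ orderOf c
      · simp [hc]
      · rw [if_neg hc, if_pos hc, ← irr_inv, inv_inv]
        push_cast
        rfl
    rw [e1, sum_regular_blockPart h hind.1 hψ hϑcl]
    rw [Finset.sum_eq_zero, zero_div]
    intro c _
    by_cases hc : p ∣ orderOf c
    · simp [hc]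
    · rw [if_pos hc, hcon c hc, zero_mul]
  -- (1) ω_ψ(A1) is a unit
  have hA2cl : IsClassFunction H (fun c : H => Helper16.rcF p (χ : G → ℂ) c) :=
    fun g t => Helper16.rcF_isClassFunction p (irr_isClassFunction χ) g t
  have hdiff : MemLocalIdeal M (omega (ψ : H → ℂ) A1 -
      omega (ψ : H → ℂ) (fun c : H => Helper16.rcF p (χ : G → ℂ) c)) := by
    rw [← omega_sub]
    refine memLocalIdeal_omega hM ψ ?_ ?_
    · intro c t
      have := hA2cl c t
      simp only at this
      rw [Pi.sub_apply, Pi.sub_apply, hA1cl, this]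
    · intro c
      rw [Pi.sub_apply, hA1]
      simp only [regPart, Helper16.rcF, Subgroup.orderOf_coe]
      split_ifs
      · simpa using memLocalIdeal_zero hM
      · rw [← irr_inv]
        exact memLocalIdeal_char_mul_sub h (Helper74.IrrCharacter.isCharacter χ)
          ((hxH c c.2).inv_right) hx
  have h1 := Helper16.memLocalIdeal_omega_res_sub H h hind hψ hχ
    (Helper16.rcF_isClassFunction p (irr_isClassFunction χ)) (Helper16.rcF_mem hM p χ)
  have h2 := Helper16.omega_rcF_unit h hind.2.1 hχ h0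
  rw [← MemLocalIdeal.congr hM h1, ← MemLocalIdeal.congr hM hdiff, hzero] at h2
  exact h2 (memLocalIdeal_zero hM)

end Cfsg.Agent.Lib.Helper78
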