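import Mathlib
import Cfsg.Agent.Lib.Helper76.Galois
import Cfsg.Agent.Lib.Helper76.GaloisChar

/-!
# A package of Galois automorphisms indexed by `(ZMod n)ˣ` (helper78)
-/

set_option autoImplicit false

namespace Cfsg.Agent.Lib.Helper78

open scoped ComplexConjugate

/-- the ring generated by the `n`-th roots of unity -/
def rootRing (n : ℕ) : Subring ℂ := Subring.closure {w : ℂ | w ^ n = 1}

theorem mem_rootRing_of_pow {n : ℕ} {w : ℂ} (hw : w ^ n = 1) : w ∈ rootRing n :=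
  Subring.subset_closure hw

theorem galois_pkg_aux (n : ℕ) [NeZero n] (K : Type) [Field K] [NumberField K]
    [IsCyclotomicExtension {n} ℚ K] :
    ∃ τ : (ZMod n)ˣ → (ℂ ≃+* ℂ),
      (∀ j w, w ^ n = 1 → τ j w = w ^ (j : ZMod n).val) ∧
      (∀ α ∈ rootRing n, α ≠ 0 → (Fintype.card (ZMod n)ˣ : ℝ) ≤ ∑ j, ‖τ j α‖ ^ 2) := by
  have hn : 0 < n := Nat.pos_of_ne_zero (NeZero.ne n)
  have hex : ∀ j : (ZMod n)ˣ, ∃ τ : ℂ ≃+* ℂ, ∀ w : ℂ, w ^ n = 1 → τ w = w ^ (j : ZMod n).val :=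
    fun j => Helper76.exists_ringAut_complex n hn _ (ZMod.val_coe_unit_coprime j)
  choose τ hτ using hex
  refine ⟨τ, hτ, ?_⟩
  have hgal : IsGalois ℚ K := IsCyclotomicExtension.isGalois {n} ℚ K
  let ζK : K := IsCyclotomicExtension.zeta n ℚ K
  have hζK : IsPrimitiveRoot ζK n := IsCyclotomicExtension.zeta_spec n ℚ K
  have hne : Nonempty (K →ₐ[ℚ] ℂ) := ⟨IsAlgClosed.lift⟩
  obtain ⟨σ₀⟩ := hne
  have hζ : IsPrimitiveRoot (σ₀ ζK) n := hζK.map_of_injective σ₀.toRingHom.injective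
  let E := IsCyclotomicExtension.Rat.galEquivZMod n K
  have key : ∀ α ∈ rootRing n, ∃ x : K, IsIntegral ℤ x ∧
      ∀ g : Gal(K/ℚ), σ₀ (g x) = τ (E g) α := by
    intro α hα
    induction hα using Subring.closure_induction with
    | mem w hw =>
      obtain ⟨a, _, ha⟩ := hζ.eq_pow_of_pow_eq_one hw
      refine ⟨ζK ^ a, (hζK.isIntegral hn).pow _, fun g => ?_⟩
      have h1 : (ζK ^ a) ^ n = 1 := by
        rw [← pow_mul, mul_comm, pow_mul, hζK.pow_eq_one, one_pow]
      rw [IsCyclotomicExtension.Rat.galEquivZMod_apply_of_pow_eq n K g h1, hτ _ w hw, map_pow,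
        map_pow, ha]
    | zero => exact ⟨0, isIntegral_zero, fun g => by simp⟩
    | one => exact ⟨1, isIntegral_one, fun g => by simp⟩
    | add a b _ _ iha ihb =>
      obtain ⟨x, hx, hx2⟩ := iha
      obtain ⟨y, hy, hy2⟩ := ihb
      exact ⟨x + y, hx.add hy, fun g => by rw [map_add, map_add, map_add, hx2, hy2]⟩
    | neg a _ iha =>
      obtain ⟨x, hx, hx2⟩ := iha
      exact ⟨-x, hx.neg, fun g => by rw [map_neg, map_neg, map_neg, hx2]⟩
    | mul a b _ _ iha ihb =>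
      obtain ⟨x, hx, hx2⟩ := iha
      obtain ⟨y, hy, hy2⟩ := ihb
      exact ⟨x * y, hx.mul hy, fun g => by rw [map_mul, map_mul, map_mul, hx2, hy2]⟩
  intro α hα hα0
  obtain ⟨x, hint, hx⟩ := key α hα
  have hτ0 : ∀ j, τ j α ≠ 0 := fun j h => hα0 ((map_eq_zero_iff _ (τ j).injective).1 h)
  have hx0 : x ≠ 0 := by
    rintro rfl
    have := hx 1
    simp only [map_zero] at this
    exact hτ0 _ this.symm
  have hnorm : IsIntegral ℤ (Algebra.norm ℚ x) := Algebra.isIntegral_norm ℚ hint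
  obtain ⟨z, hz⟩ := IsIntegrallyClosed.isIntegral_iff.mp hnorm
  have hz0 : z ≠ 0 := by
    rintro rfl
    simp only [map_zero] at hz
    exact hx0 (Algebra.norm_eq_zero_iff.mp hz.symm)
  have hprod : ∏ j : (ZMod n)ˣ, τ j α = (z : ℂ) := by
    have h1 := Algebra.norm_eq_prod_automorphisms ℚ x
    have h2 := congrArg σ₀ h1
    rw [map_prod, ← hz] at h2
    rw [← Equiv.prod_comp E.toEquiv]
    have h3 : ∏ g : Gal(K/ℚ), τ (E.toEquiv g) α = ∏ g : Gal(K/ℚ), σ₀ (g x) :=
      Finset.prod_congr rfl fun g _ => (hx g).symm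
    rw [h3, ← h2]
    simp
  apply Helper76.card_le_sum_of_one_le_prod
  · intro j
    have := norm_pos_iff.mpr (hτ0 j)
    positivity
  · rw [Finset.prod_pow, ← norm_prod, hprod]
    have h1 : (1 : ℝ) ≤ ‖(z : ℂ)‖ := by
      rw [Complex.norm_intCast]
      have : (1 : ℤ) ≤ |z| := Int.one_le_abs hz0
      exact_mod_cast this
    nlinarith

theorem galois_pkg (n : ℕ) [NeZero n] :
    ∃ τ : (ZMod n)ˣ → (ℂ ≃+* ℂ),
      (∀ j w, w ^ n = 1 → τ j w = w ^ (j : ZMod n).val) ∧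
      (∀ α ∈ rootRing n, α ≠ 0 → (Fintype.card (ZMod n)ˣ : ℝ) ≤ ∑ j, ‖τ j α‖ ^ 2) := by
  have h1 : @IsCyclotomicExtension {n} ℚ (CyclotomicField n ℚ) _ _ (CyclotomicField.algebra n ℚ) :=
    CyclotomicField.isCyclotomicExtension n ℚ
  have h2 : (CyclotomicField.algebra n ℚ) = DivisionRing.toRatAlgebra := Subsingleton.elim _ _
  rw [h2] at h1
  have h3 : NumberField (CyclotomicField n ℚ) := IsCyclotomicExtension.numberField {n} ℚ _
  exact galois_pkg_aux n (CyclotomicField n ℚ)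

/-- an automorphism which acts on the `n`-th roots of unity by a power map commutes with complex
conjugation on `rootRing n` -/
theorem map_conj_of_mem_rootRing {n : ℕ} (hn : 0 < n) (τ : ℂ ≃+* ℂ) (k : ℕ)
    (hτ : ∀ w : ℂ, w ^ n = 1 → τ w = w ^ k) {α : ℂ} (hα : α ∈ rootRing n) :
    τ (conj α) = conj (τ α) := by
  have h : Set.EqOn ((τ : ℂ →+* ℂ).comp (starRingEnd ℂ)) ((starRingEnd ℂ).comp (τ : ℂ →+* ℂ))
      {w : ℂ | w ^ n = 1} := by
    intro w hw
    have hw' : w ^ n = 1 := hw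
    have hnorm : ‖w‖ = 1 := Complex.norm_eq_one_of_pow_eq_one hw' hn.ne'
    have hc : conj w = w⁻¹ := (Complex.inv_eq_conj hnorm).symm
    have hwk : (w ^ k) ^ n = 1 := by rw [← pow_mul, mul_comm, pow_mul, hw', one_pow]
    have hnorm2 : ‖w ^ k‖ = 1 := Complex.norm_eq_one_of_pow_eq_one hwk hn.ne'
    simp only [RingHom.comp_apply, RingHom.coe_coe]
    rw [hc, map_inv₀, hτ w hw', (Complex.inv_eq_conj hnorm2)]
  exact RingHom.eqOn_set_closure h hα

theorem conj_mem_rootRing {n : ℕ} {α : ℂ} (hα : α ∈ rootRing n) :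
    conj α ∈ rootRing n := by
  induction hα using Subring.closure_induction with
  | mem w hw =>
    apply mem_rootRing_of_pow
    have hw' : w ^ n = 1 := hw
    rw [← map_pow, hw', map_one]
  | zero => simp
  | one => simp
  | add a b _ _ iha ihb => rw [map_add]; exact Subring.add_mem _ iha ihb
  | neg a _ iha => rw [map_neg]; exact Subring.neg_mem _ iha
  | mul a b _ _ iha ihb => rw [map_mul]; exact Subring.mul_mem _ iha ihb

end Cfsg.Agent.Lib.Helper78
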