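import Mathlib
import Cfsg.Prelude.Def_Blocks
import Cfsg.Agent.Lib.Helper78.RegInner

/-!
# Consequences of Brauer's characterisation for `χ̃` (helper78)
-/

set_option autoImplicit false

namespace Cfsg.Agent.Lib.Helper78

open Cfsg
open scoped ComplexConjugate

variable {M : Ideal AlgInt}
variable {G : Type*} [Group G] [Fintype G]

theorem exists_int_classInner_tilde (hBr : BrauerChar G) {p : ℕ} (hp : p.Prime)
    (χ ψ : IrrCharacter G) : ∃ n : ℤ, classInner (tilde p (χ : G → ℂ)) (ψ : G → ℂ) = n :=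
  (Helper3.isGeneralizedCharacter_iff.1
    (isGeneralizedCharacter_regPart hBr hp (Helper74.IrrCharacter.isCharacter χ))).2 ψ

/-- `[χ̃, ψ] / χ(1)` is a local integer. -/
theorem memLocalRing_classInner_tilde_div {p : ℕ} (h : IsPModular p M) (χ ψ : IrrCharacter G) :
    MemLocalRing M (classInner (tilde p (χ : G → ℂ)) (ψ : G → ℂ) / (χ : G → ℂ) 1) := by
  have hM := pmod_isPrime h
  rw [classInner_tilde_symm, conj_classInner_tilde, mul_div_cancel_left₀ _ (irr_one_ne_zero χ)]
  exact memLocalRing_omega hM χ (cfun_isClassFunction p (irr_isClassFunction ψ))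
    (cfun_memLocalRing h ψ)

theorem pow_dvd_of_classInner_tilde {p : ℕ} (hp : p.Prime) (χ ψ : IrrCharacter G) {n : ℤ}
    (hn : classInner (tilde p (χ : G → ℂ)) (ψ : G → ℂ) = n) :
    ((p ^ (charDegree (χ : G → ℂ)).factorization p : ℕ) : ℤ) ∣ n := by
  obtain ⟨M, h⟩ := exists_isPModular p hp
  have h1 := memLocalRing_classInner_tilde_div h χ ψ
  rw [hn, irr_one_eq] at h1
  exact pow_factorization_dvd_of_memLocalRing h (irr_charDegree_pos χ).ne' h1

/-- S4424. -/
theorem tilde_eq_sum_block (hBr : BrauerChar G) {p : ℕ} (h : IsPModular p M)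
    {B : Set (IrrCharacter G)} (hB : IsPBlock M B) {χ : IrrCharacter G} (hχ : χ ∈ B) :
    ∃ a : IrrCharacter G → ℤ, (∀ ψ, ψ ∉ B → a ψ = 0) ∧
      tilde p (χ : G → ℂ) = fun x => ∑ ψ : IrrCharacter G, (a ψ : ℂ) * (ψ : G → ℂ) x := by
  choose a ha using exists_int_classInner_tilde hBr h.1 χ
  refine ⟨a, fun ψ hψ => ?_, ?_⟩
  · have := ha ψ
    rw [classInner_tilde_eq_zero h hB hχ hψ] at this
    exact_mod_cast this.symm
  · have := Helper3.classFunction_expansion (tilde_isClassFunction p (irr_isClassFunction χ))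
    conv_lhs => rw [this]
    ext x
    rw [Finset.sum_apply]
    refine Finset.sum_congr rfl fun ψ _ => ?_
    rw [Pi.smul_apply, smul_eq_mul, ha]

/-- S4425, positive part. -/
theorem isGeneralizedCharacter_tilde_div (hBr : BrauerChar G) {p : ℕ} (hp : p.Prime)
    (χ : IrrCharacter G) :
    IsGeneralizedCharacter G (fun x : G => if p ∣ orderOf x then (0 : ℂ) else
      ((p ^ ((Nat.card G).factorization p - (charDegree (χ : G → ℂ)).factorization p) : ℕ) : ℂ) *
        (χ : G → ℂ) x) := by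
  set b := (charDegree (χ : G → ℂ)).factorization p with hb
  have hba : b ≤ (Nat.card G).factorization p := factorization_charDegree_le p χ
  have hpb : ((p ^ b : ℕ) : ℂ) ≠ 0 := by exact_mod_cast pow_ne_zero _ hp.ne_zero
  have hf : (fun x : G => if p ∣ orderOf x then (0 : ℂ) else
      ((p ^ ((Nat.card G).factorization p - b) : ℕ) : ℂ) * (χ : G → ℂ) x) =
      ((p ^ b : ℕ) : ℂ)⁻¹ • tilde p (χ : G → ℂ) := by
    ext x
    rw [Pi.smul_apply, smul_eq_mul]
    unfold tilde
    split_ifs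
    · simp
    · rw [← mul_assoc]
      congr 1
      rw [eq_inv_mul_iff_mul_eq₀ hpb, ← Nat.cast_mul, ← pow_add, Nat.add_sub_cancel' hba]
  rw [hf, Helper3.isGeneralizedCharacter_iff]
  refine ⟨?_, fun ψ => ?_⟩
  · intro g x
    rw [Pi.smul_apply, Pi.smul_apply, tilde_isClassFunction p (irr_isClassFunction χ)]
  · obtain ⟨n, hn⟩ := exists_int_classInner_tilde hBr hp χ ψ
    obtain ⟨k, hk⟩ := pow_dvd_of_classInner_tilde hp χ ψ hn
    refine ⟨k, ?_⟩
    rw [Helper74.classInner_smul_left, hn, hk]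
    push_cast
    have : ((p : ℂ) ^ b) ≠ 0 := pow_ne_zero _ (by exact_mod_cast hp.ne_zero)
    rw [← hb]
    field_simp

open Classical in
/-- S4425, negative part. -/
theorem not_isGeneralizedCharacter_tilde_div {p : ℕ} (hp : p.Prime) (χ : IrrCharacter G) :
    ¬ IsGeneralizedCharacter G (fun x : G => if p ∣ orderOf x then (0 : ℂ) else
      ((p ^ (Nat.card G).factorization p : ℕ) : ℂ) /
        ((p ^ ((charDegree (χ : G → ℂ)).factorization p + 1) : ℕ) : ℂ) * (χ : G → ℂ) x) := by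
  rintro ⟨χ1, χ2, h1, h2, heq⟩
  obtain ⟨M, h⟩ := exists_isPModular p hp
  have hM := pmod_isPrime h
  haveI : Fact p.Prime := ⟨hp⟩
  obtain P : Sylow p G := default
  have hcardP : Nat.card (P : Subgroup G) = p ^ (Nat.card G).factorization p :=
    P.card_eq_multiplicity
  have i1 := isIntegral_avg_char h1 (P : Subgroup G) 1 (by intro u _; simp)
  have i2 := isIntegral_avg_char h2 (P : Subgroup G) 1 (by intro u _; simp)
  have i3 := memLocalRing_of_isIntegral hM (i1.sub i2)
  have hsing : ∀ u ∈ (P : Subgroup G), u ≠ 1 → p ∣ orderOf u := by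
    intro u hu hu1
    obtain ⟨k, hk⟩ := P.isPGroup' ⟨u, hu⟩
    have hk' : u ^ p ^ k = 1 := by
      have := congrArg Subtype.val hk
      simpa using this
    obtain ⟨j, -, hj⟩ := (Nat.dvd_prime_pow hp).1 (orderOf_dvd_of_pow_eq_one hk')
    rw [hj]
    refine dvd_pow_self p ?_
    rintro rfl
    rw [pow_zero, orderOf_eq_one_iff] at hj
    exact hu1 hj
  have hreg1 : ¬ p ∣ orderOf (1 : G) := by simp [hp.one_lt.ne']
  have hpa : ((p ^ (Nat.card G).factorization p : ℕ) : ℂ) ≠ 0 := by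
    exact_mod_cast pow_ne_zero _ hp.ne_zero
  have e1 : (Nat.card (P : Subgroup G) : ℂ)⁻¹ *
        (∑ u : G, if u ∈ (P : Subgroup G) then χ1 (1 * u) else 0) -
      (Nat.card (P : Subgroup G) : ℂ)⁻¹ *
        (∑ u : G, if u ∈ (P : Subgroup G) then χ2 (1 * u) else 0) =
      ((charDegree (χ : G → ℂ) : ℕ) : ℂ) /
        ((p ^ ((charDegree (χ : G → ℂ)).factorization p + 1) : ℕ) : ℂ) := by
    rw [← mul_sub, ← Finset.sum_sub_distrib]
    have : ∀ u : G, ((if u ∈ (P : Subgroup G) then χ1 (1 * u) else 0) -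
        (if u ∈ (P : Subgroup G) then χ2 (1 * u) else 0)) =
        if u ∈ (P : Subgroup G) then (χ1 - χ2) u else 0 := by
      intro u
      split_ifs <;> simp
    simp only [this]
    rw [← heq, Finset.sum_eq_single 1]
    · rw [if_pos (P : Subgroup G).one_mem]
      simp only
      rw [if_neg hreg1, hcardP, irr_one_eq]
      field_simp
    · intro u _ hu1
      by_cases hu : u ∈ (P : Subgroup G)
      · rw [if_pos hu]
        simp only
        rw [if_pos (hsing u hu hu1)]
      · rw [if_neg hu]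
    · intro h1; exact absurd (Finset.mem_univ _) h1
  rw [e1] at i3
  have h3 := memLocalIdeal_natCast_div h (a := p ^ ((charDegree (χ : G → ℂ)).factorization p + 1))
    (irr_charDegree_pos χ).ne' (by
      rw [Nat.Prime.factorization_pow hp, Finsupp.single_eq_same]; exact Nat.lt_succ_self _)
  have h4 := MemLocalIdeal.mul_right hM h3 i3
  have ha' : ((charDegree (χ : G → ℂ) : ℕ) : ℂ) ≠ 0 := by
    exact_mod_cast (irr_charDegree_pos χ).ne'
  have hb' : ((p ^ ((charDegree (χ : G → ℂ)).factorization p + 1) : ℕ) : ℂ) ≠ 0 := by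
    exact_mod_cast pow_ne_zero _ hp.ne_zero
  rw [div_mul_div_cancel₀ ha', div_self hb'] at h4
  exact not_memLocalIdeal_one hM h4

/-- The valuation condition of S4426 in terms of `ω_ξ(c_χ)`. -/
theorem val_cond_iff (hBr : BrauerChar G) {p : ℕ} (h : IsPModular p M) (χ ξ : IrrCharacter G) :
    (∃ n : ℤ, classInner (tilde p (χ : G → ℂ)) (ξ : G → ℂ) = (n : ℂ) ∧ n ≠ 0 ∧
      padicValInt p n = (charDegree (ξ : G → ℂ)).factorization p) ↔
    ¬ MemLocalIdeal M (omega (ξ : G → ℂ) (cfun p (χ : G → ℂ))) := by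
  have hM := pmod_isPrime h
  obtain ⟨n, hn⟩ := exists_int_classInner_tilde hBr h.1 χ ξ
  have h1 := conj_classInner_tilde p (χ : G → ℂ) ξ
  rw [hn, map_intCast] at h1
  have h2 : omega (ξ : G → ℂ) (cfun p (χ : G → ℂ)) =
      (n : ℂ) / ((charDegree (ξ : G → ℂ) : ℕ) : ℂ) := by
    rw [h1, ← irr_one_eq, mul_div_cancel_left₀ _ (irr_one_ne_zero ξ)]
  have h3 : MemLocalRing M ((n : ℂ) / ((charDegree (ξ : G → ℂ) : ℕ) : ℂ)) := by
    rw [← h2]
    exact memLocalRing_omega hM ξ (cfun_isClassFunction p (irr_isClassFunction χ))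
      (cfun_memLocalRing h χ)
  rw [h2, not_memLocalIdeal_intCast_div_iff h (irr_charDegree_pos ξ).ne' h3]
  constructor
  · rintro ⟨m, hm, hm0, hmv⟩
    have : m = n := by
      rw [hn] at hm
      exact_mod_cast hm.symm
    subst this
    exact ⟨hm0, hmv⟩
  · rintro ⟨hn0, hnv⟩
    exact ⟨n, hn, hn0, hnv⟩

theorem omega_cfun_unit_iff {p : ℕ} (h : IsPModular p M) {B : Set (IrrCharacter G)}
    (hB : IsPBlock M B) (χ : IrrCharacter G) {ξ ξ' : IrrCharacter G} (hξ : ξ ∈ B) (hξ' : ξ' ∈ B) :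
    MemLocalIdeal M (omega (ξ : G → ℂ) (cfun p (χ : G → ℂ))) ↔
      MemLocalIdeal M (omega (ξ' : G → ℂ) (cfun p (χ : G → ℂ))) := by
  have hM := pmod_isPrime h
  exact MemLocalIdeal.congr hM (memLocalIdeal_omega_sub hM (IsPBlock.sameBlock hM hB hξ hξ')
    (cfun_isClassFunction p (irr_isClassFunction χ)) (cfun_memLocalRing h χ))

/-- Height zero iff `ω_χ(c_χ)` is a local unit. -/
theorem height_zero_iff_omega_cfun (hBr : BrauerChar G) {p : ℕ} (h : IsPModular p M)
    {B : Set (IrrCharacter G)} (hB : IsPBlock M B) {χ : IrrCharacter G} (hχ : χ ∈ B) :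
    blockHeight p B (χ : G → ℂ) = 0 ↔
      ¬ MemLocalIdeal M (omega (χ : G → ℂ) (cfun p (χ : G → ℂ))) := by
  have hM := pmod_isPrime h
  haveI : Fact p.Prime := ⟨h.1⟩
  refine ⟨not_memLocalIdeal_omega_cfun h hB hχ, fun hU => ?_⟩
  obtain ⟨ξ, hξ, hξ0⟩ := exists_height_zero (p := p) (IsPBlock.nonempty hM hB)
  rw [omega_cfun_unit_iff h hB χ hχ hξ, ← val_cond_iff hBr h] at hU
  obtain ⟨n, hn, hn0, hnv⟩ := hU
  have h1 := pow_dvd_of_classInner_tilde h.1 χ ξ hn
  push_cast at h1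
  rw [padicValInt_dvd_iff] at h1
  have h2 := h1.resolve_left hn0
  rw [hnv, (blockHeight_eq_zero_iff hξ).1 hξ0] at h2
  rw [blockHeight_eq_zero_iff hχ]
  exact le_antisymm h2 (minDeg_le hχ)

end Cfsg.Agent.Lib.Helper78
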