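import Mathlib
import Cfsg.Prelude.Def_Blocks
import Cfsg.Agent.Lib.Helper78.RegInner2

/-!
# The contribution matrix `m_{χψ} = p^d [χ,ψ]°` of a block (helper78)

Everything relative to `BrauerChar G`.
-/

set_option autoImplicit false

namespace Cfsg.Agent.Lib.Helper78

open Cfsg
open scoped ComplexConjugate

variable {M : Ideal AlgInt}
variable {G : Type*} [Group G] [Fintype G]

theorem pow_succ_factorization_dvd_of_memLocalIdeal {p : ℕ} (h : IsPModular p M) {n : ℤ} {d : ℕ}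
    (hd : d ≠ 0) (hn : MemLocalIdeal M ((n : ℂ) / (d : ℂ))) :
    ((p : ℤ) ^ (d.factorization p + 1)) ∣ n := by
  haveI : Fact p.Prime := ⟨h.1⟩
  have hR := MemLocalIdeal.memLocalRing hn
  have h1 := pow_factorization_dvd_of_memLocalRing h hd hR
  push_cast at h1
  rw [padicValInt_dvd_iff] at h1 ⊢
  rcases h1 with h1 | h1
  · exact Or.inl h1
  · by_cases hn0 : n = 0
    · exact Or.inl hn0
    · right
      have h2 : ¬ (n ≠ 0 ∧ padicValInt p n = d.factorization p) :=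
        fun hc => ((not_memLocalIdeal_intCast_div_iff h hd hR).2 hc) hn
      push Not at h2
      have h3 := h2 hn0
      omega

theorem classInner_tilde_tilde (p : ℕ) (χ : G → ℂ) :
    classInner (tilde p χ) (tilde p χ) =
      ((p ^ (Nat.card G).factorization p : ℕ) : ℂ) * classInner (tilde p χ) χ := by
  unfold classInner
  have : ∑ g : G, tilde p χ g * conj (tilde p χ g) =
      ((p ^ (Nat.card G).factorization p : ℕ) : ℂ) * ∑ g : G, tilde p χ g * conj (χ g) := by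
    rw [Finset.mul_sum]
    refine Finset.sum_congr rfl fun g _ => ?_
    unfold tilde
    split_ifs
    · simp
    · rw [map_mul, Complex.conj_natCast]; ring
  rw [this]; ring

theorem padicValInt_prime_pow' {p : ℕ} [Fact p.Prime] (k : ℕ) :
    padicValInt p ((p : ℤ) ^ k) = k := by
  have : ((p : ℤ) ^ k) = ((p ^ k : ℕ) : ℤ) := by push_cast; rfl
  rw [this, padicValInt.of_nat, padicValNat.prime_pow]

/-- Integer matrix `N χ ψ = [χ̃, ψ]`. -/
theorem exists_N (hBr : BrauerChar G) {p : ℕ} (h : IsPModular p M) :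
    ∃ N : IrrCharacter G → IrrCharacter G → ℤ,
      (∀ χ ψ : IrrCharacter G, classInner (tilde p (χ : G → ℂ)) (ψ : G → ℂ) = (N χ ψ : ℂ)) ∧
      (∀ χ ψ, N χ ψ = N ψ χ) ∧
      (∀ χ, ∑ ψ : IrrCharacter G, N χ ψ ^ 2 = (p : ℤ) ^ (Nat.card G).factorization p * N χ χ) ∧
      (∀ χ, ∃ ψ, N χ ψ ≠ 0) := by
  choose N hN using fun χ ψ : IrrCharacter G => exists_int_classInner_tilde hBr h.1 χ ψ
  have hexp : ∀ χ : IrrCharacter G, tilde p (χ : G → ℂ) =
      ∑ ψ : IrrCharacter G, (N χ ψ : ℂ) • (ψ : G → ℂ) := by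
    intro χ
    have := Helper3.classFunction_expansion (tilde_isClassFunction p (irr_isClassFunction χ))
    conv_lhs => rw [this]
    refine Finset.sum_congr rfl fun ψ _ => ?_
    rw [hN]
  refine ⟨N, hN, fun χ ψ => ?_, fun χ => ?_, fun χ => ?_⟩
  · have h1 := classInner_tilde_symm p (χ : G → ℂ) (ψ : G → ℂ)
    rw [hN, hN, map_intCast] at h1
    exact_mod_cast h1
  · have h1 := classInner_tilde_tilde p (χ : G → ℂ)
    have h2 : classInner (tilde p (χ : G → ℂ)) (tilde p (χ : G → ℂ)) =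
        ∑ ψ : IrrCharacter G, (N χ ψ : ℂ) ^ 2 := by
      conv_lhs => rw [hexp χ]
      conv_lhs => rw [← hexp χ]
      conv_lhs =>
        arg 2
        rw [hexp χ]
      rw [Helper74.classInner_sum_right]
      refine Finset.sum_congr rfl fun ψ _ => ?_
      rw [Helper74.classInner_smul_right, hN, map_intCast]; ring
    rw [h2, hN] at h1
    exact_mod_cast h1
  · by_contra hcon
    push Not at hcon
    have h1 := hexp χ
    simp only [hcon, Int.cast_zero, zero_smul, Finset.sum_const_zero] at h1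
    have h2 := congrFun h1 1
    unfold tilde at h2
    rw [if_neg (by simp [h.1.one_lt.ne'])] at h2
    simp only [Pi.zero_apply, mul_eq_zero] at h2
    rcases h2 with h2 | h2
    · have : (p ^ (Nat.card G).factorization p : ℕ) ≠ 0 := pow_ne_zero _ h.1.ne_zero
      exact this (by exact_mod_cast h2)
    · exact irr_one_ne_zero χ h2

open Classical in
/-- **The contribution matrix of a block.** -/
theorem exists_contribution_matrix (hBr : BrauerChar G) {p : ℕ} (h : IsPModular p M)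
    {B : Set (IrrCharacter G)} (hB : IsPBlock M B) :
    ∃ m : IrrCharacter G → IrrCharacter G → ℤ,
      (∀ χ ∈ B, ∀ ψ ∈ B, m χ ψ = m ψ χ) ∧
      (∀ χ ∈ B, ∑ ψ : IrrCharacter G, (if ψ ∈ B then m χ ψ ^ 2 else 0) =
        (p : ℤ) ^ blockDefect p B * m χ χ) ∧
      (∀ χ ∈ B, 0 < m χ χ) ∧
      (∀ χ ∈ B, blockHeight p B (χ : G → ℂ) = 0 → ∀ ψ ∈ B, m χ ψ ≠ 0 ∧
        padicValInt p (m χ ψ) = blockHeight p B (ψ : G → ℂ)) ∧
      (∀ χ ∈ B, 0 < blockHeight p B (χ : G → ℂ) → ∀ ξ ∈ B,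
        (p : ℤ) ^ (blockHeight p B (ξ : G → ℂ) + 1) ∣ m χ ξ) := by
  have hM := pmod_isPrime h
  haveI : Fact p.Prime := ⟨h.1⟩
  have hp0 : (p : ℤ) ≠ 0 := by exact_mod_cast h.1.ne_zero
  obtain ⟨N, hN, hsymm, hsq, hne⟩ := exists_N hBr h
  set mn := minDeg p B with hmn
  have hpmn : (p : ℤ) ^ mn ≠ 0 := pow_ne_zero _ hp0
  have hmd : mn + blockDefect p B = (Nat.card G).factorization p := by
    rw [blockDefect_eq]
    have := minDeg_le_card (p := p) (IsPBlock.nonempty hM hB)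
    omega
  have hdvd : ∀ χ ∈ B, ∀ ψ, (p : ℤ) ^ mn ∣ N χ ψ := by
    intro χ hχ ψ
    have h1 := pow_dvd_of_classInner_tilde h.1 χ ψ (hN χ ψ)
    push_cast at h1
    exact (pow_dvd_pow _ (minDeg_le hχ)).trans h1
  have hNm : ∀ χ ∈ B, ∀ ψ, N χ ψ = (p : ℤ) ^ mn * (N χ ψ / (p : ℤ) ^ mn) := by
    intro χ hχ ψ
    exact (Int.mul_ediv_cancel' (hdvd χ hχ ψ)).symm
  have hzero : ∀ χ ∈ B, ∀ ψ, ψ ∉ B → N χ ψ = 0 := by
    intro χ hχ ψ hψ
    have := hN χ ψ
    rw [classInner_tilde_eq_zero h hB hχ hψ] at this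
    exact_mod_cast this.symm
  have hsqm : ∀ χ ∈ B, ∑ ψ : IrrCharacter G,
      (if ψ ∈ B then (N χ ψ / (p : ℤ) ^ mn) ^ 2 else 0) =
        (p : ℤ) ^ blockDefect p B * (N χ χ / (p : ℤ) ^ mn) := by
    intro χ hχ
    have h1 := hsq χ
    have h2 : ∑ ψ : IrrCharacter G, N χ ψ ^ 2 = ((p : ℤ) ^ mn) ^ 2 *
        ∑ ψ : IrrCharacter G, (if ψ ∈ B then (N χ ψ / (p : ℤ) ^ mn) ^ 2 else 0) := by
      rw [Finset.mul_sum]
      refine Finset.sum_congr rfl fun ψ _ => ?_
      split_ifs with hψ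
      · conv_lhs => rw [hNm χ hχ ψ]
        ring
      · rw [hzero χ hχ ψ hψ]; simp
    rw [h2, ← hmd, pow_add] at h1
    have h3 : ((p : ℤ) ^ mn) ^ 2 ≠ 0 := pow_ne_zero _ hpmn
    apply mul_left_cancel₀ h3
    rw [h1]
    conv_lhs => rw [hNm χ hχ χ]
    ring
  refine ⟨fun χ ψ => N χ ψ / (p : ℤ) ^ mn, ?_, hsqm, ?_, ?_, ?_⟩
  · intro χ _ ψ _
    simp only
    rw [hsymm]
  · intro χ hχ
    simp only
    have h1 := hsqm χ hχ
    have hnonneg : 0 ≤ ∑ ψ : IrrCharacter G,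
        (if ψ ∈ B then (N χ ψ / (p : ℤ) ^ mn) ^ 2 else 0) :=
      Finset.sum_nonneg fun ψ _ => by split_ifs <;> positivity
    have hppos : 0 < (p : ℤ) ^ blockDefect p B := pow_pos (by exact_mod_cast h.1.pos) _
    rcases lt_trichotomy 0 (N χ χ / (p : ℤ) ^ mn) with h2 | h2 | h2
    · exact h2
    · exfalso
      rw [← h2, mul_zero] at h1
      obtain ⟨ψ, hψ⟩ := hne χ
      have hψB : ψ ∈ B := by
        by_contra hcon
        exact hψ (hzero χ hχ ψ hcon)
      have h3 := (Finset.sum_eq_zero_iff_of_nonneg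
        (fun ψ _ => by split_ifs <;> positivity)).1 h1 ψ (Finset.mem_univ _)
      rw [if_pos hψB] at h3
      have h4 : N χ ψ / (p : ℤ) ^ mn = 0 := by simpa using h3
      apply hψ
      rw [hNm χ hχ ψ, h4, mul_zero]
    · exfalso
      have : (p : ℤ) ^ blockDefect p B * (N χ χ / (p : ℤ) ^ mn) < 0 :=
        mul_neg_of_pos_of_neg hppos h2
      omega
  · intro χ hχ h0 ψ hψ
    simp only
    have h1 := (height_zero_iff_omega_cfun hBr h hB hχ).1 h0
    rw [omega_cfun_unit_iff h hB χ hχ hψ, ← val_cond_iff hBr h] at h1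
    obtain ⟨n, hn, hn0, hnv⟩ := h1
    have hnN : n = N χ ψ := by
      rw [hN] at hn
      exact_mod_cast hn.symm
    subst hnN
    have hq0 : N χ ψ / (p : ℤ) ^ mn ≠ 0 := by
      intro h4
      apply hn0
      rw [hNm χ hχ ψ, h4, mul_zero]
    refine ⟨hq0, ?_⟩
    rw [hNm χ hχ ψ, padicValInt.mul hpmn hq0, padicValInt_prime_pow'] at hnv
    rw [blockHeight_eq]
    omega
  · intro χ hχ hpos ξ hξ
    simp only
    have h1 : MemLocalIdeal M (omega (ξ : G → ℂ) (cfun p (χ : G → ℂ))) := by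
      rw [omega_cfun_unit_iff h hB χ hξ hχ]
      by_contra hcon
      have := (height_zero_iff_omega_cfun hBr h hB hχ).2 hcon
      omega
    have h2 := conj_classInner_tilde p (χ : G → ℂ) ξ
    rw [hN, map_intCast] at h2
    have h3 : omega (ξ : G → ℂ) (cfun p (χ : G → ℂ)) =
        (N χ ξ : ℂ) / ((charDegree (ξ : G → ℂ) : ℕ) : ℂ) := by
      rw [h2, ← irr_one_eq, mul_div_cancel_left₀ _ (irr_one_ne_zero ξ)]
    rw [h3] at h1
    have h4 := pow_succ_factorization_dvd_of_memLocalIdeal h (irr_charDegree_pos ξ).ne' h1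
    have h5 : (charDegree (ξ : G → ℂ)).factorization p + 1 =
        mn + (blockHeight p B (ξ : G → ℂ) + 1) := by
      rw [blockHeight_eq]
      have := minDeg_le (p := p) hξ
      omega
    rw [h5, pow_add, hNm χ hχ ξ] at h4
    exact (mul_dvd_mul_iff_left hpmn).1 h4

end Cfsg.Agent.Lib.Helper78
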