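import Mathlib
import Cfsg.Agent.Lib.Helper4.PrincipalSection
import Cfsg.Agent.S0925

/-!
# Products of columns of a block at `p`-elements
-/

set_option autoImplicit false

namespace Cfsg.Agent.Lib.Helper78

open Cfsg Cfsg.Agent.Lib.Helper16 Cfsg.Agent.Lib.Helper4
open scoped ComplexConjugate

noncomputable section

variable {G : Type*} [Group G] [Fintype G]
variable {M : Ideal AlgInt} {p : ℕ} [Fact p.Prime]

theorem isPPart_self' {x : G} (hx : ∃ k : ℕ, orderOf x = p ^ k) : IsPPart p x x :=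
  ⟨1, mul_one x, Commute.one_right x, hx, by
    rw [orderOf_one]; exact (Fact.out : p.Prime).one_lt.ne' ∘ Nat.dvd_one.1⟩

/-- columns of a block in different `p`-sections are orthogonal -/
theorem sum_block_mul_conj_eq_zero (hM : IsPModular p M) {B : Set (IrrCharacter G)}
    (hB : IsPBlock M B) {g h x y : G} (hg : IsPPart p g x) (hh : IsPPart p h y)
    (hne : ¬ IsConj x y) :
    ∑ᶠ χ ∈ B, (χ : G → ℂ) g * conj ((χ : G → ℂ) h) = 0 := by
  have h1 := (Cfsg.Agent.S0925.result p M hM).2 g h x y hg hh hne B hB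
  rw [← h1]
  refine finsum_congr fun χ => ?_
  rw [irr_inv]

theorem not_dvd_orderOf_one' {K : Type*} [Group K] : ¬ p ∣ orderOf (1 : K) := by
  rw [orderOf_one]; exact (Fact.out : p.Prime).one_lt.ne' ∘ Nat.dvd_one.1

/-- the norm of the column of a `p`-element in the principal block -/
theorem sum_principal_pElement (hM : IsPModular p M) (y : G) (hy : ∃ k : ℕ, orderOf y = p ^ k) :
    ∑ᶠ χ ∈ principalBlock M G, (χ : G → ℂ) y * conj ((χ : G → ℂ) y)
      = ∑ᶠ ψ ∈ principalBlock M (Cen y), ((charDegree (ψ : Cen y → ℂ) : ℂ)) ^ 2 := by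
  have h1 := sum_principal_section hM y hy 1 1 not_dvd_orderOf_one' not_dvd_orderOf_one'
  simp only [Subgroup.coe_one, mul_one] at h1
  rw [h1]
  refine finsum_congr fun ψ => ?_
  rw [irr_conj_one, irr_one_eq, sq]

/-- the norm of the column of a `p`-element in a block -/
theorem sum_block_pElement (hM : IsPModular p M) {B : Set (IrrCharacter G)}
    (hB : IsPBlock M B) (y : G) (hy : ∃ k : ℕ, orderOf y = p ^ k) :
    ∑ᶠ χ ∈ B, (χ : G → ℂ) y * conj ((χ : G → ℂ) y)
      = ∑ᶠ ψ ∈ indSet M y B, ((charDegree (ψ : Cen y → ℂ) : ℂ)) ^ 2 := by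
  have h1 := sum_block_section hM y hy hB 1 1 not_dvd_orderOf_one' not_dvd_orderOf_one'
  simp only [Subgroup.coe_one, mul_one] at h1
  rw [h1]
  refine finsum_congr fun ψ => ?_
  rw [irr_conj_one, irr_one_eq, sq]

/-- counting the elements of a subgroup conjugating `y` to `z` -/
theorem card_conj_in_subgroup (N : Subgroup G) (y z : G) (n : G) (hn : n ∈ N)
    (hz : n * y * n⁻¹ = z) :
    Nat.card {x : N // (x : G) * y * (x : G)⁻¹ = z} = Nat.card ↥(N ⊓ Cen y) := by
  apply Nat.card_congr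
  refine ⟨fun x => ⟨n⁻¹ * (x.1 : G), ?_⟩, fun c => ⟨⟨n * (c : G), ?_⟩, ?_⟩, ?_, ?_⟩
  · refine Subgroup.mem_inf.2 ⟨N.mul_mem (N.inv_mem hn) x.1.2, ?_⟩
    rw [Subgroup.mem_centralizer_singleton_iff]
    have h : (x.1 : G) * y * (x.1 : G)⁻¹ = n * y * n⁻¹ := x.2.trans hz.symm
    have h2 : (x.1 : G) * y = n * y * n⁻¹ * (x.1 : G) := by
      rw [← h]; group
    calc n⁻¹ * (x.1 : G) * y = n⁻¹ * ((x.1 : G) * y) := by group
      _ = n⁻¹ * (n * y * n⁻¹ * (x.1 : G)) := by rw [h2]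
      _ = y * (n⁻¹ * (x.1 : G)) := by group
  · exact N.mul_mem hn (Subgroup.mem_inf.1 c.2).1
  · have hc : (c : G) * y = y * (c : G) :=
      Subgroup.mem_centralizer_singleton_iff.1 (Subgroup.mem_inf.1 c.2).2
    show n * (c : G) * y * (n * (c : G))⁻¹ = z
    rw [← hz]
    calc n * (c : G) * y * (n * (c : G))⁻¹ = n * ((c : G) * y) * (c : G)⁻¹ * n⁻¹ := by group
      _ = n * (y * (c : G)) * (c : G)⁻¹ * n⁻¹ := by rw [hc]
      _ = n * y * n⁻¹ := by group
  · intro x
    ext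
    simp
  · intro c
    ext
    simp

end

end Cfsg.Agent.Lib.Helper78
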