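import Mathlib
import Cfsg.Agent.Lib.Helper78.Columns
import Cfsg.Agent.Lib.Helper78.HeightZero
import Cfsg.Agent.Lib.Helper16.DefectAPI
import Cfsg.Agent.S0917

/-!
# Subsections: twisted restrictions to centralizers of `p`-elements, major subsections
-/

set_option autoImplicit false

namespace Cfsg.Agent.Lib.Helper78

open Cfsg Cfsg.Agent.Lib.Helper16 Cfsg.Agent.Lib.Helper4
open scoped ComplexConjugate

noncomputable section

section General

variable {K : Type*} [Group K] [Fintype K]
variable {M : Ideal AlgInt} {p : ℕ}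

/-- a unit value bounds the `p`-part of the degree by the `p`-part of the class size -/
theorem factorization_charDegree_le_of_unit (h : IsPModular p M) (ψ : IrrCharacter K) (g : K)
    (hg : ¬ MemLocalIdeal M ((ψ : K → ℂ) g)) :
    (charDegree (ψ : K → ℂ)).factorization p
      ≤ (Subgroup.centralizer ({g} : Set K)).index.factorization p := by
  have hM := pmod_isPrime h
  by_contra hcon
  push Not at hcon
  apply hg
  have hidx0 : (Subgroup.centralizer ({g} : Set K)).index ≠ 0 := Subgroup.index_ne_zero_of_finite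
  have hdeg0 : charDegree (ψ : K → ℂ) ≠ 0 := (irr_charDegree_pos ψ).ne'
  have h1 : (ψ : K → ℂ) g = ((charDegree (ψ : K → ℂ) : ℕ) : ℂ) /
      (((Subgroup.centralizer ({g} : Set K)).index : ℕ) : ℂ) * centralChar (ψ : K → ℂ) g := by
    rw [centralChar_eq]
    have : (((Subgroup.centralizer ({g} : Set K)).index : ℕ) : ℂ) ≠ 0 := by exact_mod_cast hidx0
    have : ((charDegree (ψ : K → ℂ) : ℕ) : ℂ) ≠ 0 := by exact_mod_cast hdeg0
    field_simp
  rw [h1]
  exact MemLocalIdeal.mul_right hM (memLocalIdeal_natCast_div h hidx0 hcon)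
    (memLocalRing_of_isIntegral hM (isIntegral_centralChar ψ.2 g))

/-- translation by a central element -/
theorem irr_central_mul (ψ : IrrCharacter K) {z : K} (hz : ∀ t : K, t * z = z * t) (c : K) :
    (ψ : K → ℂ) (z * c) = (ψ : K → ℂ) z / (ψ : K → ℂ) 1 * (ψ : K → ℂ) c := by
  have h1 := Cfsg.Agent.Lib.Helper81.IsIrrCharacter.sum_mul_conj ψ.2 c z
  have h2 : ∀ t : K, t * z * t⁻¹ = z := fun t => by rw [hz t, mul_inv_cancel_right]
  simp only [h2, Finset.sum_const, Finset.card_univ, nsmul_eq_mul] at h1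
  have hcard : (Fintype.card K : ℂ) ≠ 0 := by exact_mod_cast Fintype.card_ne_zero
  have h3 : (ψ : K → ℂ) (c * z) = (ψ : K → ℂ) c * (ψ : K → ℂ) z / (ψ : K → ℂ) 1 := by
    apply mul_left_cancel₀ hcard
    rw [h1]; ring
  rw [← hz c, h3]; ring

theorem isIntegral_central_ratio (ψ : IrrCharacter K) {z : K} (hz : ∀ t : K, t * z = z * t) :
    IsIntegral ℤ ((ψ : K → ℂ) z / (ψ : K → ℂ) 1) := by
  have h1 := isIntegral_centralChar ψ.2 z
  have h2 : Subgroup.centralizer ({z} : Set K) = ⊤ := by
    rw [eq_top_iff]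
    intro t _
    rw [Subgroup.mem_centralizer_singleton_iff]
    exact hz t
  unfold centralChar at h1
  rw [h2, Subgroup.index_top, Nat.cast_one, one_mul] at h1
  exact h1

/-- inner products of translates by a central element -/
theorem classInner_central_translate (f : K → ℂ) (ψ : IrrCharacter K) {z : K}
    (hz : ∀ t : K, t * z = z * t) :
    classInner (fun c => f (z * c)) (ψ : K → ℂ)
      = (ψ : K → ℂ) z / (ψ : K → ℂ) 1 * classInner f (ψ : K → ℂ) := by
  unfold classInner
  have hz' : ∀ t : K, t * z⁻¹ = z⁻¹ * t := by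
    intro t
    have := hz t
    calc t * z⁻¹ = z⁻¹ * (z * t) * z⁻¹ := by group
      _ = z⁻¹ * (t * z) * z⁻¹ := by rw [this]
      _ = z⁻¹ * t := by group
  rw [← Equiv.sum_comp (Equiv.mulLeft z⁻¹)
    (fun c : K => (f (z * c) * (starRingEnd ℂ) ((ψ : K → ℂ) c) : ℂ))]
  simp only [Equiv.coe_mulLeft, mul_inv_cancel_left]
  rw [Finset.mul_sum, Finset.mul_sum, Finset.mul_sum]
  refine Finset.sum_congr rfl fun c _ => ?_
  rw [irr_central_mul ψ hz' c, map_mul, map_div₀, irr_inv, Complex.conj_conj, irr_conj_one]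
  ring

end General

variable {G : Type*} [Group G] [Fintype G]
variable {M : Ideal AlgInt} {p : ℕ} [Fact p.Prime]

/-- `y` as an element of its centralizer -/
def cenSelf (y : G) : Cen y := ⟨y, Subgroup.mem_centralizer_singleton_iff.2 rfl⟩

theorem cenSelf_central (y : G) (t : Cen y) : t * cenSelf y = cenSelf y * t :=
  Subtype.ext (Subgroup.mem_centralizer_singleton_iff.1 t.2)

/-- the generalized decomposition: multiplicity times a root of unity -/
theorem classInner_tw (y : G) (χ : G → ℂ) (ψ : IrrCharacter (Cen y)) :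
    classInner (tw y χ) (ψ : Cen y → ℂ)
      = (ψ : Cen y → ℂ) (cenSelf y) / (ψ : Cen y → ℂ) 1 *
        classInner (fun c : Cen y => χ (c : G)) (ψ : Cen y → ℂ) := by
  have h := classInner_central_translate (fun c : Cen y => χ (c : G)) ψ (cenSelf_central y)
  have h2 : (fun c : Cen y => (fun c : Cen y => χ (c : G)) (cenSelf y * c)) = tw y χ := by
    funext c; rfl
  rw [h2] at h
  exact h

theorem memLocalRing_classInner_tw (hM : M.IsPrime) (y : G) (χ : IrrCharacter G)
    (ψ : IrrCharacter (Cen y)) :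
    MemLocalRing M (classInner (tw y (χ : G → ℂ)) (ψ : Cen y → ℂ)) := by
  rw [classInner_tw]
  obtain ⟨n, hn⟩ := Helper74.IsCharacter.classInner_irr_nat
    (Helper74.IsCharacter.restrict (Helper74.IrrCharacter.isCharacter χ) (Cen y)) ψ
  refine MemLocalRing.mul hM
    (memLocalRing_of_isIntegral hM (isIntegral_central_ratio ψ (cenSelf_central y))) ?_
  have : classInner (fun c : Cen y => (χ : G → ℂ) (c : G)) (ψ : Cen y → ℂ) = (n : ℂ) := hn
  rw [this]
  exact memLocalRing_natCast hM n

/-- induction of blocks does not decrease the defect -/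
theorem blockDefect_le_of_isInducedBlock (h : IsPModular p M) {H : Subgroup G}
    {b : Set (IrrCharacter H)} {B : Set (IrrCharacter G)} (hind : IsInducedBlock M H b B) :
    blockDefect p b ≤ blockDefect p B := by
  have : Fintype H := Fintype.ofFinite H
  obtain ⟨D, hD⟩ := exists_isDefectGroup h hind.1
  obtain ⟨E, hE, hDE⟩ := Cfsg.Agent.S0917.result p M h H b hind.1 B hind.2.1 hind D hD
  have h1 := card_of_isDefectGroup h hind.1 hD
  have h2 := card_of_isDefectGroup h hind.2.1 hE
  have h3 : Nat.card (D.map H.subtype) = Nat.card D :=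
    Nat.card_congr (D.equivMapOfInjective _ H.subtype_injective).symm.toEquiv
  have h4 := Subgroup.card_dvd_of_le hDE
  rw [h3, h1, h2] at h4
  exact (Nat.pow_dvd_pow_iff_le_right (Fact.out : p.Prime).one_lt).1 h4

/-- an element of order `p` central in a Sylow `p`-subgroup of `C_G(s)` -/
theorem exists_central_order_p (s : G) (hp : p ∣ Nat.card (Cen s)) :
    ∃ y : G, orderOf y = p ∧ Commute y s ∧ ∀ hs : s ∈ Cen y,
      (Nat.card (Cen s)).factorization p ≤
        (Nat.card (Subgroup.centralizer ({(⟨s, hs⟩ : Cen y)} : Set (Cen y)))).factorization p := by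
  have hpp : p.Prime := Fact.out
  obtain ⟨P⟩ : Nonempty (Sylow p (Cen s)) := inferInstance
  have hPcard : Nat.card P = p ^ (Nat.card (Cen s)).factorization p := P.card_eq_multiplicity
  have hpos : 0 < (Nat.card (Cen s)).factorization p :=
    hpp.factorization_pos_of_dvd Nat.card_pos.ne' hp
  have hnt : Nontrivial P := by
    rw [← Finite.one_lt_card_iff_nontrivial, hPcard]
    exact Nat.one_lt_pow hpos.ne' hpp.one_lt
  have hPg : IsPGroup p P := P.isPGroup'
  have hcnt : Nontrivial (Subgroup.center P) := hPg.center_nontrivial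
  have hcg : IsPGroup p (Subgroup.center P) := hPg.to_subgroup _
  obtain ⟨k, hk⟩ := IsPGroup.iff_card.1 hcg
  have hk0 : k ≠ 0 := by
    rintro rfl
    rw [pow_zero] at hk
    have := Finite.one_lt_card_iff_nontrivial.2 hcnt
    omega
  obtain ⟨z, hz⟩ := exists_prime_orderOf_dvd_card' (G := Subgroup.center P) p
    (by rw [hk]; exact dvd_pow_self p hk0)
  refine ⟨(((z : P) : Cen s) : G), ?_, ?_, ?_⟩
  · rw [Subgroup.orderOf_coe, Subgroup.orderOf_coe, Subgroup.orderOf_coe, hz]
  · exact Subgroup.mem_centralizer_singleton_iff.1 ((z : P) : Cen s).2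
  · intro hs
    set y : G := (((z : P) : Cen s) : G) with hy
    set Q : Subgroup G := (P : Subgroup (Cen s)).map (Cen s).subtype with hQ
    have hQcard : Nat.card Q = Nat.card P :=
      Nat.card_congr ((P : Subgroup (Cen s)).equivMapOfInjective _
        (Cen s).subtype_injective).symm.toEquiv
    have hQy : Q ≤ Cen y := by
      rintro _ ⟨q, hq, rfl⟩
      rw [Subgroup.mem_centralizer_singleton_iff]
      have h1 := Subgroup.mem_center_iff.1 z.2 ⟨q, hq⟩
      have h2 := congrArg (fun w : P => ((w : Cen s) : G)) h1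
      exact h2
    have hQ' : Q.subgroupOf (Cen y) ≤ Subgroup.centralizer ({(⟨s, hs⟩ : Cen y)} : Set (Cen y)) := by
      intro w hw
      rw [Subgroup.mem_subgroupOf] at hw
      obtain ⟨q, _, hqw⟩ := hw
      rw [Subgroup.mem_centralizer_singleton_iff]
      apply Subtype.ext
      show (w : G) * s = s * (w : G)
      rw [← hqw]
      exact Subgroup.mem_centralizer_singleton_iff.1 q.2
    have h5 := Subgroup.card_dvd_of_le hQ'
    rw [Nat.card_congr (Subgroup.subgroupOfEquivOfLe hQy).toEquiv, hQcard, hPcard] at h5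
    exact (hpp.pow_dvd_iff_le_factorization Nat.card_pos.ne').1 h5

/-- **Existence of major subsections**: a block of positive defect is induced from a block of the
same defect of the centralizer of an element of order `p`. -/
theorem exists_major_subsection (h : IsPModular p M) {B : Set (IrrCharacter G)}
    (hB : IsPBlock M B) (hd : 0 < blockDefect p B) :
    ∃ y : G, orderOf y = p ∧ ∃ b : Set (IrrCharacter (Cen y)),
      IsInducedBlock M (Cen y) b B ∧ blockDefect p b = blockDefect p B := by
  classical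
  have hM := pmod_isPrime h
  have hpp : p.Prime := Fact.out
  obtain ⟨s, hs⟩ := exists_isDefectClass hM hB
  have hsreg := isDefectClass_regular h hB hs
  have hν := factorization_centralizer_of_isDefectClass h hB hs
  have hdvd : p ∣ Nat.card (Cen s) := by
    apply Nat.dvd_of_factorization_pos
    rw [hν]; exact hd.ne'
  obtain ⟨y, hy, hc, hcen⟩ := exists_central_order_p (p := p) s hdvd
  obtain ⟨χ, hχ, hχ0⟩ := exists_height_zero (p := p) (IsPBlock.nonempty hM hB)
  have hyp : y ^ p ^ 1 = 1 := by rw [pow_one, ← hy]; exact pow_orderOf_eq_one y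
  have hu := not_memLocalIdeal_height_zero h hB hs hχ hχ0 hc hyp
  have hsC : s ∈ Cen y := Subgroup.mem_centralizer_singleton_iff.2 hc.symm.eq
  have hsreg' : ¬ p ∣ orderOf (⟨s, hsC⟩ : Cen y) := by
    rw [← Subgroup.orderOf_coe]; exact hsreg
  have h1 := apply_eq_blockPart_indSet h y ⟨1, by rw [hy, pow_one]⟩ hB hχ ⟨s, hsC⟩ hsreg'
  have h2 : ∃ ψ ∈ indSet M y B, ¬ MemLocalIdeal M ((ψ : Cen y → ℂ) ⟨s, hsC⟩) := by
    by_contra hcon
    push Not at hcon
    apply hu
    rw [h1, blockPart_def, finsum_mem_irr]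
    refine MemLocalIdeal.sum hM _ _ fun ψ _ => ?_
    split_ifs with hψ
    · exact MemLocalIdeal.mul_left hM (memLocalRing_classInner_tw hM y χ ψ) (hcon ψ hψ)
    · exact memLocalIdeal_zero hM
  obtain ⟨ψ, hψ, hψu⟩ := h2
  refine ⟨y, hy, blockOf M (ψ : Cen y → ℂ), hψ, le_antisymm
    (blockDefect_le_of_isInducedBlock h hψ) ?_⟩
  have h3 := factorization_charDegree_le_of_unit h ψ _ hψu
  have h4 := factorization_index_add p (Subgroup.centralizer ({(⟨s, hsC⟩ : Cen y)} : Set (Cen y)))
  have h5 := hcen hsC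
  have h6 := minDeg_le (p := p) (mem_blockOf_self hM ψ)
  rw [blockDefect_eq p (blockOf M (ψ : Cen y → ℂ))]
  rw [hν] at h5
  omega

end

end Cfsg.Agent.Lib.Helper78
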