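import Mathlib
import Cfsg.Prelude.Def_Blocks
import Cfsg.Agent.Lib.Helper78.Subsection
import Cfsg.Agent.Lib.Helper78.IndBlock2
import Cfsg.Agent.Lib.Helper78.BlockOrth
import Cfsg.Agent.Lib.Helper97.BlockRank

/-!
# The Gram matrix of a subsection (helper78)

For a `p`-element `x`, `H = C_G(x)` and a block `b` of `H` with `b^G = B` we study the functions
`X_χ = (tw x χ)_b` on the `p`-regular elements of `H`.
-/

set_option autoImplicit false

namespace Cfsg.Agent.Lib.Helper78

open Cfsg Cfsg.Agent.Lib.Helper4 Cfsg.Agent.Lib.Helper16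
open scoped ComplexConjugate

/-- abstract computation: the Gram matrix of a tight frame is a multiple of a projection -/
theorem gram_sq {S I : Type*} [Fintype S] (BF : Finset I) (X : I → S → ℂ) (K : S → S → ℂ)
    (N c : ℂ) (hc : conj c = c) (hN : conj N = N) (hN0 : N ≠ 0)
    (hKI : ∀ s s', ∑ i ∈ BF, X i s * conj (X i s') = K s s')
    (i : I) (hRep : ∀ s', ∑ s, X i s * K s' s = N * X i s') :
    ∑ j ∈ BF, (c / N * ∑ s, X i s * conj (X j s)) * conj (c / N * ∑ s, X i s * conj (X j s))
      = c * (c / N * ∑ s, X i s * conj (X i s)) := by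
  have h1 : ∀ j, (c / N * ∑ s, X i s * conj (X j s)) * conj (c / N * ∑ s, X i s * conj (X j s))
      = (c / N) * (c / N) * ∑ s', ∑ s, conj (X i s') * (X i s * (X j s' * conj (X j s))) := by
    intro j
    rw [map_mul, map_div₀, hc, hN, map_sum, mul_mul_mul_comm, Finset.sum_mul_sum, Finset.sum_comm]
    congr 1
    refine Finset.sum_congr rfl fun s' _ => Finset.sum_congr rfl fun s _ => ?_
    rw [map_mul, Complex.conj_conj]
    ring
  rw [Finset.sum_congr rfl fun j _ => h1 j, ← Finset.mul_sum, Finset.sum_comm]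
  have h2 : ∀ s', ∑ j ∈ BF, ∑ s, conj (X i s') * (X i s * (X j s' * conj (X j s)))
      = N * (X i s' * conj (X i s')) := by
    intro s'
    rw [Finset.sum_comm]
    have : ∀ s, ∑ j ∈ BF, conj (X i s') * (X i s * (X j s' * conj (X j s)))
        = conj (X i s') * (X i s * K s' s) := by
      intro s
      rw [← Finset.mul_sum, ← Finset.mul_sum, hKI]
    rw [Finset.sum_congr rfl fun s _ => this s, ← Finset.mul_sum, hRep]
    ring
  rw [Finset.sum_congr rfl fun s' _ => h2 s', ← Finset.mul_sum]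
  field_simp

section Lin

variable {K : Type*} [Group K] [Fintype K]

theorem classInner_sum_left' {ι : Type*} (s : Finset ι) (a : ι → ℂ) (f : ι → K → ℂ) (χ : K → ℂ) :
    classInner (fun c => ∑ i ∈ s, a i * f i c) χ = ∑ i ∈ s, a i * classInner (f i) χ := by
  unfold classInner
  simp only [Finset.sum_mul, Finset.mul_sum]
  rw [Finset.sum_comm]
  refine Finset.sum_congr rfl fun i _ => Finset.sum_congr rfl fun g _ => by ring

theorem blockPart_sum' {ι : Type*} (s : Finset ι) (𝔟 : Set (IrrCharacter K)) (a : ι → ℂ)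
    (f : ι → K → ℂ) (y : K) :
    blockPart 𝔟 (fun c => ∑ i ∈ s, a i * f i c) y = ∑ i ∈ s, a i * blockPart 𝔟 (f i) y := by
  classical
  simp only [blockPart_apply, classInner_sum_left', Finset.mul_sum]
  rw [Finset.sum_comm]
  refine Finset.sum_congr rfl fun χ _ => ?_
  split_ifs
  · rw [Finset.sum_mul]
    refine Finset.sum_congr rfl fun i _ => by ring
  · simp

theorem isClassFunction_sum' {ι : Type*} (s : Finset ι) (a : ι → ℂ) (f : ι → K → ℂ)
    (hf : ∀ i ∈ s, IsClassFunction K (f i)) :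
    IsClassFunction K (fun c => ∑ i ∈ s, a i * f i c) := by
  intro g t
  refine Finset.sum_congr rfl fun i hi => ?_
  rw [hf i hi g t]

end Lin

variable {G : Type*} [Group G] [Fintype G]
variable {M : Ideal AlgInt} {p : ℕ} [Fact p.Prime]

/-- second main theorem: the `b`-part of `tw x ζ` vanishes on regular elements if `ζ ∉ b^G` -/
theorem blockPart_tw_eq_zero (hM : IsPModular p M) (x : G) (hx : ∃ k : ℕ, orderOf x = p ^ k)
    {B : Set (IrrCharacter G)} {b : Set (IrrCharacter (Cen x))}
    (hind : IsInducedBlock M (Cen x) b B) {ζ : IrrCharacter G} (hζ : ζ ∉ B)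
    (s : Cen x) (hs : ¬ p ∣ orderOf s) : blockPart b (tw x (ζ : G → ℂ)) s = 0 := by
  have hMp : M.IsPrime := hM.2.1.isPrime
  apply Cfsg.Agent.S0923.result p M hM x hx (blockOf M (ζ : G → ℂ)) (isPBlock_blockOf ζ) ζ
    (mem_blockOf_self hMp ζ) b hind.1 _ s hs
  intro h2
  apply hζ
  rw [isInducedBlock_unique hMp hind h2]
  exact mem_blockOf_self hMp ζ

open Classical in
theorem gram_half (hM : IsPModular p M) (x : G) (hx : ∃ k : ℕ, orderOf x = p ^ k)
    {B : Set (IrrCharacter G)} {b : Set (IrrCharacter (Cen x))}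
    (hind : IsInducedBlock M (Cen x) b B) (s s' : Cen x) (hs : ¬ p ∣ orderOf s)
    (hs' : ¬ p ∣ orderOf s') :
    ∑ ζ ∈ Finset.univ.filter (· ∈ B), blockPart b (tw x (ζ : G → ℂ)) s *
      conj ((ζ : G → ℂ) (x * (s' : G))) = blockKer b s s' := by
  have hMp : M.IsPrime := hM.2.1.isPrime
  have hbu : ∀ ψ ∈ b, blockOf M (ψ : Cen x → ℂ) ⊆ b := fun ψ hψ =>
    (IsPBlock.eq_blockOf hMp hind.1 hψ).ge
  have h1 := blockPart_congr_regular hM b hbu
    (Φ := fun c => ∑ ζ ∈ (Finset.univ : Finset (IrrCharacter G)),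
      conj ((ζ : G → ℂ) (x * (s' : G))) * tw x (ζ : G → ℂ) c)
    (Ψ := fun c => ∑ ψ ∈ (Finset.univ : Finset (IrrCharacter (Cen x))),
      conj ((ψ : Cen x → ℂ) s') * (ψ : Cen x → ℂ) c)
    (isClassFunction_sum' _ _ _ fun ζ _ =>
      Cfsg.Agent.S0923.twist_isClassFunction x (irr_isClassFunction ζ))
    (isClassFunction_sum' _ _ _ fun ψ _ => irr_isClassFunction ψ)
    (fun c hc => by
      have := sum_irr_section x hx c s' hc hs'
      simp only [mul_comm (conj _)]
      exact this) s hs
  rw [blockPart_sum', blockPart_sum'] at h1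
  rw [Finset.sum_filter]
  unfold blockKer
  refine Eq.trans ?_ (h1.trans ?_)
  · refine Finset.sum_congr rfl fun ζ _ => ?_
    split_ifs with hζ
    · rw [mul_comm]
    · rw [blockPart_tw_eq_zero hM x hx hind hζ s hs, mul_zero]
  · refine Finset.sum_congr rfl fun ψ _ => ?_
    rw [blockPart_irr]
    split_ifs
    · rw [mul_comm]
    · rw [mul_zero]

open Classical in
/-- **The key identity**: the functions `X_ζ`, `ζ ∈ B`, form a tight frame for the space spanned by
`b` on the regular elements. -/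
theorem gram_full (hM : IsPModular p M) (x : G) (hx : ∃ k : ℕ, orderOf x = p ^ k)
    {B : Set (IrrCharacter G)} {b : Set (IrrCharacter (Cen x))}
    (hind : IsInducedBlock M (Cen x) b B) (s s' : Cen x) (hs : ¬ p ∣ orderOf s)
    (hs' : ¬ p ∣ orderOf s') :
    ∑ ζ ∈ Finset.univ.filter (· ∈ B), blockPart b (tw x (ζ : G → ℂ)) s *
      conj (blockPart b (tw x (ζ : G → ℂ)) s') = blockKer b s s' := by
  have hMp : M.IsPrime := hM.2.1.isPrime
  have hbu : ∀ ψ ∈ b, blockOf M (ψ : Cen x → ℂ) ⊆ b := fun ψ hψ =>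
    (IsPBlock.eq_blockOf hMp hind.1 hψ).ge
  have h1 := blockPart_congr_regular hM b hbu
    (Φ := fun c => ∑ ζ ∈ Finset.univ.filter (· ∈ B),
      conj (blockPart b (tw x (ζ : G → ℂ)) s') * tw x (ζ : G → ℂ) c)
    (Ψ := fun c => ∑ ψ ∈ (Finset.univ : Finset (IrrCharacter (Cen x))),
      (if ψ ∈ b then conj ((ψ : Cen x → ℂ) s') else 0) * (ψ : Cen x → ℂ) c)
    (isClassFunction_sum' _ _ _ fun ζ _ =>
      Cfsg.Agent.S0923.twist_isClassFunction x (irr_isClassFunction ζ))
    (isClassFunction_sum' _ _ _ fun ψ _ => irr_isClassFunction ψ)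
    (fun c hc => by
      have h2 := congrArg conj (gram_half hM x hx hind s' c hs' hc)
      rw [blockKer_conj, map_sum] at h2
      refine Eq.trans ?_ (h2.trans ?_)
      · refine Finset.sum_congr rfl fun ζ _ => ?_
        rw [map_mul, Complex.conj_conj]
      · unfold blockKer
        refine Finset.sum_congr rfl fun ψ _ => ?_
        split_ifs
        · rw [mul_comm]
        · rw [zero_mul]) s hs
  rw [blockPart_sum', blockPart_sum'] at h1
  unfold blockKer
  refine Eq.trans ?_ (h1.trans ?_)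
  · refine Finset.sum_congr rfl fun ζ _ => ?_
    rw [mul_comm]
  · refine Finset.sum_congr rfl fun ψ _ => ?_
    rw [blockPart_irr]
    split_ifs
    · rw [mul_comm]
    · rw [mul_zero]

end Cfsg.Agent.Lib.Helper78
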