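import Mathlib
import Cfsg.Prelude.Def_Blocks
import Cfsg.Agent.Lib.Helper78.SubsecGram
import Cfsg.Agent.Lib.Helper78.Contribution
import Cfsg.Agent.Lib.Helper78.CharCongr

/-!
# The contribution matrix of a subsection (helper78)
-/

set_option autoImplicit false

namespace Cfsg.Agent.Lib.Helper78

open Cfsg Cfsg.Agent.Lib.Helper4 Cfsg.Agent.Lib.Helper16 Cfsg.Agent.Lib.Helper97
open scoped ComplexConjugate

variable {G : Type*} [Group G] [Fintype G]
variable {M : Ideal AlgInt} {p : ℕ} [Fact p.Prime]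

open Classical in
/-- `X_χ`, cut down to the regular elements -/
noncomputable def Xr (p : ℕ) (x : G) (b : Set (IrrCharacter (Cen x))) (χ : IrrCharacter G)
    (s : Cen x) : ℂ :=
  if ¬ p ∣ orderOf s then blockPart b (tw x (χ : G → ℂ)) s else 0

/-- the contribution numbers `p^q m_{χψ}^{(x,b)}` -/
noncomputable def subAlpha (p : ℕ) (x : G) (b : Set (IrrCharacter (Cen x)))
    (χ ψ : IrrCharacter G) : ℂ :=
  ((p ^ blockDefect p b : ℕ) : ℂ) / (Fintype.card (Cen x) : ℂ) *
    ∑ s : Cen x, Xr p x b χ s * conj (Xr p x b ψ s)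

open Classical in
theorem Xr_gram (hM : IsPModular p M) (x : G) (hx : ∃ k : ℕ, orderOf x = p ^ k)
    {B : Set (IrrCharacter G)} {b : Set (IrrCharacter (Cen x))}
    (hind : IsInducedBlock M (Cen x) b B) (s s' : Cen x) :
    ∑ ζ ∈ Finset.univ.filter (· ∈ B), Xr p x b ζ s * conj (Xr p x b ζ s')
      = if ¬ p ∣ orderOf s then (if ¬ p ∣ orderOf s' then blockKer b s s' else 0) else 0 := by
  unfold Xr
  by_cases hs : p ∣ orderOf s
  · simp [hs]
  · by_cases hs' : p ∣ orderOf s'
    · simp [hs']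
    · simp only [if_pos hs, if_pos hs']
      exact gram_full hM x hx hind s s' hs hs'

open Classical in
theorem Xr_rep (hM : IsPModular p M) (x : G)
    {b : Set (IrrCharacter (Cen x))} (hb : IsPBlock M b) (χ : IrrCharacter G) (s' : Cen x) :
    ∑ s : Cen x, Xr p x b χ s *
      (if ¬ p ∣ orderOf s' then (if ¬ p ∣ orderOf s then blockKer b s' s else 0) else 0)
      = (Fintype.card (Cen x) : ℂ) * Xr p x b χ s' := by
  by_cases hs' : p ∣ orderOf s'
  · simp [Xr, hs']
  · simp only [if_pos hs']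
    have h1 : ∀ s : Cen x, Xr p x b χ s * (if ¬ p ∣ orderOf s then blockKer b s' s else 0)
        = ∑ ζ : IrrCharacter (Cen x), (if ζ ∈ b then classInner (tw x (χ : G → ℂ)) (ζ : Cen x → ℂ)
          else 0) * (blockKer b s' s * (ζ : Cen x → ℂ) s) := by
      intro s
      by_cases hs : p ∣ orderOf s
      · simp [Xr, hs, blockKer_eq_zero hM hb s' s hs' hs]
      · simp only [Xr, if_pos hs]
        rw [blockPart_apply, Finset.sum_mul]
        refine Finset.sum_congr rfl fun ζ _ => ?_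
        split_ifs <;> ring
    rw [Finset.sum_congr rfl fun s _ => h1 s, Finset.sum_comm]
    simp only [Xr, if_pos hs']
    rw [blockPart_apply, Finset.mul_sum]
    refine Finset.sum_congr rfl fun ζ _ => ?_
    rw [← Finset.mul_sum, sum_blockKer_mul]
    split_ifs <;> ring

open Classical in
theorem subAlpha_sq (hM : IsPModular p M) (x : G) (hx : ∃ k : ℕ, orderOf x = p ^ k)
    {B : Set (IrrCharacter G)} {b : Set (IrrCharacter (Cen x))}
    (hind : IsInducedBlock M (Cen x) b B) (χ : IrrCharacter G) :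
    ∑ ψ ∈ Finset.univ.filter (· ∈ B), subAlpha p x b χ ψ * conj (subAlpha p x b χ ψ)
      = ((p ^ blockDefect p b : ℕ) : ℂ) * subAlpha p x b χ χ := by
  unfold subAlpha
  exact gram_sq _ (Xr p x b) _ _ _ (Complex.conj_natCast _) (Complex.conj_natCast _)
    (by exact_mod_cast Fintype.card_ne_zero) (Xr_gram hM x hx hind) χ (Xr_rep hM x hind.1 χ)

open Classical in
theorem subAlpha_trace (hM : IsPModular p M) (x : G) (hx : ∃ k : ℕ, orderOf x = p ^ k)
    {B : Set (IrrCharacter G)} {b : Set (IrrCharacter (Cen x))}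
    (hind : IsInducedBlock M (Cen x) b B) :
    ∑ χ ∈ Finset.univ.filter (· ∈ B), subAlpha p x b χ χ
      = ((p ^ blockDefect p b : ℕ) : ℂ) * (blockRank p b : ℂ) := by
  have hMp : M.IsPrime := hM.2.1.isPrime
  have hbu : ∀ ψ ∈ b, blockOf M (ψ : Cen x → ℂ) ⊆ b := fun ψ hψ =>
    (IsPBlock.eq_blockOf hMp hind.1 hψ).ge
  unfold subAlpha
  rw [← Finset.mul_sum, Finset.sum_comm, blockRank_eq hM b hbu, div_eq_mul_inv, mul_assoc]
  congr 2
  refine Finset.sum_congr rfl fun s _ => ?_
  rw [Xr_gram hM x hx hind, blockKer_eq_finsum]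
  split_ifs <;> rfl

open Classical in
theorem subAlpha_expand (x : G) (b : Set (IrrCharacter (Cen x))) (χ ψ : IrrCharacter G) :
    subAlpha p x b χ ψ = ∑ ζ ∈ Finset.univ.filter (· ∈ b), ∑ ξ ∈ Finset.univ.filter (· ∈ b),
      classInner (tw x (χ : G → ℂ)) (ζ : Cen x → ℂ) *
        conj (classInner (tw x (ψ : G → ℂ)) (ξ : Cen x → ℂ)) *
      (((p ^ blockDefect p b : ℕ) : ℂ) / (Fintype.card (Cen x) : ℂ) * ∑ s : Cen x,
        if ¬ p ∣ orderOf s then (ζ : Cen x → ℂ) s * conj ((ξ : Cen x → ℂ) s) else 0) := by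
  unfold subAlpha
  have h1 : ∀ s : Cen x, Xr p x b χ s * conj (Xr p x b ψ s)
      = ∑ ζ ∈ Finset.univ.filter (· ∈ b), ∑ ξ ∈ Finset.univ.filter (· ∈ b),
        classInner (tw x (χ : G → ℂ)) (ζ : Cen x → ℂ) *
        conj (classInner (tw x (ψ : G → ℂ)) (ξ : Cen x → ℂ)) *
        (if ¬ p ∣ orderOf s then (ζ : Cen x → ℂ) s * conj ((ξ : Cen x → ℂ) s) else 0) := by
    intro s
    by_cases hs : p ∣ orderOf s
    · simp [Xr, hs]
    · simp only [Xr, if_pos hs]
      rw [blockPart_apply, blockPart_apply, ← Finset.sum_filter, ← Finset.sum_filter, map_sum,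
        Finset.sum_mul_sum]
      refine Finset.sum_congr rfl fun ζ _ => Finset.sum_congr rfl fun ξ _ => ?_
      rw [map_mul]
      ring
  rw [Finset.sum_congr rfl fun s _ => h1 s, Finset.sum_comm, Finset.mul_sum]
  refine Finset.sum_congr rfl fun ζ _ => ?_
  rw [Finset.sum_comm, Finset.mul_sum]
  refine Finset.sum_congr rfl fun ξ _ => ?_
  rw [← Finset.mul_sum]
  ring

end Cfsg.Agent.Lib.Helper78
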