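import Mathlib
import Cfsg.Prelude.Def_Blocks
import Cfsg.Agent.Lib.Helper78.SubsecAlpha

/-!
# Contributions of height zero characters are units (helper78)
-/

set_option autoImplicit false

namespace Cfsg.Agent.Lib.Helper78

open Cfsg Cfsg.Agent.Lib.Helper4 Cfsg.Agent.Lib.Helper16 Cfsg.Agent.Lib.Helper97
open scoped ComplexConjugate

variable {M : Ideal AlgInt} {p : ℕ}

theorem memLocalIdeal_root_sub_one (h : IsPModular p M) {w : ℂ} {k : ℕ} (hw : w ^ p ^ k = 1) :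
    MemLocalIdeal M (w - 1) := by
  have hP : M.IsPrime := pmod_isPrime h
  have := Helper77.resF_charP h
  have : Fact p.Prime := ⟨h.1⟩
  have hwR : MemLocalRing M w := memLocalRing_of_isIntegral hP
    (IsIntegral.of_pow (pow_pos h.1.pos k) (by rw [hw]; exact isIntegral_one))
  have h1R := memLocalRing_one (M := M) hP
  rw [← Helper77.red_eq_iff hwR h1R, ← sub_eq_zero]
  have h2 : Helper77.red M w ^ p ^ k = Helper77.red M 1 ^ p ^ k := by
    rw [← red_pow' hwR, ← red_pow' h1R, hw, one_pow]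
  have : (Helper77.red M w - Helper77.red M 1) ^ p ^ k = 0 := by
    rw [sub_pow_char_pow, h2, sub_self]
  exact pow_eq_zero_iff (pow_ne_zero _ h.1.ne_zero) |>.1 this

theorem memLocalIdeal_sum_mul_sub (hM : M.IsPrime) {ι : Type*} (s : Finset ι) (a u : ι → ℂ)
    (u0 : ℂ) (ha : ∀ i ∈ s, MemLocalRing M (a i)) (hu : ∀ i ∈ s, MemLocalIdeal M (u i - u0)) :
    MemLocalIdeal M (∑ i ∈ s, a i * u i - (∑ i ∈ s, a i) * u0) := by
  rw [Finset.sum_mul, ← Finset.sum_sub_distrib]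
  refine MemLocalIdeal.sum hM _ _ fun i hi => ?_
  rw [← mul_sub]
  exact MemLocalIdeal.mul_left hM (ha i hi) (hu i hi)

section One

variable {K : Type*} [Group K] [Fintype K]

open Classical in
theorem classInner_tilde_eq_sum (p : ℕ) (f g : K → ℂ) :
    classInner (tilde p f) g = ((p ^ (Nat.card K).factorization p : ℕ) : ℂ) / (Fintype.card K : ℂ) *
      ∑ s : K, if ¬ p ∣ orderOf s then f s * conj (g s) else 0 := by
  unfold classInner tilde
  rw [Nat.card_eq_fintype_card, Finset.mul_sum, Finset.mul_sum]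
  refine Finset.sum_congr rfl fun s _ => ?_
  by_cases hs : p ∣ orderOf s
  · simp [hs]
  · simp only [if_neg hs, if_pos hs]; ring

open Classical in
/-- the integral matrix `p^d [ζ,ξ]°` of a block -/
theorem exists_regMatrix (hBr : BrauerChar K) (h : IsPModular p M) {b : Set (IrrCharacter K)}
    (hb : IsPBlock M b) :
    ∃ m : IrrCharacter K → IrrCharacter K → ℤ,
      (∀ ζ ξ, m ζ ξ = m ξ ζ) ∧
      (∀ ζ ∈ b, ∀ ξ, (m ζ ξ : ℂ) * ((p ^ minDeg p b : ℕ) : ℂ)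
        = classInner (tilde p (ζ : K → ℂ)) (ξ : K → ℂ)) ∧
      (∀ ζ ∈ b, ∀ ξ, (m ζ ξ : ℂ) = ((p ^ blockDefect p b : ℕ) : ℂ) / (Fintype.card K : ℂ) *
        ∑ s : K, if ¬ p ∣ orderOf s then (ζ : K → ℂ) s * conj ((ξ : K → ℂ) s) else 0) := by
  have hM := pmod_isPrime h
  obtain ⟨N, hN, hsymm, -, -⟩ := exists_N hBr h
  have hp0 : ((p ^ minDeg p b : ℕ) : ℂ) ≠ 0 := by
    exact_mod_cast pow_ne_zero _ h.1.ne_zero
  have hdvd : ∀ ζ ∈ b, ∀ ξ, ((p ^ minDeg p b : ℕ) : ℤ) ∣ N ζ ξ := by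
    intro ζ hζ ξ
    have h1 := pow_dvd_of_classInner_tilde h.1 ζ ξ (hN ζ ξ)
    refine Dvd.dvd.trans ?_ h1
    exact_mod_cast pow_dvd_pow p (minDeg_le hζ)
  have h2 : ∀ ζ ∈ b, ∀ ξ, ((N ζ ξ / ((p ^ minDeg p b : ℕ) : ℤ) : ℤ) : ℂ) * ((p ^ minDeg p b : ℕ) : ℂ)
        = classInner (tilde p (ζ : K → ℂ)) (ξ : K → ℂ) := by
    intro ζ hζ ξ
    rw [hN]
    have := Int.ediv_mul_cancel (hdvd ζ hζ ξ)
    exact_mod_cast this
  refine ⟨fun ζ ξ => N ζ ξ / ((p ^ minDeg p b : ℕ) : ℤ), fun ζ ξ => by simp only; rw [hsymm], h2,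
    fun ζ hζ ξ => ?_⟩
  have h3 := h2 ζ hζ ξ
  rw [classInner_tilde_eq_sum] at h3
  have hmd : minDeg p b + blockDefect p b = (Nat.card K).factorization p := by
    rw [blockDefect_eq]
    have := minDeg_le_card (p := p) (IsPBlock.nonempty hM hb)
    omega
  rw [← hmd, pow_add] at h3
  apply mul_right_cancel₀ hp0
  rw [h3]
  push_cast
  ring

end One

section Two

variable {G : Type*} [Group G] [Fintype G]
variable (H : Subgroup G) [Fintype H]

open Classical in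
theorem classInner_tilde_res_eq (h : IsPModular p M) {b : Set (IrrCharacter H)}
    (hb : IsPBlock M b) (m : IrrCharacter H → IrrCharacter H → ℤ)
    (hm : ∀ ζ ∈ b, ∀ ξ, (m ζ ξ : ℂ) * ((p ^ minDeg p b : ℕ) : ℂ)
        = classInner (tilde p (ζ : H → ℂ)) (ξ : H → ℂ))
    (nn : IrrCharacter G → IrrCharacter H → ℕ)
    (hnn : ∀ (ψ : IrrCharacter G) (ξ : IrrCharacter H), classInner (fun x : H => (ψ : G → ℂ) x) (ξ : H → ℂ) = (nn ψ ξ : ℂ))
    (ψ : IrrCharacter G) {ζ : IrrCharacter H} (hζ : ζ ∈ b) :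
    classInner (tilde p (fun x : H => (ψ : G → ℂ) x)) (ζ : H → ℂ)
      = ((∑ ξ ∈ Finset.univ.filter (· ∈ b), (nn ψ ξ : ℤ) * m ζ ξ : ℤ) : ℂ) *
        ((p ^ minDeg p b : ℕ) : ℂ) := by
  have hres := Helper74.IsCharacter.eq_sum_classInner
    (Helper74.IsCharacter.restrict (Helper74.IrrCharacter.isCharacter ψ) H)
  rw [classInner_tilde_symm]
  conv_lhs => rw [hres]
  rw [Helper74.classInner_sum_right, map_sum, Finset.sum_filter]
  push_cast
  rw [Finset.sum_mul]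
  refine Finset.sum_congr rfl fun ξ _ => ?_
  rw [Helper74.classInner_smul_right, hnn, map_mul, Complex.conj_conj]
  split_ifs with hξ
  · rw [← hm ζ hζ ξ, map_mul, Complex.conj_natCast, map_intCast]
    push_cast
    ring
  · rw [classInner_tilde_eq_zero h hb hζ hξ]
    simp

open Classical in
/-- **Height zero characters have unit contributions** (integral form). -/
theorem not_memLocalIdeal_beta (h : IsPModular p M) {b : Set (IrrCharacter H)}
    {B : Set (IrrCharacter G)} (hind : IsInducedBlock M H b B)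
    (m : IrrCharacter H → IrrCharacter H → ℤ)
    (hm : ∀ ζ ∈ b, ∀ ξ, (m ζ ξ : ℂ) * ((p ^ minDeg p b : ℕ) : ℂ)
        = classInner (tilde p (ζ : H → ℂ)) (ξ : H → ℂ))
    (nn : IrrCharacter G → IrrCharacter H → ℕ)
    (hnn : ∀ (ψ : IrrCharacter G) (ξ : IrrCharacter H), classInner (fun x : H => (ψ : G → ℂ) x) (ξ : H → ℂ) = (nn ψ ξ : ℂ))
    {χ ψ : IrrCharacter G} (hχ : χ ∈ B) (hψ : ψ ∈ B)
    (h0χ : blockHeight p B (χ : G → ℂ) = 0) (h0ψ : blockHeight p B (ψ : G → ℂ) = 0) :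
    ¬ MemLocalIdeal M ((∑ ζ ∈ Finset.univ.filter (· ∈ b), ∑ ξ ∈ Finset.univ.filter (· ∈ b),
      (nn χ ζ : ℤ) * (nn ψ ξ : ℤ) * m ζ ξ : ℤ) : ℂ) := by
  have hM := pmod_isPrime h
  have hb := hind.1
  have hp0 : ((p ^ minDeg p b : ℕ) : ℂ) ≠ 0 := by
    exact_mod_cast pow_ne_zero _ h.1.ne_zero
  -- the reduced degrees
  have hr : ∀ ζ ∈ b, ∃ r : ℕ, (ζ : H → ℂ) 1 = (r : ℂ) * ((p ^ minDeg p b : ℕ) : ℂ) ∧
      (blockHeight p b (ζ : H → ℂ) = 0 → ¬ p ∣ r) := by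
    intro ζ hζ
    have h1 : p ^ minDeg p b ∣ charDegree (ζ : H → ℂ) :=
      (pow_dvd_pow p (minDeg_le hζ)).trans (Nat.ordProj_dvd _ _)
    obtain ⟨r, hr⟩ := h1
    refine ⟨r, by rw [irr_one_eq, hr]; push_cast; ring, fun h0 hpr => ?_⟩
    rw [blockHeight_eq_zero_iff hζ] at h0
    obtain ⟨r', rfl⟩ := hpr
    have h2 : p ^ (minDeg p b + 1) ∣ charDegree (ζ : H → ℂ) := ⟨r', by rw [hr, pow_succ]; ring⟩
    have h3 := (h.1.pow_dvd_iff_le_factorization (irr_charDegree_pos ζ).ne').1 h2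
    omega
  choose! r hr1 hr2 using hr
  -- W ψ ζ = r ζ * v ψ ζ
  have hW : ∀ (φ : IrrCharacter G), ∀ ζ ∈ b,
      ((∑ ξ ∈ Finset.univ.filter (· ∈ b), (nn φ ξ : ℤ) * m ζ ξ : ℤ) : ℂ) = (r ζ : ℂ) *
        (classInner (tilde p (fun x : H => (φ : G → ℂ) x)) (ζ : H → ℂ) / (ζ : H → ℂ) 1) := by
    intro φ ζ hζ
    rw [classInner_tilde_res_eq H h hb m hm nn hnn φ hζ, hr1 ζ hζ]
    have hr0 : (r ζ : ℂ) ≠ 0 := by
      intro h0
      have := hr1 ζ hζ
      rw [h0, zero_mul] at this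
      exact irr_one_ne_zero ζ this
    field_simp
  -- congruence of the `v`
  have hvR : ∀ (φ : IrrCharacter G) (ζ : IrrCharacter H), MemLocalRing M
      (classInner (tilde p (fun x : H => (φ : G → ℂ) x)) (ζ : H → ℂ) / (ζ : H → ℂ) 1) := by
    intro φ ζ
    rw [classInner_tilde_res_div]
    exact MemLocalRing.mul hM (unit_card_div h _ Nat.card_pos.ne').1
      (memLocalRing_omega hM ζ
        (fun g x => Helper16.rcF_isClassFunction p (irr_isClassFunction φ) g x)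
        (fun x => Helper16.rcF_mem hM p φ x))
  have hvc : ∀ (φ : IrrCharacter G), ∀ ζ ∈ b, ∀ ζ' ∈ b, MemLocalIdeal M
      (classInner (tilde p (fun x : H => (φ : G → ℂ) x)) (ζ : H → ℂ) / (ζ : H → ℂ) 1 -
        classInner (tilde p (fun x : H => (φ : G → ℂ) x)) (ζ' : H → ℂ) / (ζ' : H → ℂ) 1) := by
    intro φ ζ hζ ζ' hζ'
    rw [classInner_tilde_res_div, classInner_tilde_res_div, ← mul_sub]
    refine MemLocalIdeal.mul_left hM (unit_card_div h _ Nat.card_pos.ne').1 ?_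
    exact memLocalIdeal_omega_sub hM (IsPBlock.sameBlock hM hb hζ hζ')
      (fun g x => Helper16.rcF_isClassFunction p (irr_isClassFunction φ) g x)
      (fun x => Helper16.rcF_mem hM p φ x)
  obtain ⟨ξ0, hξ0, hξ0h⟩ := exists_height_zero (p := p) (IsPBlock.nonempty hM hb)
  -- δ χ is a unit
  have hδ : ¬ MemLocalIdeal M (∑ ζ ∈ Finset.univ.filter (· ∈ b), (nn χ ζ : ℂ) * (r ζ : ℂ)) := by
    intro hcon
    have h1 := hW χ ξ0 hξ0
    have h2 : ¬ MemLocalIdeal M ((r ξ0 : ℂ) *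
        (classInner (tilde p (fun x : H => (χ : G → ℂ) x)) (ξ0 : H → ℂ) / (ξ0 : H → ℂ) 1)) := by
      rw [memLocalIdeal_mul_iff hM (memLocalRing_natCast hM _) (hvR χ ξ0)]
      rintro (h3 | h3)
      · exact hr2 ξ0 hξ0 hξ0h ((memLocalIdeal_natCast_iff h _).1 h3)
      · exact not_memLocalIdeal_classInner_tilde_res H h hind χ hξ0 hχ h0χ h3
    apply h2
    rw [← h1]
    have h4 : ((∑ ξ ∈ Finset.univ.filter (· ∈ b), (nn χ ξ : ℤ) * m ξ0 ξ : ℤ) : ℂ)
        = ∑ ξ ∈ Finset.univ.filter (· ∈ b), ((nn χ ξ : ℂ) * (r ξ : ℂ)) *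
          omega (ξ : H → ℂ) (cfun p (ξ0 : H → ℂ)) := by
      push_cast
      refine Finset.sum_congr rfl fun ξ hξ => ?_
      have hξb : ξ ∈ b := (Finset.mem_filter.1 hξ).2
      have h5 := hm ξ0 hξ0 ξ
      rw [classInner_tilde_eq p (fun g => irr_inv ξ0 g), hr1 ξ hξb] at h5
      have h6 : (m ξ0 ξ : ℂ) = (r ξ : ℂ) * omega (ξ : H → ℂ) (cfun p (ξ0 : H → ℂ)) := by
        apply mul_right_cancel₀ hp0
        rw [h5]; ring
      rw [h6]; ring
    rw [h4]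
    have h7 := memLocalIdeal_sum_mul_sub hM (Finset.univ.filter (· ∈ b))
      (fun ξ => (nn χ ξ : ℂ) * (r ξ : ℂ)) (fun ξ => omega (ξ : H → ℂ) (cfun p (ξ0 : H → ℂ)))
      (omega (ξ0 : H → ℂ) (cfun p (ξ0 : H → ℂ)))
      (fun ξ _ => MemLocalRing.mul hM (memLocalRing_natCast hM _) (memLocalRing_natCast hM _))
      (fun ξ hξ => memLocalIdeal_omega_sub hM
        (IsPBlock.sameBlock hM hb (Finset.mem_filter.1 hξ).2 hξ0)
        (cfun_isClassFunction p (irr_isClassFunction ξ0)) (cfun_memLocalRing h ξ0))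
    rw [MemLocalIdeal.congr hM h7]
    exact MemLocalIdeal.mul_right hM hcon (memLocalRing_omega hM ξ0
      (cfun_isClassFunction p (irr_isClassFunction ξ0)) (cfun_memLocalRing h ξ0))
  -- the main congruence
  have h8 : ((∑ ζ ∈ Finset.univ.filter (· ∈ b), ∑ ξ ∈ Finset.univ.filter (· ∈ b),
      (nn χ ζ : ℤ) * (nn ψ ξ : ℤ) * m ζ ξ : ℤ) : ℂ)
      = ∑ ζ ∈ Finset.univ.filter (· ∈ b), ((nn χ ζ : ℂ) * (r ζ : ℂ)) *
        (classInner (tilde p (fun x : H => (ψ : G → ℂ) x)) (ζ : H → ℂ) / (ζ : H → ℂ) 1) := by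
    rw [Int.cast_sum]
    refine Finset.sum_congr rfl fun ζ hζ => ?_
    have hζb : ζ ∈ b := (Finset.mem_filter.1 hζ).2
    rw [mul_assoc, ← hW ψ ζ hζb]
    push_cast
    rw [Finset.mul_sum]
    refine Finset.sum_congr rfl fun ξ _ => by ring
  rw [h8]
  have h9 := memLocalIdeal_sum_mul_sub hM (Finset.univ.filter (· ∈ b))
    (fun ζ => (nn χ ζ : ℂ) * (r ζ : ℂ))
    (fun ζ => classInner (tilde p (fun x : H => (ψ : G → ℂ) x)) (ζ : H → ℂ) / (ζ : H → ℂ) 1)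
    (classInner (tilde p (fun x : H => (ψ : G → ℂ) x)) (ξ0 : H → ℂ) / (ξ0 : H → ℂ) 1)
    (fun ξ _ => MemLocalRing.mul hM (memLocalRing_natCast hM _) (memLocalRing_natCast hM _))
    (fun ζ hζ => hvc ψ ζ (Finset.mem_filter.1 hζ).2 ξ0 hξ0)
  rw [MemLocalIdeal.congr hM h9, memLocalIdeal_mul_iff hM
    (MemLocalRing.sum hM _ _ fun ξ _ =>
      MemLocalRing.mul hM (memLocalRing_natCast hM _) (memLocalRing_natCast hM _)) (hvR ψ ξ0)]
  rintro (h10 | h10)
  · exact hδ h10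
  · exact not_memLocalIdeal_classInner_tilde_res H h hind ψ hξ0 hψ h0ψ h10

end Two

end Cfsg.Agent.Lib.Helper78
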