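import Mathlib
import Cfsg.Prelude.Def_Blocks
import Cfsg.Agent.Lib.Helper78.SubsecUnit
import Cfsg.Agent.Lib.Helper78.GaloisPkg
import Cfsg.Agent.S0164

/-!
# Galois averages of the contributions of a subsection (helper78)

The Héthelyi–Külshammer–Sambale bound `k₀(B)² ≤ p^{2q} l(b)`.
-/

set_option autoImplicit false

namespace Cfsg.Agent.Lib.Helper78

open Cfsg Cfsg.Agent.Lib.Helper4 Cfsg.Agent.Lib.Helper16 Cfsg.Agent.Lib.Helper97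
open scoped ComplexConjugate

/-- the average of the Galois conjugates of an `n`-th root of unity -/
noncomputable def rootAvg (n : ℕ) [NeZero n] (w : ℂ) : ℂ :=
  (Fintype.card (ZMod n)ˣ : ℂ)⁻¹ * ∑ j : (ZMod n)ˣ, w ^ (j : ZMod n).val


/-- abstract Galois averaging of a matrix `α` with `α α^* = c α` -/
theorem abstract_avg {X : Type*} (n : ℕ) [NeZero n] (τ : (ZMod n)ˣ → (ℂ ≃+* ℂ))
    (hτ1 : ∀ j w, w ^ n = 1 → τ j w = w ^ (j : ZMod n).val)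
    (hτ2 : ∀ α ∈ rootRing n, α ≠ 0 → (Fintype.card (ZMod n)ˣ : ℝ) ≤ ∑ j, ‖τ j α‖ ^ 2)
    (BF k0F : Finset X) (hsub : k0F ⊆ BF) (α : X → X → ℂ) (hα : ∀ χ ψ, α χ ψ ∈ rootRing n)
    (c l : ℕ) (hc : 0 < c)
    (hsq : ∀ χ, ∑ ψ ∈ BF, α χ ψ * conj (α χ ψ) = (c : ℂ) * α χ χ)
    (htr : ∑ χ ∈ BF, α χ χ = (c : ℂ) * (l : ℂ))
    (hne : ∀ χ ∈ k0F, ∀ ψ ∈ k0F, α χ ψ ≠ 0) :
    ∃ t : X → ℝ, (∀ χ, (t χ : ℂ) = (Fintype.card (ZMod n)ˣ : ℂ)⁻¹ * ∑ j, τ j (α χ χ)) ∧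
      (∀ χ, 0 ≤ t χ) ∧ ∑ χ ∈ BF, t χ = (c : ℝ) * (l : ℝ) ∧
      ∀ χ ∈ k0F, (k0F.card : ℝ) ≤ (c : ℝ) * t χ := by
  have hn : 0 < n := Nat.pos_of_ne_zero (NeZero.ne n)
  have hφ : 0 < Fintype.card (ZMod n)ˣ := Fintype.card_pos
  have hφR : (0 : ℝ) < (Fintype.card (ZMod n)ˣ : ℝ) := by exact_mod_cast hφ
  have hφC : (Fintype.card (ZMod n)ˣ : ℂ) ≠ 0 := by exact_mod_cast hφ.ne'
  have hcR : (0 : ℝ) < (c : ℝ) := by exact_mod_cast hc
  have hcC : (c : ℂ) ≠ 0 := by exact_mod_cast hc.ne'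
  have key : ∀ (j : (ZMod n)ˣ) (χ : X),
      ((∑ ψ ∈ BF, ‖τ j (α χ ψ)‖ ^ 2 : ℝ) : ℂ) = (c : ℂ) * τ j (α χ χ) := by
    intro j χ
    have h1 := congrArg (τ j) (hsq χ)
    rw [map_sum, map_mul, map_natCast] at h1
    rw [← h1]
    push_cast
    refine Finset.sum_congr rfl fun ψ _ => ?_
    rw [map_mul, map_conj_of_mem_rootRing hn (τ j) _ (hτ1 j) (hα χ ψ), Complex.mul_conj']
  refine ⟨fun χ => ((Fintype.card (ZMod n)ˣ : ℝ) * (c : ℝ))⁻¹ *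
    ∑ j, ∑ ψ ∈ BF, ‖τ j (α χ ψ)‖ ^ 2, ?_, ?_, ?_, ?_⟩
  · intro χ
    rw [Complex.ofReal_mul, Complex.ofReal_sum, Finset.sum_congr rfl fun j _ => key j χ,
      ← Finset.mul_sum]
    push_cast
    field_simp
  · intro χ
    positivity
  · have hC : ((∑ χ ∈ BF, ((Fintype.card (ZMod n)ˣ : ℝ) * (c : ℝ))⁻¹ *
        ∑ j, ∑ ψ ∈ BF, ‖τ j (α χ ψ)‖ ^ 2 : ℝ) : ℂ) = (((c : ℝ) * (l : ℝ) : ℝ) : ℂ) := by
      rw [← Finset.mul_sum, Finset.sum_comm, Complex.ofReal_mul, Complex.ofReal_sum]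
      have h2 : ∀ j : (ZMod n)ˣ, ((∑ χ ∈ BF, ∑ ψ ∈ BF, ‖τ j (α χ ψ)‖ ^ 2 : ℝ) : ℂ)
          = (c : ℂ) * ((c : ℂ) * (l : ℂ)) := by
        intro j
        rw [Complex.ofReal_sum, Finset.sum_congr rfl fun χ _ => key j χ, ← Finset.mul_sum,
          ← map_sum, htr, map_mul, map_natCast, map_natCast]
      rw [Finset.sum_congr rfl fun j _ => h2 j, Finset.sum_const, Finset.card_univ, nsmul_eq_mul]
      push_cast
      field_simp
    exact_mod_cast hC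
  · intro χ hχ
    have h3 : (k0F.card : ℝ) * (Fintype.card (ZMod n)ˣ : ℝ)
        ≤ ∑ j, ∑ ψ ∈ BF, ‖τ j (α χ ψ)‖ ^ 2 := by
      rw [Finset.sum_comm]
      calc (k0F.card : ℝ) * (Fintype.card (ZMod n)ˣ : ℝ)
          = ∑ ψ ∈ k0F, (Fintype.card (ZMod n)ˣ : ℝ) := by
            rw [Finset.sum_const, nsmul_eq_mul]
        _ ≤ ∑ ψ ∈ k0F, ∑ j, ‖τ j (α χ ψ)‖ ^ 2 :=
            Finset.sum_le_sum fun ψ hψ => hτ2 _ (hα χ ψ) (hne χ hχ ψ hψ)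
        _ ≤ ∑ ψ ∈ BF, ∑ j, ‖τ j (α χ ψ)‖ ^ 2 :=
            Finset.sum_le_sum_of_subset_of_nonneg hsub fun ψ _ _ =>
              Finset.sum_nonneg fun j _ => by positivity
    have h4 : (c : ℝ) * (((Fintype.card (ZMod n)ˣ : ℝ) * (c : ℝ))⁻¹ *
        ∑ j, ∑ ψ ∈ BF, ‖τ j (α χ ψ)‖ ^ 2)
        = (∑ j, ∑ ψ ∈ BF, ‖τ j (α χ ψ)‖ ^ 2) / (Fintype.card (ZMod n)ˣ : ℝ) := by
      field_simp
    rw [h4, le_div_iff₀ hφR]
    exact h3

variable {G : Type*} [Group G] [Fintype G]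
variable {M : Ideal AlgInt} {p : ℕ} [Fact p.Prime]

theorem central_ratio_pow (x : G) {k : ℕ} (hx : orderOf x = p ^ k) (ζ : IrrCharacter (Cen x)) :
    ((ζ : Cen x → ℂ) (cenSelf x) / (ζ : Cen x → ℂ) 1) ^ p ^ k = 1 := by
  have h1 : ∀ j : ℕ, (ζ : Cen x → ℂ) (cenSelf x ^ j)
      = ((ζ : Cen x → ℂ) (cenSelf x) / (ζ : Cen x → ℂ) 1) ^ j * (ζ : Cen x → ℂ) 1 := by
    intro j
    induction j with
    | zero => simp
    | succ j ih => rw [pow_succ', irr_central_mul ζ (cenSelf_central x), ih, pow_succ']; ring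
  have h2 : cenSelf x ^ p ^ k = 1 := by
    apply Subtype.ext
    show x ^ p ^ k = 1
    rw [← hx]; exact pow_orderOf_eq_one x
  have h3 := h1 (p ^ k)
  rw [h2] at h3
  have h4 := irr_one_ne_zero ζ
  exact mul_right_cancel₀ h4 (by rw [one_mul]; exact h3.symm)

open Classical in
/-- explicit form of the contributions -/
theorem exists_subsection_data (hM : IsPModular p M) (x : G) {k : ℕ} (hx : orderOf x = p ^ k)
    {B : Set (IrrCharacter G)} {b : Set (IrrCharacter (Cen x))}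
    (hind : IsInducedBlock M (Cen x) b B) :
    ∃ (lam : IrrCharacter (Cen x) → ℂ) (nn : IrrCharacter G → IrrCharacter (Cen x) → ℕ)
      (m : IrrCharacter (Cen x) → IrrCharacter (Cen x) → ℤ),
      (∀ ζ, lam ζ ^ p ^ k = 1) ∧ (∀ ζ ξ, m ζ ξ = m ξ ζ) ∧
      (∀ χ ψ, subAlpha p x b χ ψ = ∑ ζ ∈ Finset.univ.filter (· ∈ b),
        ∑ ξ ∈ Finset.univ.filter (· ∈ b), lam ζ * conj (lam ξ) *
          (((nn χ ζ : ℤ) * (nn ψ ξ : ℤ) * m ζ ξ : ℤ) : ℂ)) ∧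
      (∀ χ ∈ B, ∀ ψ ∈ B, blockHeight p B (χ : G → ℂ) = 0 → blockHeight p B (ψ : G → ℂ) = 0 →
        ¬ MemLocalIdeal M ((∑ ζ ∈ Finset.univ.filter (· ∈ b), ∑ ξ ∈ Finset.univ.filter (· ∈ b),
          (nn χ ζ : ℤ) * (nn ψ ξ : ℤ) * m ζ ξ : ℤ) : ℂ)) := by
  have hBr : BrauerChar (Cen x) := fun θ hθ hE => Cfsg.Agent.S0164.result θ hθ hE
  obtain ⟨m, hm1, hm2, hm3⟩ := exists_regMatrix hBr hM hind.1
  choose nn hnn using fun (ψ : IrrCharacter G) (ξ : IrrCharacter (Cen x)) =>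
    Helper74.IsCharacter.classInner_irr_nat
      (Helper74.IsCharacter.restrict (Helper74.IrrCharacter.isCharacter ψ) (Cen x)) ξ
  refine ⟨fun ζ => (ζ : Cen x → ℂ) (cenSelf x) / (ζ : Cen x → ℂ) 1, nn, m,
    central_ratio_pow x hx, hm1, fun χ ψ => ?_, fun χ hχ ψ hψ h0χ h0ψ =>
      not_memLocalIdeal_beta (Cen x) hM hind m hm2 nn hnn hχ hψ h0χ h0ψ⟩
  rw [subAlpha_expand]
  refine Finset.sum_congr rfl fun ζ hζ => Finset.sum_congr rfl fun ξ _ => ?_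
  rw [← hm3 ζ (Finset.mem_filter.1 hζ).2 ξ, classInner_tw, classInner_tw]
  have e1 : classInner (fun c : Cen x => (χ : G → ℂ) (c : G)) (ζ : Cen x → ℂ) = (nn χ ζ : ℂ) :=
    hnn χ ζ
  have e2 : classInner (fun c : Cen x => (ψ : G → ℂ) (c : G)) (ξ : Cen x → ℂ) = (nn ψ ξ : ℂ) :=
    hnn ψ ξ
  rw [e1, e2, map_mul, Complex.conj_natCast]
  push_cast
  ring

instance neZero_prime_pow' (p k : ℕ) [Fact p.Prime] : NeZero (p ^ k) :=
  ⟨pow_ne_zero _ (Fact.out : p.Prime).ne_zero⟩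

open Classical in
/-- **Galois averages of the diagonal contributions.** -/
theorem exists_subsection_avg (hM : IsPModular p M) (x : G) {k : ℕ} (hx : orderOf x = p ^ k)
    {B : Set (IrrCharacter G)} {b : Set (IrrCharacter (Cen x))}
    (hind : IsInducedBlock M (Cen x) b B) :
    ∃ (lam : IrrCharacter (Cen x) → ℂ) (nn : IrrCharacter G → IrrCharacter (Cen x) → ℕ)
      (m : IrrCharacter (Cen x) → IrrCharacter (Cen x) → ℤ) (t : IrrCharacter G → ℝ),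
      (∀ ζ, lam ζ ^ p ^ k = 1) ∧ (∀ ζ ξ, m ζ ξ = m ξ ζ) ∧
      (∀ χ ∈ B, ∀ ψ ∈ B, blockHeight p B (χ : G → ℂ) = 0 → blockHeight p B (ψ : G → ℂ) = 0 →
        ¬ MemLocalIdeal M ((∑ ζ ∈ Finset.univ.filter (· ∈ b), ∑ ξ ∈ Finset.univ.filter (· ∈ b),
          (nn χ ζ : ℤ) * (nn ψ ξ : ℤ) * m ζ ξ : ℤ) : ℂ)) ∧
      (∀ χ, (t χ : ℂ) = ∑ ζ ∈ Finset.univ.filter (· ∈ b), ∑ ξ ∈ Finset.univ.filter (· ∈ b),
        rootAvg (p ^ k) (lam ζ * conj (lam ξ)) *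
          (((nn χ ζ : ℤ) * (nn χ ξ : ℤ) * m ζ ξ : ℤ) : ℂ)) ∧
      (∀ χ, 0 ≤ t χ) ∧
      ∑ χ ∈ Finset.univ.filter (· ∈ B), t χ
        = ((p ^ blockDefect p b : ℕ) : ℝ) * (blockRank p b : ℝ) ∧
      ∀ χ ∈ B, blockHeight p B (χ : G → ℂ) = 0 →
        (((Finset.univ.filter (· ∈ B)).filter
          (fun χ : IrrCharacter G => blockHeight p B (χ : G → ℂ) = 0)).card : ℝ)
          ≤ ((p ^ blockDefect p b : ℕ) : ℝ) * t χ := by
  have hMp : M.IsPrime := hM.2.1.isPrime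
  obtain ⟨lam, nn, m, hl, hm, hα, hβ⟩ := exists_subsection_data hM x hx hind
  obtain ⟨τ, hτ1, hτ2⟩ := galois_pkg (p ^ k)
  have hw : ∀ ζ ξ, (lam ζ * conj (lam ξ)) ^ p ^ k = 1 := by
    intro ζ ξ
    rw [mul_pow, ← map_pow, hl, hl, map_one, one_mul]
  have hαmem : ∀ χ ψ, subAlpha p x b χ ψ ∈ rootRing (p ^ k) := by
    intro χ ψ
    rw [hα]
    refine Subring.sum_mem _ fun ζ _ => Subring.sum_mem _ fun ξ _ => ?_
    exact Subring.mul_mem _ (mem_rootRing_of_pow (hw ζ ξ)) (intCast_mem _ _)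
  have hne : ∀ χ ∈ (Finset.univ.filter (· ∈ B)).filter
      (fun χ : IrrCharacter G => blockHeight p B (χ : G → ℂ) = 0),
      ∀ ψ ∈ (Finset.univ.filter (· ∈ B)).filter
      (fun χ : IrrCharacter G => blockHeight p B (χ : G → ℂ) = 0), subAlpha p x b χ ψ ≠ 0 := by
    intro χ hχ ψ hψ h0
    rw [Finset.mem_filter, Finset.mem_filter] at hχ hψ
    apply hβ χ hχ.1.2 ψ hψ.1.2 hχ.2 hψ.2
    have h1 : MemLocalIdeal M (subAlpha p x b χ ψ -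
        ((∑ ζ ∈ Finset.univ.filter (· ∈ b), ∑ ξ ∈ Finset.univ.filter (· ∈ b),
          (nn χ ζ : ℤ) * (nn ψ ξ : ℤ) * m ζ ξ : ℤ) : ℂ)) := by
      rw [hα, Int.cast_sum, ← Finset.sum_sub_distrib]
      refine MemLocalIdeal.sum hMp _ _ fun ζ _ => ?_
      rw [Int.cast_sum, ← Finset.sum_sub_distrib]
      refine MemLocalIdeal.sum hMp _ _ fun ξ _ => ?_
      have : lam ζ * conj (lam ξ) * (((nn χ ζ : ℤ) * (nn ψ ξ : ℤ) * m ζ ξ : ℤ) : ℂ)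
          - (((nn χ ζ : ℤ) * (nn ψ ξ : ℤ) * m ζ ξ : ℤ) : ℂ)
          = (lam ζ * conj (lam ξ) - 1) * (((nn χ ζ : ℤ) * (nn ψ ξ : ℤ) * m ζ ξ : ℤ) : ℂ) := by
        ring
      rw [this]
      exact MemLocalIdeal.mul_right hMp (memLocalIdeal_root_sub_one hM (hw ζ ξ))
        (memLocalRing_intCast hMp _)
    rw [← MemLocalIdeal.congr hMp h1, h0]
    exact memLocalIdeal_zero hMp
  obtain ⟨t, ht1, ht2, ht3, ht4⟩ := abstract_avg (p ^ k) τ hτ1 hτ2 (Finset.univ.filter (· ∈ B))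
    ((Finset.univ.filter (· ∈ B)).filter
      (fun χ : IrrCharacter G => blockHeight p B (χ : G → ℂ) = 0))
    (Finset.filter_subset _ _) (subAlpha p x b) hαmem (p ^ blockDefect p b) (blockRank p b)
    (pow_pos hM.1.pos _) (subAlpha_sq hM x ⟨k, hx⟩ hind) (subAlpha_trace hM x ⟨k, hx⟩ hind) hne
  refine ⟨lam, nn, m, t, hl, hm, hβ, fun χ => ?_, ht2, ht3, fun χ hχ h0 => ht4 χ ?_⟩
  · rw [ht1]
    have h2 : ∀ j : (ZMod (p ^ k))ˣ, τ j (subAlpha p x b χ χ)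
        = ∑ ζ ∈ Finset.univ.filter (· ∈ b), ∑ ξ ∈ Finset.univ.filter (· ∈ b),
          (lam ζ * conj (lam ξ)) ^ (j : ZMod (p ^ k)).val *
          (((nn χ ζ : ℤ) * (nn χ ξ : ℤ) * m ζ ξ : ℤ) : ℂ) := by
      intro j
      rw [hα, map_sum]
      refine Finset.sum_congr rfl fun ζ _ => ?_
      rw [map_sum]
      refine Finset.sum_congr rfl fun ξ _ => ?_
      rw [map_mul, map_intCast, hτ1 j _ (hw ζ ξ)]
    rw [Finset.sum_congr rfl fun j _ => h2 j, Finset.sum_comm, Finset.mul_sum]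
    refine Finset.sum_congr rfl fun ζ _ => ?_
    rw [Finset.sum_comm, Finset.mul_sum]
    refine Finset.sum_congr rfl fun ξ _ => ?_
    unfold rootAvg
    rw [← Finset.sum_mul]
    ring
  · rw [Finset.mem_filter, Finset.mem_filter]
    exact ⟨⟨Finset.mem_univ _, hχ⟩, h0⟩

open Classical in
/-- **Héthelyi–Külshammer–Sambale**: `k₀(B)² ≤ p^{2q} l(b)` for every subsection `(x, b)`. -/
theorem sq_card_height_zero_le (hM : IsPModular p M) (x : G) (hx : ∃ k : ℕ, orderOf x = p ^ k)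
    {B : Set (IrrCharacter G)} {b : Set (IrrCharacter (Cen x))}
    (hind : IsInducedBlock M (Cen x) b B) :
    ((Finset.univ.filter (· ∈ B)).filter
      (fun χ : IrrCharacter G => blockHeight p B (χ : G → ℂ) = 0)).card ^ 2
      ≤ p ^ (2 * blockDefect p b) * blockRank p b := by
  obtain ⟨k, hk⟩ := hx
  obtain ⟨-, -, -, t, -, -, -, -, ht2, ht3, ht4⟩ := exists_subsection_avg hM x hk hind
  set S := (Finset.univ.filter (· ∈ B)).filter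
      (fun χ : IrrCharacter G => blockHeight p B (χ : G → ℂ) = 0) with hS
  have h1 : (S.card : ℝ) * (S.card : ℝ) ≤ ∑ χ ∈ S, ((p ^ blockDefect p b : ℕ) : ℝ) * t χ := by
    rw [← nsmul_eq_mul, ← Finset.sum_const]
    refine Finset.sum_le_sum fun χ hχ => ?_
    rw [hS, Finset.mem_filter, Finset.mem_filter] at hχ
    exact ht4 χ hχ.1.2 hχ.2
  have h2 : ∑ χ ∈ S, t χ ≤ ∑ χ ∈ Finset.univ.filter (· ∈ B), t χ :=
    Finset.sum_le_sum_of_subset_of_nonneg (Finset.filter_subset _ _) fun χ _ _ => ht2 χ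
  rw [← Finset.mul_sum] at h1
  have h3 : (0 : ℝ) ≤ ((p ^ blockDefect p b : ℕ) : ℝ) := by positivity
  have h4 : (S.card : ℝ) * (S.card : ℝ) ≤ ((p ^ blockDefect p b : ℕ) : ℝ) *
      (((p ^ blockDefect p b : ℕ) : ℝ) * (blockRank p b : ℝ)) := by
    rw [← ht3]
    exact h1.trans (mul_le_mul_of_nonneg_left h2 h3)
  have h5 : S.card * S.card ≤ p ^ blockDefect p b * (p ^ blockDefect p b * blockRank p b) := by
    exact_mod_cast h4
  calc S.card ^ 2 = S.card * S.card := sq _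
    _ ≤ p ^ blockDefect p b * (p ^ blockDefect p b * blockRank p b) := h5
    _ = p ^ (2 * blockDefect p b) * blockRank p b := by rw [two_mul, pow_add]; ring

end Cfsg.Agent.Lib.Helper78
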