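import Mathlib
import Cfsg.Prelude.Def_Blocks
import Cfsg.Agent.Lib.Helper78.Contribution

/-!
# The Brauer–Feit bounds (helper78), relative to `BrauerChar G`
-/

set_option autoImplicit false

namespace Cfsg.Agent.Lib.Helper78

open Cfsg
open scoped ComplexConjugate

variable {M : Ideal AlgInt}
variable {G : Type*} [Group G] [Fintype G]

theorem sq_ge_of_padicValInt {p : ℕ} [Fact p.Prime] {m : ℤ} (hm : m ≠ 0) {k : ℕ}
    (hk : k ≤ padicValInt p m) : (p : ℤ) ^ (2 * k) ≤ m ^ 2 := by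
  have h1 : (p : ℤ) ^ k ∣ m := (padicValInt_dvd_iff k m).2 (Or.inr hk)
  have h2 : (p : ℤ) ^ k ≤ |m| := by
    have := Int.le_of_dvd (abs_pos.2 hm) ((dvd_abs _ _).2 h1)
    exact this
  have h3 : (0 : ℤ) ≤ (p : ℤ) ^ k := by positivity
  calc (p : ℤ) ^ (2 * k) = ((p : ℤ) ^ k) ^ 2 := by rw [← pow_mul, mul_comm]
    _ ≤ |m| ^ 2 := by gcongr
    _ = m ^ 2 := sq_abs m

open Classical in
theorem natCard_set_eq_sum (B : Set (IrrCharacter G)) :
    (Nat.card B : ℤ) = ∑ ψ : IrrCharacter G, if ψ ∈ B then (1 : ℤ) else 0 := by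
  rw [Nat.card_eq_fintype_card, Fintype.card_subtype, Finset.sum_boole]

/-- Abstract Brauer–Feit arithmetic: off-diagonal estimate. -/
theorem four_mul_sum_erase_le {ι : Type*} [Fintype ι] [DecidableEq ι] (g : ι → ℤ) (q m0 : ℤ) (i0 : ι)
    (hg0 : g i0 = m0 ^ 2) (hsum : ∑ i, g i = q * m0) :
    4 * ∑ i ∈ Finset.univ.erase i0, g i ≤ q ^ 2 := by
  have h1 := Finset.add_sum_erase Finset.univ g (Finset.mem_univ i0)
  have h2 : ∑ i ∈ Finset.univ.erase i0, g i = q * m0 - m0 ^ 2 := by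
    rw [hsum, hg0] at h1; linarith
  rw [h2]
  nlinarith [sq_nonneg (q - 2 * m0)]

open Classical in
/-- `4 (∑_{ψ ∈ B} p^{2 h(ψ)} - 1) ≤ p^{2d}`. -/
theorem four_mul_sum_heights_le (hBr : BrauerChar G) {p : ℕ} (h : IsPModular p M)
    {B : Set (IrrCharacter G)} (hB : IsPBlock M B) :
    4 * (∑ ψ : IrrCharacter G, (if ψ ∈ B then (p : ℤ) ^ (2 * blockHeight p B (ψ : G → ℂ)) else 0))
      ≤ ((p : ℤ) ^ blockDefect p B) ^ 2 + 4 := by
  have hM := pmod_isPrime h
  haveI : Fact p.Prime := ⟨h.1⟩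
  obtain ⟨m, hsymm, hsq, hpos, hht0, -⟩ := exists_contribution_matrix hBr h hB
  obtain ⟨χ0, hχ0, h0⟩ := exists_height_zero (p := p) (IsPBlock.nonempty hM hB)
  have h1 := four_mul_sum_erase_le (fun ψ => if ψ ∈ B then m χ0 ψ ^ 2 else 0)
    ((p : ℤ) ^ blockDefect p B) (m χ0 χ0) χ0 (by simp only [if_pos hχ0]) (hsq χ0 hχ0)
  have h2 := Finset.add_sum_erase Finset.univ
    (fun ψ : IrrCharacter G => if ψ ∈ B then (p : ℤ) ^ (2 * blockHeight p B (ψ : G → ℂ)) else 0)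
    (Finset.mem_univ χ0)
  simp only [if_pos hχ0, h0, mul_zero, pow_zero] at h2
  have h3 : ∑ ψ ∈ Finset.univ.erase χ0,
      (if ψ ∈ B then (p : ℤ) ^ (2 * blockHeight p B (ψ : G → ℂ)) else 0) ≤
      ∑ ψ ∈ Finset.univ.erase χ0, (if ψ ∈ B then m χ0 ψ ^ 2 else 0) := by
    refine Finset.sum_le_sum fun ψ _ => ?_
    split_ifs with hψ
    · obtain ⟨hne, hv⟩ := hht0 χ0 hχ0 h0 ψ hψ
      exact sq_ge_of_padicValInt hne hv.ge
    · exact le_refl _
  linarith

open Classical in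
/-- Brauer–Feit: `4 k(B) ≤ p^{2d} + 4`. -/
theorem four_mul_card_le (hBr : BrauerChar G) {p : ℕ} (h : IsPModular p M)
    {B : Set (IrrCharacter G)} (hB : IsPBlock M B) :
    4 * Nat.card B ≤ p ^ (2 * blockDefect p B) + 4 := by
  have h1 := four_mul_sum_heights_le hBr h hB
  have h2 : (Nat.card B : ℤ) ≤ ∑ ψ : IrrCharacter G,
      (if ψ ∈ B then (p : ℤ) ^ (2 * blockHeight p B (ψ : G → ℂ)) else 0) := by
    rw [natCard_set_eq_sum]
    refine Finset.sum_le_sum fun ψ _ => ?_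
    split_ifs
    · exact one_le_pow₀ (by exact_mod_cast h.1.one_lt.le)
    · exact le_refl _
  have h3 : (4 * Nat.card B : ℤ) ≤ ((p : ℤ) ^ blockDefect p B) ^ 2 + 4 := by linarith
  rw [← pow_mul, mul_comm (blockDefect p B) 2] at h3
  exact_mod_cast h3

open Classical in
/-- Positive heights are at most `d - 2`. -/
theorem height_add_two_le (hBr : BrauerChar G) {p : ℕ} (h : IsPModular p M)
    {B : Set (IrrCharacter G)} (hB : IsPBlock M B) {χ : IrrCharacter G} (hχ : χ ∈ B)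
    (hpos : 0 < blockHeight p B (χ : G → ℂ)) :
    blockHeight p B (χ : G → ℂ) + 2 ≤ blockDefect p B := by
  have hM := pmod_isPrime h
  haveI : Fact p.Prime := ⟨h.1⟩
  obtain ⟨m, hsymm, hsq, hmpos, hht0, hhtpos⟩ := exists_contribution_matrix hBr h hB
  obtain ⟨χ0, hχ0, h0⟩ := exists_height_zero (p := p) (IsPBlock.nonempty hM hB)
  have hne : χ0 ≠ χ := by
    rintro rfl
    omega
  have hm0 : m χ χ0 ≠ 0 := by
    rw [hsymm χ hχ χ0 hχ0]
    exact (hht0 χ0 hχ0 h0 χ hχ).1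
  -- m χ χ ^ 2 + m χ χ0 ^ 2 ≤ q * m χ χ
  have h1 := Finset.add_sum_erase Finset.univ
    (fun ψ : IrrCharacter G => if ψ ∈ B then m χ ψ ^ 2 else 0) (Finset.mem_univ χ)
  simp only [if_pos hχ] at h1
  have h2 : m χ χ0 ^ 2 ≤ ∑ ψ ∈ Finset.univ.erase χ, (if ψ ∈ B then m χ ψ ^ 2 else 0) := by
    have := Finset.single_le_sum (f := fun ψ : IrrCharacter G => if ψ ∈ B then m χ ψ ^ 2 else 0)
      (s := Finset.univ.erase χ) (fun ψ _ => by split_ifs <;> positivity)
      (Finset.mem_erase.2 ⟨hne, Finset.mem_univ χ0⟩)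
    simpa only [if_pos hχ0] using this
  have h3 : 0 < m χ χ0 ^ 2 := by positivity
  have h4 : m χ χ ^ 2 < (p : ℤ) ^ blockDefect p B * m χ χ := by
    rw [← hsq χ hχ, ← h1]; linarith
  have h5 : m χ χ < (p : ℤ) ^ blockDefect p B := by
    have := hmpos χ hχ
    nlinarith
  have h6 := hhtpos χ hχ hpos χ hχ
  have h7 : (p : ℤ) ^ (blockHeight p B (χ : G → ℂ) + 1) ≤ m χ χ := Int.le_of_dvd (hmpos χ hχ) h6
  have h8 : (p : ℤ) ^ (blockHeight p B (χ : G → ℂ) + 1) < (p : ℤ) ^ blockDefect p B :=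
    lt_of_le_of_lt h7 h5
  have h9 : blockHeight p B (χ : G → ℂ) + 1 < blockDefect p B :=
    (pow_lt_pow_iff_right₀ (by exact_mod_cast h.1.one_lt)).1 h8
  omega

open Classical in
/-- If `B` has a character of positive height then `2 k(B) ≤ p^{2d-2}`. -/
theorem two_mul_card_le_of_pos_height (hBr : BrauerChar G) {p : ℕ} (h : IsPModular p M)
    {B : Set (IrrCharacter G)} (hB : IsPBlock M B) {χ : IrrCharacter G} (hχ : χ ∈ B)
    (hpos : 0 < blockHeight p B (χ : G → ℂ)) :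
    2 * Nat.card B ≤ p ^ (2 * blockDefect p B - 2) := by
  have hM := pmod_isPrime h
  haveI : Fact p.Prime := ⟨h.1⟩
  have hd := height_add_two_le hBr h hB hχ hpos
  obtain ⟨m, hsymm, hsq, hmpos, hht0, hhtpos⟩ := exists_contribution_matrix hBr h hB
  obtain ⟨χ0, hχ0, h0⟩ := exists_height_zero (p := p) (IsPBlock.nonempty hM hB)
  set q : ℤ := (p : ℤ) ^ blockDefect p B with hq
  have hp1 : (1 : ℤ) ≤ (p : ℤ) := by exact_mod_cast h.1.one_lt.le
  -- k0 and kplus
  set k0 : ℤ := ∑ ψ : IrrCharacter G,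
    (if ψ ∈ B ∧ blockHeight p B (ψ : G → ℂ) = 0 then (1 : ℤ) else 0) with hk0
  set kp : ℤ := ∑ ψ : IrrCharacter G,
    (if ψ ∈ B ∧ 0 < blockHeight p B (ψ : G → ℂ) then (1 : ℤ) else 0) with hkp
  have hk : (Nat.card B : ℤ) = k0 + kp := by
    rw [natCard_set_eq_sum, hk0, hkp, ← Finset.sum_add_distrib]
    refine Finset.sum_congr rfl fun ψ _ => ?_
    by_cases hψ : ψ ∈ B
    · by_cases hh : blockHeight p B (ψ : G → ℂ) = 0
      · simp [hψ, hh]
      · simp [hψ, hh, Nat.pos_of_ne_zero hh]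
    · simp [hψ]
  have hk0pos : 1 ≤ k0 := by
    have := Finset.single_le_sum (f := fun ψ : IrrCharacter G =>
      if ψ ∈ B ∧ blockHeight p B (ψ : G → ℂ) = 0 then (1 : ℤ) else 0)
      (s := Finset.univ) (fun ψ _ => by split_ifs <;> norm_num) (Finset.mem_univ χ0)
    simpa only [hχ0, h0, and_self, if_true] using this
  -- (i)
  have hi : 4 * (k0 + (p : ℤ) ^ 2 * kp) ≤ q ^ 2 + 4 := by
    have h1 := four_mul_sum_heights_le hBr h hB
    have h2 : k0 + (p : ℤ) ^ 2 * kp ≤ ∑ ψ : IrrCharacter G,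
        (if ψ ∈ B then (p : ℤ) ^ (2 * blockHeight p B (ψ : G → ℂ)) else 0) := by
      rw [hk0, hkp, Finset.mul_sum, ← Finset.sum_add_distrib]
      refine Finset.sum_le_sum fun ψ _ => ?_
      by_cases hψ : ψ ∈ B
      · by_cases hh : blockHeight p B (ψ : G → ℂ) = 0
        · simp [hψ, hh]
        · have hh' := Nat.pos_of_ne_zero hh
          simp only [hψ, hh, hh', and_false, and_self, if_true, if_false, zero_add, mul_one]
          exact pow_le_pow_right₀ hp1 (by omega)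
      · simp [hψ]
    linarith
  -- (ii)
  have hii : 4 * ((p : ℤ) ^ 2 * k0) ≤ q ^ 2 := by
    have h1 := four_mul_sum_erase_le (fun ψ => if ψ ∈ B then m χ ψ ^ 2 else 0)
      q (m χ χ) χ (by simp only [if_pos hχ]) (hsq χ hχ)
    have h2 : (p : ℤ) ^ 2 * k0 ≤
        ∑ ψ ∈ Finset.univ.erase χ, (if ψ ∈ B then m χ ψ ^ 2 else 0) := by
      have h3 : k0 = ∑ ψ ∈ Finset.univ.erase χ,
          (if ψ ∈ B ∧ blockHeight p B (ψ : G → ℂ) = 0 then (1 : ℤ) else 0) := by
        rw [hk0, ← Finset.add_sum_erase Finset.univ _ (Finset.mem_univ χ)]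
        have : ¬ (χ ∈ B ∧ blockHeight p B (χ : G → ℂ) = 0) := by
          rintro ⟨-, hh⟩; omega
        rw [if_neg this, zero_add]
      rw [h3, Finset.mul_sum]
      refine Finset.sum_le_sum fun ψ _ => ?_
      by_cases hψ : ψ ∈ B
      · by_cases hh : blockHeight p B (ψ : G → ℂ) = 0
        · simp only [hψ, hh, and_self, if_true, mul_one]
          obtain ⟨hne, hv⟩ := hht0 ψ hψ hh χ hχ
          rw [hsymm χ hχ ψ hψ]
          have := sq_ge_of_padicValInt (p := p) (k := 1) hne (by omega)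
          simpa using this
        · simp only [hψ, hh, and_false, if_false, mul_zero, if_true]
          positivity
      · simp [hψ]
    linarith
  have hfin : 2 * ((p : ℤ) ^ 2 * (Nat.card B : ℤ)) ≤ q ^ 2 := by
    rw [hk]
    nlinarith
  have hq2 : q ^ 2 = (p : ℤ) ^ 2 * (p : ℤ) ^ (2 * blockDefect p B - 2) := by
    rw [hq, ← pow_mul, ← pow_add]
    congr 1
    omega
  rw [hq2] at hfin
  have hp2 : (0 : ℤ) < (p : ℤ) ^ 2 := by positivity
  have : (2 * (Nat.card B : ℤ)) ≤ (p : ℤ) ^ (2 * blockDefect p B - 2) := by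
    by_contra hcon
    push Not at hcon
    nlinarith
  exact_mod_cast this

end Cfsg.Agent.Lib.Helper78
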