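import Mathlib
import Cfsg.Agent.Lib.Helper78.Subsection
import Cfsg.Agent.S4494
import Cfsg.Agent.S0920

/-!
# Blocks of positive defect have at least two characters; `2`-blocks of defect one
-/

set_option autoImplicit false

namespace Cfsg.Agent.Lib.Helper78

open Cfsg Cfsg.Agent.Lib.Helper16 Cfsg.Agent.Lib.Helper4
open scoped ComplexConjugate

noncomputable section

variable {K : Type*} [Group K] [Fintype K]
variable {M : Ideal AlgInt} {p : ℕ}

/-- a character whose block has defect zero vanishes on `p`-singular elements -/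
theorem eq_zero_of_blockDefect_eq_zero (h : IsPModular p M) {B : Set (IrrCharacter K)}
    (hB : IsPBlock M B) (hd : blockDefect p B = 0) {χ : IrrCharacter K} (hχ : χ ∈ B) (y : K)
    (hy : p ∣ orderOf y) : (χ : K → ℂ) y = 0 := by
  have hM := pmod_isPrime h
  have hpp := h.1
  apply eq_zero_of_blockOf_eq_singleton h χ _ y hy
  rw [← defect_zero_iff h χ]
  have h1 := minDeg_le (p := p) hχ
  have h2 := factorization_charDegree_le p χ
  rw [blockDefect_eq] at hd
  have h3 : (charDegree (χ : K → ℂ)).factorization p = (Nat.card K).factorization p := by omega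
  intro hdvd
  have h4 := hpp.factorization_pos_of_dvd
    (Nat.div_pos (Nat.le_of_dvd Nat.card_pos (irr_charDegree_dvd_card χ))
      (irr_charDegree_pos χ)).ne' hdvd
  rw [Nat.factorization_div (irr_charDegree_dvd_card χ)] at h4
  simp only [Finsupp.coe_tsub, Pi.sub_apply] at h4
  omega

/-- a block of positive defect has at least two characters -/
theorem two_le_card_of_defect_pos (h : IsPModular p M) {B : Set (IrrCharacter K)}
    (hB : IsPBlock M B) (hd : 0 < blockDefect p B) : 2 ≤ Nat.card B := by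
  have hM := pmod_isPrime h
  have hpp := h.1
  by_contra hcon
  obtain ⟨χ, hχ⟩ := IsPBlock.nonempty hM hB
  have hsub : Subsingleton B := Finite.card_le_one_iff_subsingleton.1 (by omega)
  have hBs : B = {χ} := by
    ext ψ
    constructor
    · intro hψ
      exact congrArg Subtype.val (hsub.elim ⟨ψ, hψ⟩ ⟨χ, hχ⟩)
    · rintro rfl; exact hχ
  have h1 : blockOf M (χ : K → ℂ) = {χ} := by rw [← IsPBlock.eq_blockOf hM hB hχ, hBs]
  have h2 := (defect_zero_iff h χ).2 h1
  have h3 : minDeg p B = (charDegree (χ : K → ℂ)).factorization p := by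
    obtain ⟨ψ, hψ, hψe⟩ := exists_minDeg (p := p) ⟨χ, hχ⟩
    rw [hBs] at hψ
    rw [← hψe, Set.mem_singleton_iff.1 hψ]
  rw [blockDefect_eq, h3] at hd
  apply h2
  apply Nat.dvd_of_factorization_pos
  rw [Nat.factorization_div (irr_charDegree_dvd_card χ)]
  simp only [Finsupp.coe_tsub, Pi.sub_apply]
  omega

/-- a `2`-block of defect one has exactly two characters -/
theorem exists_pair_of_defect_one (h : IsPModular 2 M) {B : Set (IrrCharacter K)}
    (hB : IsPBlock M B) (hd : blockDefect 2 B = 1) :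
    ∃ χ₁ χ₂ : IrrCharacter K, χ₁ ≠ χ₂ ∧ B = {χ₁, χ₂} := by
  have : Fact (Nat.Prime 2) := ⟨Nat.prime_two⟩
  have h1 := two_le_card_of_defect_pos h hB (by omega)
  have h2 := Cfsg.Agent.S4494.result 2 M h B hB
  rw [hd] at h2
  have h3 : Nat.card B = 2 := by
    have h4 : 2 ^ (2 * 1) + 4 = 8 := by norm_num
    omega
  rw [Nat.card_coe_set_eq] at h3
  exact Set.ncard_eq_two.1 h3

/-- uniqueness in the first main theorem, transported along an equality of subgroups -/
theorem unique_of_eq_normalizer [Fact p.Prime] (hM : IsPModular p M) (D : Subgroup K)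
    (hD : IsPGroup p D) {B : Set (IrrCharacter K)} (hB : IsPBlock M B)
    (hBD : IsDefectGroup p M B D) (H : Subgroup K)
    (hH : H = Subgroup.normalizer (D : Set K)) (b₁ b₂ : Set (IrrCharacter H))
    (h1 : IsDefectGroup p M b₁ (D.subgroupOf H)) (h1' : IsInducedBlock M H b₁ B)
    (h2 : IsDefectGroup p M b₂ (D.subgroupOf H)) (h2' : IsInducedBlock M H b₂ B) : b₁ = b₂ := by
  subst hH
  obtain ⟨b, -, hu⟩ := (Cfsg.Agent.S0920.result p M hM D hD).2 B hB hBD
  rw [hu b₁ ⟨h1'.1, h1, h1'⟩, hu b₂ ⟨h2'.1, h2, h2'⟩]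

end

end Cfsg.Agent.Lib.Helper78
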