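import Mathlib
import Cfsg.Agent.Lib.Helper78.GaloisPkg

/-!
# Positive semidefinite integral forms of rank at most two (helper78)

Abstract part of the bound `k(B) ≤ p^d` for major subsections `(z,b)` with `l(b) ≤ 2`.
-/

set_option autoImplicit false

namespace Cfsg.Agent.Lib.Helper78

open scoped ComplexConjugate

/-- the number of nonzero entries of a vector over `ℤ[ζ_n]` is at most its (rational) norm -/
theorem card_nonzero_le {X : Type*} (n : ℕ) [NeZero n] (BF : Finset X) (f : X → ℂ)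
    (hf : ∀ χ, f χ ∈ rootRing n) (r : ℚ) (h : ∑ χ ∈ BF, f χ * conj (f χ) = (r : ℂ)) :
    (∀ S : Finset X, S ⊆ BF → (∀ χ ∈ S, f χ ≠ 0) → (S.card : ℚ) ≤ r) := by
  intro S hS hne
  obtain ⟨τ, hτ1, hτ2⟩ := galois_pkg n
  have hn : 0 < n := Nat.pos_of_ne_zero (NeZero.ne n)
  have hφ : 0 < Fintype.card (ZMod n)ˣ := Fintype.card_pos
  have hφR : (0 : ℝ) < (Fintype.card (ZMod n)ˣ : ℝ) := by exact_mod_cast hφ
  have key : ∀ j : (ZMod n)ˣ, ∑ χ ∈ BF, ‖τ j (f χ)‖ ^ 2 = (r : ℝ) := by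
    intro j
    have h1 := congrArg (τ j) h
    rw [map_sum, map_ratCast] at h1
    have h2 : ((∑ χ ∈ BF, ‖τ j (f χ)‖ ^ 2 : ℝ) : ℂ) = ((r : ℝ) : ℂ) := by
      push_cast
      rw [← h1]
      refine Finset.sum_congr rfl fun χ _ => ?_
      rw [map_mul, map_conj_of_mem_rootRing hn (τ j) _ (hτ1 j) (hf χ), Complex.mul_conj']
    exact_mod_cast h2
  have h3 : (S.card : ℝ) * (Fintype.card (ZMod n)ˣ : ℝ) ≤ (Fintype.card (ZMod n)ˣ : ℝ) * (r : ℝ) := by
    calc (S.card : ℝ) * (Fintype.card (ZMod n)ˣ : ℝ)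
        = ∑ χ ∈ S, (Fintype.card (ZMod n)ˣ : ℝ) := by rw [Finset.sum_const, nsmul_eq_mul]
      _ ≤ ∑ χ ∈ S, ∑ j, ‖τ j (f χ)‖ ^ 2 :=
          Finset.sum_le_sum fun χ hχ => hτ2 _ (hf χ) (hne χ hχ)
      _ ≤ ∑ χ ∈ BF, ∑ j, ‖τ j (f χ)‖ ^ 2 :=
          Finset.sum_le_sum_of_subset_of_nonneg hS fun χ _ _ =>
            Finset.sum_nonneg fun j _ => by positivity
      _ = ∑ j : (ZMod n)ˣ, (r : ℝ) := by
          rw [Finset.sum_comm]; exact Finset.sum_congr rfl fun j _ => key j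
      _ = (Fintype.card (ZMod n)ˣ : ℝ) * (r : ℝ) := by
          rw [Finset.sum_const, Finset.card_univ, nsmul_eq_mul]
  have h4 : (S.card : ℝ) ≤ (r : ℝ) := by
    rw [mul_comm] at h3
    exact le_of_mul_le_mul_left h3 hφR
  exact_mod_cast h4

theorem exists_round (S Δ : ℤ) (hΔ : 0 < Δ) : ∃ s : ℤ, |2 * (S - s * Δ)| ≤ Δ := by
  refine ⟨(2 * S + Δ) / (2 * Δ), ?_⟩
  have h1 := Int.emod_nonneg (2 * S + Δ) (by omega : (2 * Δ) ≠ 0)
  have h2 := Int.emod_lt_of_pos (2 * S + Δ) (by omega : 0 < 2 * Δ)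
  have h3 := Int.emod_add_mul_ediv (2 * S + Δ) (2 * Δ)
  rw [abs_le]
  constructor <;> nlinarith

theorem numeric_reduced (Q1 Q2 β : ℤ) (h1 : 0 < Q1) (h2 : Q1 ≤ Q2) (h3 : 2 * |β| ≤ Q1)
    (h4 : ¬ (Q1 = 1 ∧ β = 0)) : Q1 + Q2 - |β| ≤ Q1 * Q2 - β ^ 2 := by
  have hb : β ^ 2 = |β| ^ 2 := (sq_abs β).symm
  have ht : 0 ≤ |β| := abs_nonneg β
  have hQ : 2 ≤ Q1 := by
    by_contra hlt
    have h5 : Q1 = 1 := by omega
    apply h4
    refine ⟨h5, ?_⟩
    have : |β| = 0 := by omega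
    exact abs_eq_zero.1 this
  rw [hb]
  generalize |β| = t at *
  rcases eq_or_lt_of_le hQ with h | h
  · have ht1 : t ≤ 1 := by omega
    have : t = 0 ∨ t = 1 := by omega
    rcases this with rfl | rfl
    · nlinarith
    · nlinarith
  · have h5 : 3 ≤ Q1 := by omega
    nlinarith [mul_nonneg (sub_nonneg.2 h5) (sub_nonneg.2 h2), mul_nonneg ht ht, mul_nonneg (sub_nonneg.2 h3) (sub_nonneg.2 h3), mul_nonneg (sub_nonneg.2 h3) ht, mul_nonneg (sub_nonneg.2 h5) (sub_nonneg.2 h5)]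

/-- minimum of an integer valued nonnegative function on a nonempty set -/
theorem exists_min_int {Λ : Type*} (P : Λ → Prop) (f : Λ → ℤ) (hf : ∀ v, 0 ≤ f v)
    (hex : ∃ v, P v) : ∃ e, P e ∧ ∀ v, P v → f e ≤ f v := by
  classical
  have h1 : ∃ k : ℕ, ∃ v, P v ∧ (f v).toNat = k := by
    obtain ⟨v, hv⟩ := hex
    exact ⟨_, v, hv, rfl⟩
  obtain ⟨e, he, hek⟩ := Nat.find_spec h1
  refine ⟨e, he, fun v hv => ?_⟩
  have h2 := Nat.find_min' h1 ⟨v, hv, rfl⟩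
  rw [← hek] at h2
  have := hf e
  have := hf v
  omega

theorem exists_generator {Λ : Type*} [AddCommGroup Λ] (B : LinearMap.BilinForm ℤ Λ)
    (hsym : ∀ x y, B x y = B y x) (hpos : ∀ x, 0 ≤ B x x)
    (hdeg : ∀ a b, B a a * B b b - B a b ^ 2 ≤ 0) (hex : ∃ a, 0 < B a a) :
    ∃ e1, 0 < B e1 e1 ∧ ∀ n, ∃ s : ℤ, B (n - s • e1) (n - s • e1) = 0 := by
  obtain ⟨e1, he1, hmin⟩ := exists_min_int (fun v => 0 < B v v) (fun v => B v v) hpos hex
  refine ⟨e1, he1, fun n => ?_⟩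
  obtain ⟨s, hs⟩ := exists_round (B n e1) (B e1 e1) he1
  refine ⟨s, ?_⟩
  set r := n - s • e1 with hr
  have hu : B r e1 = B n e1 - s * B e1 e1 := by
    rw [hr]; simp [map_sub, LinearMap.sub_apply, map_smul, LinearMap.smul_apply]
  have h1 := hdeg e1 r
  rw [hsym e1 r, hu] at h1
  by_contra hne
  have hq : 0 < B r r := lt_of_le_of_ne (hpos r) (Ne.symm hne)
  have h2 := hmin r hq
  have h3 : (2 * (B n e1 - s * B e1 e1)) ^ 2 ≤ (B e1 e1) ^ 2 := by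
    rw [← sq_abs (2 * (B n e1 - s * B e1 e1))]
    exact pow_le_pow_left₀ (abs_nonneg _) hs 2
  nlinarith

theorem exists_reduced_basis {Λ : Type*} [AddCommGroup Λ] (B : LinearMap.BilinForm ℤ Λ)
    (hsym : ∀ x y, B x y = B y x) (hpos : ∀ x, 0 ≤ B x x)
    (h3 : ∀ a b c, B c c * (B a a * B b b - B a b ^ 2)
      = B b b * B c a ^ 2 - 2 * B a b * B c a * B c b + B a a * B c b ^ 2)
    (hex : ∃ a b, 0 < B a a * B b b - B a b ^ 2) :
    ∃ e1 e2, 0 < B e1 e1 ∧ B e1 e1 ≤ B e2 e2 ∧ 2 * |B e1 e2| ≤ B e1 e1 ∧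
      ∀ n, ∃ s t : ℤ, B (n - s • e1 - t • e2) (n - s • e1 - t • e2) = 0 := by
  obtain ⟨a, b, hab⟩ := hex
  have hex1 : ∃ v, 0 < B v v := by
    refine ⟨a, lt_of_le_of_ne (hpos a) fun h0 => ?_⟩
    rw [← h0] at hab
    nlinarith [sq_nonneg (B a b)]
  obtain ⟨e1, he1, hmin1⟩ := exists_min_int (fun v => 0 < B v v) (fun v => B v v) hpos hex1
  have hCS : ∀ n, 0 ≤ B e1 e1 * B n n - B e1 n ^ 2 := by
    intro n
    have h := hpos (B e1 e1 • n - B e1 n • e1)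
    have h' : B (B e1 e1 • n - B e1 n • e1) (B e1 e1 • n - B e1 n • e1)
        = B e1 e1 * (B e1 e1 * B n n - B e1 n ^ 2) := by
      simp only [map_sub, LinearMap.sub_apply, map_smul, LinearMap.smul_apply, smul_eq_mul]
      rw [hsym n e1]; ring
    rw [h'] at h
    by_contra hlt
    push Not at hlt
    nlinarith
  have hex2 : ∃ v, 0 < B e1 e1 * B v v - B e1 v ^ 2 := by
    by_contra hcon
    push Not at hcon
    have ha : B e1 e1 * B a a = B e1 a ^ 2 := by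
      have := hcon a; have := hCS a; omega
    have hb : B e1 e1 * B b b = B e1 b ^ 2 := by
      have := hcon b; have := hCS b; omega
    have E1 := h3 a b e1
    have h4 : (B e1 a * B e1 b - B e1 e1 * B a b) ^ 2 = 0 := by
      linear_combination (- B e1 e1) * E1 + (B e1 e1 * B b b - B e1 b ^ 2) * ha
    have h5 : B e1 a * B e1 b = B e1 e1 * B a b := by
      have := pow_eq_zero_iff (two_ne_zero) |>.1 h4
      omega
    have h6 : B e1 e1 ^ 2 * (B a a * B b b - B a b ^ 2) = 0 := by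
      linear_combination (B e1 e1 * B b b) * ha + (B e1 a ^ 2) * hb
        + (B e1 a * B e1 b + B e1 e1 * B a b) * h5
    have h7 : 0 < B e1 e1 ^ 2 * (B a a * B b b - B a b ^ 2) := by positivity
    omega
  obtain ⟨e2, he2, hmin2⟩ := exists_min_int (fun v => 0 < B e1 e1 * B v v - B e1 v ^ 2)
    (fun v => B v v) hpos hex2

  have hQ2pos : 0 < B e2 e2 := by
    by_contra hle
    have : B e2 e2 = 0 := le_antisymm (not_lt.1 hle) (hpos e2)
    rw [this] at he2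
    nlinarith [sq_nonneg (B e1 e2)]
  have h12 : B e1 e1 ≤ B e2 e2 := hmin1 e2 hQ2pos
  have hβ : 2 * |B e1 e2| ≤ B e1 e1 := by
    have hp := hmin2 (e2 + e1) (by
      simp only [map_add, LinearMap.add_apply]
      rw [hsym e2 e1]; nlinarith)
    have hm := hmin2 (e2 - e1) (by
      simp only [map_sub, LinearMap.sub_apply]
      rw [hsym e2 e1]; nlinarith)
    simp only [map_add, map_sub, LinearMap.add_apply, LinearMap.sub_apply] at hp hm
    rw [hsym e2 e1] at hp hm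
    have : |B e1 e2| ≤ B e1 e1 - |B e1 e2| := by
      rcases abs_cases (B e1 e2) with ⟨h, _⟩ | ⟨h, _⟩ <;> rw [h] <;> linarith
    linarith
  refine ⟨e1, e2, he1, h12, hβ, fun n => ?_⟩
  set Q1 := B e1 e1 with hQ1
  set Q2 := B e2 e2 with hQ2
  set β := B e1 e2 with hβd
  set Δ := Q1 * Q2 - β ^ 2 with hΔ
  obtain ⟨s, hs⟩ := exists_round (Q2 * B n e1 - β * B n e2) Δ he2
  obtain ⟨t, ht⟩ := exists_round (Q1 * B n e2 - β * B n e1) Δ he2
  refine ⟨s, t, ?_⟩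
  set r := n - s • e1 - t • e2 with hr
  have hu : B r e1 = B n e1 - s * Q1 - t * β := by
    rw [hr]
    simp only [map_sub, LinearMap.sub_apply, map_smul, LinearMap.smul_apply, smul_eq_mul]
    rw [hsym e2 e1]
  have hv : B r e2 = B n e2 - s * β - t * Q2 := by
    rw [hr]
    simp only [map_sub, LinearMap.sub_apply, map_smul, LinearMap.smul_apply, smul_eq_mul]
    rfl
  set S' := Q2 * B n e1 - β * B n e2 - s * Δ with hS'
  set T' := Q1 * B n e2 - β * B n e1 - t * Δ with hT'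
  have hS : S' = Q2 * B r e1 - β * B r e2 := by rw [hu, hv, hS', hΔ]; ring
  have hT : T' = Q1 * B r e2 - β * B r e1 := by rw [hu, hv, hT', hΔ]; ring
  have hG := h3 e1 e2 r
  have hA : Δ ^ 2 * B r r = S' ^ 2 * Q1 + 2 * S' * T' * β + T' ^ 2 * Q2 := by
    rw [hS, hT]
    linear_combination (Q1 * Q2 - β ^ 2) * hG
  have hD : Δ * (Q1 * B r r - B e1 r ^ 2) = T' ^ 2 := by
    rw [hT, hsym e1 r]
    linear_combination Q1 * hG
  have hS2 : (2 * S') ^ 2 ≤ Δ ^ 2 := by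
    rw [← sq_abs (2 * S')]; exact pow_le_pow_left₀ (abs_nonneg _) hs 2
  have hT2 : (2 * T') ^ 2 ≤ Δ ^ 2 := by
    rw [← sq_abs (2 * T')]; exact pow_le_pow_left₀ (abs_nonneg _) ht 2
  by_contra hne
  have hq : 0 < B r r := lt_of_le_of_ne (hpos r) (Ne.symm hne)
  have hq1 := hmin1 r hq
  have hΔ2 : 0 < Δ ^ 2 := by positivity
  have hc1 : (2 * S') ^ 2 * Q1 ≤ Δ ^ 2 * Q1 := mul_le_mul_of_nonneg_right hS2 he1.le
  have hc2 : (2 * T') ^ 2 * Q2 ≤ Δ ^ 2 * Q2 := mul_le_mul_of_nonneg_right hT2 hQ2pos.le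
  by_cases hT0 : T' = 0
  · rw [hT0] at hA
    have h10 : Δ ^ 2 * (4 * B r r) ≤ Δ ^ 2 * Q1 := by
      calc Δ ^ 2 * (4 * B r r) = 4 * (Δ ^ 2 * B r r) := by ring
        _ = (2 * S') ^ 2 * Q1 := by rw [hA]; ring
        _ ≤ Δ ^ 2 * Q1 := hc1
    have h11 := le_of_mul_le_mul_left h10 hΔ2
    linarith
  · have hTpos : 0 < T' ^ 2 := by positivity
    have hdet : 0 < Q1 * B r r - B e1 r ^ 2 := by
      rw [← hD] at hTpos
      exact (pos_iff_pos_of_mul_pos hTpos).1 he2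
    have hq2 := hmin2 r hdet
    have hST : 2 * ((2 * S') * (2 * T') * β) ≤ Δ ^ 2 * Q1 := by
      have h8 : |(2 * S') * (2 * T') * β| ≤ Δ * Δ * |β| := by
        rw [abs_mul, abs_mul]
        exact mul_le_mul_of_nonneg_right (mul_le_mul hs ht (abs_nonneg _) he2.le) (abs_nonneg _)
      have h9 := le_abs_self ((2 * S') * (2 * T') * β)
      calc 2 * ((2 * S') * (2 * T') * β) ≤ 2 * (Δ * Δ * |β|) := by linarith
        _ = Δ ^ 2 * (2 * |β|) := by ring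
        _ ≤ Δ ^ 2 * Q1 := mul_le_mul_of_nonneg_left hβ hΔ2.le
    have h10 : Δ ^ 2 * (4 * B r r) ≤ Δ ^ 2 * (2 * Q1 + Q2) := by
      calc Δ ^ 2 * (4 * B r r) = 4 * (Δ ^ 2 * B r r) := by ring
        _ = (2 * S') ^ 2 * Q1 + 2 * ((2 * S') * (2 * T') * β) + (2 * T') ^ 2 * Q2 := by
            rw [hA]; ring
        _ ≤ Δ ^ 2 * Q1 + Δ ^ 2 * Q1 + Δ ^ 2 * Q2 := by linarith
        _ = Δ ^ 2 * (2 * Q1 + Q2) := by ring
    have h11 := le_of_mul_le_mul_left h10 hΔ2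
    linarith

end Cfsg.Agent.Lib.Helper78
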