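import Mathlib
import Cfsg.Agent.Lib.Helper78.Lattice2

/-!
# The abstract counting theorem for forms of rank at most two (helper78)
-/

set_option autoImplicit false

namespace Cfsg.Agent.Lib.Helper78

open scoped ComplexConjugate

theorem sum_bilin {X : Type*} (BF : Finset X) (x y : X → ℂ) (A B C D : ℤ) :
    ∑ χ ∈ BF, ((A : ℂ) * x χ + (B : ℂ) * y χ) * conj ((C : ℂ) * x χ + (D : ℂ) * y χ)
      = (A : ℂ) * C * ∑ χ ∈ BF, x χ * conj (x χ) + (A : ℂ) * D * ∑ χ ∈ BF, x χ * conj (y χ)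
        + (B : ℂ) * C * ∑ χ ∈ BF, y χ * conj (x χ) + (B : ℂ) * D * ∑ χ ∈ BF, y χ * conj (y χ) := by
  simp only [Finset.mul_sum, ← Finset.sum_add_distrib]
  refine Finset.sum_congr rfl fun χ _ => ?_
  simp only [map_add, map_mul, map_intCast]
  ring

/-- inverting the Gram matrix -/
theorem solve_gram {X : Type*} (BF : Finset X) (x y : X → ℂ) (Q1 Q2 β : ℤ) (N : ℂ)
    (hΔ : Q1 * Q2 - β ^ 2 ≠ 0)
    (h11 : ∑ χ ∈ BF, ((Q1 : ℂ) * x χ + (β : ℂ) * y χ) * conj ((Q1 : ℂ) * x χ + (β : ℂ) * y χ)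
      = N * Q1)
    (h12 : ∑ χ ∈ BF, ((Q1 : ℂ) * x χ + (β : ℂ) * y χ) * conj ((β : ℂ) * x χ + (Q2 : ℂ) * y χ)
      = N * β)
    (h21 : ∑ χ ∈ BF, ((β : ℂ) * x χ + (Q2 : ℂ) * y χ) * conj ((Q1 : ℂ) * x χ + (β : ℂ) * y χ)
      = N * β)
    (h22 : ∑ χ ∈ BF, ((β : ℂ) * x χ + (Q2 : ℂ) * y χ) * conj ((β : ℂ) * x χ + (Q2 : ℂ) * y χ)
      = N * Q2) :
    ((Q1 * Q2 - β ^ 2 : ℤ) : ℂ) * ∑ χ ∈ BF, x χ * conj (x χ) = N * Q2 ∧
    ((Q1 * Q2 - β ^ 2 : ℤ) : ℂ) * ∑ χ ∈ BF, y χ * conj (y χ) = N * Q1 ∧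
    ((Q1 * Q2 - β ^ 2 : ℤ) : ℂ) * ∑ χ ∈ BF, x χ * conj (y χ) = - (N * β) ∧
    ((Q1 * Q2 - β ^ 2 : ℤ) : ℂ) * ∑ χ ∈ BF, y χ * conj (x χ) = - (N * β) := by
  rw [sum_bilin] at h11 h12 h21 h22
  have hΔC : ((Q1 * Q2 - β ^ 2 : ℤ) : ℂ) ≠ 0 := by exact_mod_cast hΔ
  generalize ∑ χ ∈ BF, x χ * conj (x χ) = Sxx at *
  generalize ∑ χ ∈ BF, x χ * conj (y χ) = Sxy at *
  generalize ∑ χ ∈ BF, y χ * conj (x χ) = Syx at *
  generalize ∑ χ ∈ BF, y χ * conj (y χ) = Syy at *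
  refine ⟨?_, ?_, ?_, ?_⟩
  · apply mul_left_cancel₀ hΔC
    push_cast
    linear_combination (Q2 : ℂ) ^ 2 * h11 - (Q2 : ℂ) * β * h12 - (Q2 : ℂ) * β * h21
      + (β : ℂ) ^ 2 * h22
  · apply mul_left_cancel₀ hΔC
    push_cast
    linear_combination (β : ℂ) ^ 2 * h11 - (Q1 : ℂ) * β * h12 - (Q1 : ℂ) * β * h21
      + (Q1 : ℂ) ^ 2 * h22
  · apply mul_left_cancel₀ hΔC
    push_cast
    linear_combination - (Q2 : ℂ) * β * h11 + (Q1 : ℂ) * Q2 * h12 + (β : ℂ) ^ 2 * h21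
      - (Q1 : ℂ) * β * h22
  · apply mul_left_cancel₀ hΔC
    push_cast
    linear_combination - (Q2 : ℂ) * β * h11 + (β : ℂ) ^ 2 * h12 + (Q1 : ℂ) * Q2 * h21
      - (Q1 : ℂ) * β * h22

section Main

variable {Λ I X : Type*} [AddCommGroup Λ] (B : LinearMap.BilinForm ℤ Λ)

theorem card_le_rank_one (hrad : ∀ v, B v v = 0 → ∀ w, B v w = 0)
    (bF : Finset I) (δ : I → Λ) (BF : Finset X) (a : X → I → ℂ) (n : ℕ) [NeZero n]
    (ha : ∀ χ ζ, a χ ζ ∈ rootRing n) (N : ℕ)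
    (c : X → Λ → ℂ) (hc : ∀ χ v, c χ v = ∑ ζ ∈ bF, a χ ζ * ((B (δ ζ) v : ℤ) : ℂ))
    (hframe : ∀ v w, ∑ χ ∈ BF, c χ v * conj (c χ w) = (N : ℂ) * ((B v w : ℤ) : ℂ))
    (hne : ∀ χ ∈ BF, ∃ v, c χ v ≠ 0)
    (e1 : Λ) (he1 : 0 < B e1 e1) (s : I → ℤ)
    (hs : ∀ ζ, B (δ ζ - s ζ • e1) (δ ζ - s ζ • e1) = 0) : BF.card ≤ N := by
  have hexp : ∀ ζ w, B (δ ζ) w = s ζ * B e1 w := by
    intro ζ w
    have := hrad _ (hs ζ) w
    simp only [map_sub, LinearMap.sub_apply, map_smul, LinearMap.smul_apply, smul_eq_mul] at this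
    linarith
  set x : X → ℂ := fun χ => ∑ ζ ∈ bF, a χ ζ * ((s ζ : ℤ) : ℂ) with hx
  have hxm : ∀ χ, x χ ∈ rootRing n := fun χ =>
    Subring.sum_mem _ fun ζ _ => Subring.mul_mem _ (ha χ ζ) (intCast_mem _ _)
  have hcx : ∀ χ w, c χ w = x χ * ((B e1 w : ℤ) : ℂ) := by
    intro χ w
    rw [hc, hx, Finset.sum_mul]
    refine Finset.sum_congr rfl fun ζ _ => ?_
    rw [hexp]; push_cast; ring
  have hQC : ((B e1 e1 : ℤ) : ℂ) ≠ 0 := by exact_mod_cast he1.ne'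
  have hS : ∑ χ ∈ BF, x χ * conj (x χ) = (((N : ℚ) / (B e1 e1 : ℚ) : ℚ) : ℂ) := by
    have h1 := hframe e1 e1
    simp only [hcx, map_mul, map_intCast] at h1
    have h2 : ∑ χ ∈ BF, x χ * ((B e1 e1 : ℤ) : ℂ) * (conj (x χ) * ((B e1 e1 : ℤ) : ℂ))
        = ((B e1 e1 : ℤ) : ℂ) * ((B e1 e1 : ℤ) : ℂ) * ∑ χ ∈ BF, x χ * conj (x χ) := by
      rw [Finset.mul_sum]
      exact Finset.sum_congr rfl fun χ _ => by ring
    rw [h2] at h1
    have h5 : ((B e1 e1 : ℤ) : ℂ) * ∑ χ ∈ BF, x χ * conj (x χ) = N :=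
      mul_left_cancel₀ hQC (by linear_combination h1)
    push_cast
    rw [eq_div_iff hQC]
    linear_combination h5
  have h3 := card_nonzero_le n BF x hxm _ hS BF (Finset.Subset.refl _) (by
    intro χ hχ h0
    obtain ⟨v, hv⟩ := hne χ hχ
    apply hv
    rw [hcx, h0, zero_mul])
  have h4 : ((N : ℚ) / (B e1 e1 : ℚ) : ℚ) ≤ N := by
    apply div_le_self (Nat.cast_nonneg _)
    exact_mod_cast he1
  exact_mod_cast h3.trans h4

theorem card_le_rank_two (hsym : ∀ x y, B x y = B y x)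
    (hrad : ∀ v, B v v = 0 → ∀ w, B v w = 0)
    (bF : Finset I) (δ : I → Λ) (BF : Finset X) (a : X → I → ℂ) (n : ℕ) [NeZero n]
    (ha : ∀ χ ζ, a χ ζ ∈ rootRing n) (N : ℕ)
    (c : X → Λ → ℂ) (hc : ∀ χ v, c χ v = ∑ ζ ∈ bF, a χ ζ * ((B (δ ζ) v : ℤ) : ℂ))
    (hframe : ∀ v w, ∑ χ ∈ BF, c χ v * conj (c χ w) = (N : ℂ) * ((B v w : ℤ) : ℂ))
    (hne : ∀ χ ∈ BF, ∃ v, c χ v ≠ 0)
    (J : ℂ → Prop) (hJadd : ∀ u v, J u → J v → J (u + v))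
    (hJmul : ∀ w ∈ rootRing n, ∀ u, J u → J (w * u))
    (ψ0 : X) (hJ1 : ∀ v, ∀ χ ∈ BF, c χ v = 0 → J (c ψ0 v))
    (hJ2 : ¬ J (∑ ξ ∈ bF, conj (a ψ0 ξ) * c ψ0 (δ ξ)))
    (hJ3 : ∀ v w, J ((B v v * B w w - B v w ^ 2 : ℤ) : ℂ))
    (e1 e2 : Λ) (he1 : 0 < B e1 e1) (h12 : B e1 e1 ≤ B e2 e2) (hβ : 2 * |B e1 e2| ≤ B e1 e1)
    (s t : I → ℤ)
    (hst : ∀ ζ, B (δ ζ - s ζ • e1 - t ζ • e2) (δ ζ - s ζ • e1 - t ζ • e2) = 0) :
    BF.card ≤ N := by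
  classical
  have hexp : ∀ ζ w, B (δ ζ) w = s ζ * B e1 w + t ζ * B e2 w := by
    intro ζ w
    have := hrad _ (hst ζ) w
    simp only [map_sub, LinearMap.sub_apply, map_smul, LinearMap.smul_apply, smul_eq_mul] at this
    linarith
  set x : X → ℂ := fun χ => ∑ ζ ∈ bF, a χ ζ * ((s ζ : ℤ) : ℂ) with hx
  set y : X → ℂ := fun χ => ∑ ζ ∈ bF, a χ ζ * ((t ζ : ℤ) : ℂ) with hy
  have hxm : ∀ χ, x χ ∈ rootRing n := fun χ =>
    Subring.sum_mem _ fun ζ _ => Subring.mul_mem _ (ha χ ζ) (intCast_mem _ _)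
  have hym : ∀ χ, y χ ∈ rootRing n := fun χ =>
    Subring.sum_mem _ fun ζ _ => Subring.mul_mem _ (ha χ ζ) (intCast_mem _ _)
  have hcx : ∀ χ w, c χ w = ((B e1 w : ℤ) : ℂ) * x χ + ((B e2 w : ℤ) : ℂ) * y χ := by
    intro χ w
    rw [hc, hx, hy]
    simp only
    rw [Finset.mul_sum, Finset.mul_sum, ← Finset.sum_add_distrib]
    refine Finset.sum_congr rfl fun ζ _ => ?_
    rw [hexp]; push_cast; ring
  set Q1 := B e1 e1 with hQ1
  set Q2 := B e2 e2 with hQ2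
  set β := B e1 e2 with hβd
  have h21 : B e2 e1 = β := hsym e2 e1
  have hΔpos : 0 < Q1 * Q2 - β ^ 2 := by
    have h1 : β ^ 2 = |β| ^ 2 := (sq_abs β).symm
    have h2 : 0 ≤ |β| := abs_nonneg β
    rw [h1]
    nlinarith
  have hΔC : ((Q1 * Q2 - β ^ 2 : ℤ) : ℂ) ≠ 0 := by exact_mod_cast hΔpos.ne'
  have hΔQ : ((Q1 * Q2 - β ^ 2 : ℤ) : ℚ) ≠ 0 := by exact_mod_cast hΔpos.ne'
  obtain ⟨hxx, hyy, hxy, hyx⟩ := solve_gram BF x y Q1 Q2 β N hΔpos.ne'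
    (by have := hframe e1 e1; simp only [hcx, h21] at this; exact this)
    (by have := hframe e1 e2; simp only [hcx, h21] at this; exact this)
    (by have := hframe e2 e1; simp only [hcx, h21] at this; exact this)
    (by have := hframe e2 e2; simp only [hcx, h21] at this; exact this)
  have hSxx : ∑ χ ∈ BF, x χ * conj (x χ)
      = (((N : ℚ) * (Q2 : ℚ) / ((Q1 * Q2 - β ^ 2 : ℤ) : ℚ) : ℚ) : ℂ) := by
    rw [Rat.cast_div, eq_div_iff (by exact_mod_cast hΔpos.ne')]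
    push_cast at hxx ⊢
    linear_combination hxx
  have hxy0 : ∀ χ ∈ BF, ¬ (x χ = 0 ∧ y χ = 0) := by
    rintro χ hχ ⟨h1, h2⟩
    obtain ⟨v, hv⟩ := hne χ hχ
    apply hv
    rw [hcx, h1, h2]; ring
  by_cases hbad : Q1 = 1 ∧ β = 0
  · -- the decomposable case
    obtain ⟨hb1, hb2⟩ := hbad
    have hxne : ∀ χ ∈ BF, x χ ≠ 0 := by
      intro χ hχ h0
      have h1 : c χ e1 = 0 := by
        rw [hcx, h21, hb2, h0]; simp
      have h2 := hJ1 e1 χ hχ h1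
      have h3 : c ψ0 e1 = x ψ0 := by
        rw [hcx, h21, hb2, ← hQ1, hb1]; simp
      rw [h3] at h2
      apply hJ2
      have h4 : ∑ ξ ∈ bF, conj (a ψ0 ξ) * c ψ0 (δ ξ)
          = conj (x ψ0) * x ψ0 + (y ψ0 * conj (y ψ0)) * ((Q1 * Q2 - β ^ 2 : ℤ) : ℂ) := by
        have h5 : ∀ ξ, c ψ0 (δ ξ) = ((s ξ : ℤ) : ℂ) * x ψ0 + ((t ξ : ℤ) : ℂ) * (Q2 : ℂ) * y ψ0 := by
          intro ξ
          rw [hcx, hsym e1 (δ ξ), hsym e2 (δ ξ), hexp, hexp, h21, ← hQ1, ← hQ2, ← hβd, hb1, hb2]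
          push_cast; ring
        have hcx0 : conj (x ψ0) = ∑ ξ ∈ bF, conj (a ψ0 ξ) * ((s ξ : ℤ) : ℂ) := by
          rw [hx]; simp only [map_sum, map_mul, map_intCast]
        have hcy0 : conj (y ψ0) = ∑ ξ ∈ bF, conj (a ψ0 ξ) * ((t ξ : ℤ) : ℂ) := by
          rw [hy]; simp only [map_sum, map_mul, map_intCast]
        simp only [h5]
        rw [hcx0, hcy0, hb1, hb2, Finset.sum_mul, Finset.mul_sum, Finset.sum_mul,
          ← Finset.sum_add_distrib]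
        refine Finset.sum_congr rfl fun ξ _ => ?_
        push_cast; ring
      rw [h4]
      exact hJadd _ _ (hJmul _ (conj_mem_rootRing (hxm ψ0)) _ h2)
        (hJmul _ (Subring.mul_mem _ (hym ψ0) (conj_mem_rootRing (hym ψ0))) _ (hJ3 e1 e2))
    have h6 := card_nonzero_le n BF x hxm _ hSxx BF (Finset.Subset.refl _) hxne
    have h7 : ((N : ℚ) * (Q2 : ℚ) / ((Q1 * Q2 - β ^ 2 : ℤ) : ℚ) : ℚ) = N := by
      rw [div_eq_iff hΔQ, hb1, hb2]; push_cast; ring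
    rw [h7] at h6
    exact_mod_cast h6
  · have hnum := numeric_reduced Q1 Q2 β he1 h12 hβ hbad
    obtain ⟨ε, hε, hεβ⟩ : ∃ ε : ℤ, ε * ε = 1 ∧ ε * β = |β| := by
      rcases abs_cases β with ⟨h, _⟩ | ⟨h, _⟩
      · exact ⟨1, by norm_num, by rw [h]; ring⟩
      · exact ⟨-1, by norm_num, by rw [h]; ring⟩
    have hε0 : (ε : ℂ) ≠ 0 := by
      intro h0
      have : ε = 0 := by exact_mod_cast h0
      rw [this] at hε; norm_num at hε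
    set z : X → ℂ := fun χ => x χ + (ε : ℂ) * y χ with hz
    have hzm : ∀ χ, z χ ∈ rootRing n := fun χ =>
      Subring.add_mem _ (hxm χ) (Subring.mul_mem _ (intCast_mem _ _) (hym χ))
    have hSyy : ∑ χ ∈ BF, y χ * conj (y χ)
        = (((N : ℚ) * (Q1 : ℚ) / ((Q1 * Q2 - β ^ 2 : ℤ) : ℚ) : ℚ) : ℂ) := by
      rw [Rat.cast_div, eq_div_iff (by exact_mod_cast hΔpos.ne')]
      push_cast at hyy ⊢
      linear_combination hyy
    have hSzz : ∑ χ ∈ BF, z χ * conj (z χ)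
        = (((N : ℚ) * ((Q1 + Q2 - 2 * (ε * β) : ℤ) : ℚ) / ((Q1 * Q2 - β ^ 2 : ℤ) : ℚ) : ℚ) : ℂ) := by
      have h1 := sum_bilin BF x y 1 ε 1 ε
      have h2 : ∑ χ ∈ BF, z χ * conj (z χ) = ∑ χ ∈ BF, (((1 : ℤ) : ℂ) * x χ + (ε : ℂ) * y χ) *
          conj (((1 : ℤ) : ℂ) * x χ + (ε : ℂ) * y χ) := by
        refine Finset.sum_congr rfl fun χ _ => ?_
        rw [hz]; simp
      rw [h2, h1, Rat.cast_div, eq_div_iff (by exact_mod_cast hΔpos.ne')]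
      have hεC : (ε : ℂ) * ε = 1 := by exact_mod_cast hε
      push_cast at hxx hyy hxy hyx ⊢
      linear_combination hxx + (ε : ℂ) * hxy + (ε : ℂ) * hyx + hyy
        + ((Q1 : ℂ) * Q2 - (β : ℂ) ^ 2) * (∑ χ ∈ BF, y χ * conj (y χ)) * hεC
    have c1 := card_nonzero_le n BF x hxm _ hSxx (BF.filter fun χ => x χ ≠ 0)
      (Finset.filter_subset _ _) (fun χ hχ => (Finset.mem_filter.1 hχ).2)
    have c2 := card_nonzero_le n BF y hym _ hSyy (BF.filter fun χ => y χ ≠ 0)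
      (Finset.filter_subset _ _) (fun χ hχ => (Finset.mem_filter.1 hχ).2)
    have c3 := card_nonzero_le n BF z hzm _ hSzz (BF.filter fun χ => z χ ≠ 0)
      (Finset.filter_subset _ _) (fun χ hχ => (Finset.mem_filter.1 hχ).2)
    have hcount : 2 * BF.card ≤ (BF.filter fun χ => x χ ≠ 0).card
        + (BF.filter fun χ => y χ ≠ 0).card + (BF.filter fun χ => z χ ≠ 0).card := by
      rw [Finset.card_filter, Finset.card_filter, Finset.card_filter, ← Finset.sum_add_distrib,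
        ← Finset.sum_add_distrib, mul_comm, ← smul_eq_mul, ← Finset.sum_const]
      refine Finset.sum_le_sum fun χ hχ => ?_
      have h0 := hxy0 χ hχ
      by_cases h1 : x χ = 0
      · have h2 : y χ ≠ 0 := fun h => h0 ⟨h1, h⟩
        have h3 : z χ ≠ 0 := by
          rw [hz]; simp only; rw [h1, zero_add]; exact mul_ne_zero hε0 h2
        simp [h1, h2, h3]
      · by_cases h2 : y χ = 0
        · have h3 : z χ ≠ 0 := by
            rw [hz]; simp only; rw [h2, mul_zero, add_zero]; exact h1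
          simp [h1, h2, h3]
        · simp only [ne_eq, h1, h2, not_false_eq_true, if_true]
          omega
    have hΔQpos : (0 : ℚ) < ((Q1 * Q2 - β ^ 2 : ℤ) : ℚ) := by exact_mod_cast hΔpos
    have hfin : (2 : ℚ) * BF.card ≤ 2 * N := by
      have h1 : ((2 * BF.card : ℕ) : ℚ) ≤ (((BF.filter fun χ => x χ ≠ 0).card
        + (BF.filter fun χ => y χ ≠ 0).card + (BF.filter fun χ => z χ ≠ 0).card : ℕ) : ℚ) := by
        exact_mod_cast hcount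
      push_cast at h1
      have h2 : (N : ℚ) * (Q2 : ℚ) / ((Q1 * Q2 - β ^ 2 : ℤ) : ℚ)
          + (N : ℚ) * (Q1 : ℚ) / ((Q1 * Q2 - β ^ 2 : ℤ) : ℚ)
          + (N : ℚ) * ((Q1 + Q2 - 2 * (ε * β) : ℤ) : ℚ) / ((Q1 * Q2 - β ^ 2 : ℤ) : ℚ) ≤ 2 * N := by
        rw [← add_div, ← add_div, div_le_iff₀ hΔQpos]
        have h3 : ((Q1 + Q2 - ε * β : ℤ) : ℚ) ≤ ((Q1 * Q2 - β ^ 2 : ℤ) : ℚ) := by
          rw [hεβ]; exact_mod_cast hnum
        have h4 : (0 : ℚ) ≤ N := Nat.cast_nonneg _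
        have h5 := mul_le_mul_of_nonneg_left h3 h4
        push_cast at h5 ⊢
        linarith
      linarith
    have : (BF.card : ℚ) ≤ N := by linarith
    exact_mod_cast this

/-- **The abstract counting theorem.** -/
theorem card_le_of_form (hsym : ∀ x y, B x y = B y x) (hpos : ∀ x, 0 ≤ B x x)
    (hrad : ∀ v, B v v = 0 → ∀ w, B v w = 0)
    (h3 : ∀ a b c, B c c * (B a a * B b b - B a b ^ 2)
      = B b b * B c a ^ 2 - 2 * B a b * B c a * B c b + B a a * B c b ^ 2)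
    (bF : Finset I) (δ : I → Λ) (BF : Finset X) (a : X → I → ℂ) (n : ℕ) [NeZero n]
    (ha : ∀ χ ζ, a χ ζ ∈ rootRing n) (N : ℕ)
    (c : X → Λ → ℂ) (hc : ∀ χ v, c χ v = ∑ ζ ∈ bF, a χ ζ * ((B (δ ζ) v : ℤ) : ℂ))
    (hframe : ∀ v w, ∑ χ ∈ BF, c χ v * conj (c χ w) = (N : ℂ) * ((B v w : ℤ) : ℂ))
    (hne : ∀ χ ∈ BF, ∃ v, c χ v ≠ 0)
    (J : ℂ → Prop) (hJadd : ∀ u v, J u → J v → J (u + v))
    (hJmul : ∀ w ∈ rootRing n, ∀ u, J u → J (w * u))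
    (ψ0 : X) (hJ1 : ∀ v, ∀ χ ∈ BF, c χ v = 0 → J (c ψ0 v))
    (hJ2 : ¬ J (∑ ξ ∈ bF, conj (a ψ0 ξ) * c ψ0 (δ ξ)))
    (hJ3 : ∀ v w, J ((B v v * B w w - B v w ^ 2 : ℤ) : ℂ)) :
    BF.card ≤ N := by
  rcases BF.eq_empty_or_nonempty with hE | ⟨χ0, hχ0⟩
  · rw [hE]; simp
  by_cases hex : ∃ a b, 0 < B a a * B b b - B a b ^ 2
  · obtain ⟨e1, e2, he1, h12, hβ, hb⟩ := exists_reduced_basis B hsym hpos h3 hex
    choose s t hst using fun ζ => hb (δ ζ)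
    exact card_le_rank_two B hsym hrad bF δ BF a n ha N c hc hframe hne J hJadd hJmul ψ0 hJ1 hJ2
      hJ3 e1 e2 he1 h12 hβ s t hst
  · push Not at hex
    have hex1 : ∃ v, 0 < B v v := by
      obtain ⟨v, hv⟩ := hne χ0 hχ0
      by_contra hcon
      push Not at hcon
      apply hv
      rw [hc]
      refine Finset.sum_eq_zero fun ζ _ => ?_
      rw [hrad (δ ζ) (le_antisymm (hcon _) (hpos _)) v]
      simp
    obtain ⟨e1, he1, hb⟩ := exists_generator B hsym hpos hex hex1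
    choose s hs using fun ζ => hb (δ ζ)
    exact card_le_rank_one B hrad bF δ BF a n ha N c hc hframe hne e1 he1 s hs

end Main

end Cfsg.Agent.Lib.Helper78
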