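import Mathlib
import Cfsg.Prelude.Def_Blocks
import Cfsg.Agent.Lib.Helper78.SubsecAvg
import Cfsg.Agent.Lib.Helper78.Lattice2b

/-!
# The integral quadratic form of a block (helper78)
-/

set_option autoImplicit false

namespace Cfsg.Agent.Lib.Helper78

open Cfsg Cfsg.Agent.Lib.Helper4 Cfsg.Agent.Lib.Helper16 Cfsg.Agent.Lib.Helper97
open scoped ComplexConjugate

/-- the bilinear form on integer vectors given by a matrix restricted to a finite set -/
noncomputable def regForm {I : Type*} (bF : Finset I) (m : I → I → ℤ) :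
    LinearMap.BilinForm ℤ (I → ℤ) :=
  LinearMap.mk₂ ℤ (fun n n' => ∑ ζ ∈ bF, ∑ ξ ∈ bF, n ζ * m ζ ξ * n' ξ)
    (by intro a b c; simp only [Pi.add_apply, add_mul, Finset.sum_add_distrib])
    (by
      intro r a c
      simp only [Pi.smul_apply, smul_eq_mul, Finset.mul_sum]
      exact Finset.sum_congr rfl fun ζ _ => Finset.sum_congr rfl fun ξ _ => by ring)
    (by intro a b c; simp only [Pi.add_apply, mul_add, Finset.sum_add_distrib])
    (by
      intro r a c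
      simp only [Pi.smul_apply, smul_eq_mul, Finset.mul_sum]
      exact Finset.sum_congr rfl fun ζ _ => Finset.sum_congr rfl fun ξ _ => by ring)

theorem regForm_apply {I : Type*} (bF : Finset I) (m : I → I → ℤ) (n n' : I → ℤ) :
    regForm bF m n n' = ∑ ζ ∈ bF, ∑ ξ ∈ bF, n ζ * m ζ ξ * n' ξ := rfl

theorem regForm_symm {I : Type*} (bF : Finset I) (m : I → I → ℤ) (hm : ∀ ζ ξ, m ζ ξ = m ξ ζ)
    (n n' : I → ℤ) : regForm bF m n n' = regForm bF m n' n := by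
  rw [regForm_apply, regForm_apply, Finset.sum_comm]
  refine Finset.sum_congr rfl fun ζ _ => Finset.sum_congr rfl fun ξ _ => ?_
  rw [hm ξ ζ]; ring

theorem regForm_single_left {I : Type*} [DecidableEq I] (bF : Finset I) (m : I → I → ℤ) {ζ : I}
    (hζ : ζ ∈ bF) (n : I → ℤ) :
    regForm bF m (Pi.single ζ 1) n = ∑ ξ ∈ bF, m ζ ξ * n ξ := by
  rw [regForm_apply, Finset.sum_eq_single ζ]
  · simp
  · intro ζ' _ hne
    simp [Pi.single_eq_of_ne hne]
  · intro h; exact absurd hζ h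

section Abstract

variable {Λ S : Type*} [Fintype S]

theorem form_pos (Bf : Λ → Λ → ℤ) (V : Λ → S → ℂ) (κ : ℝ) (hκ : 0 < κ)
    (hF : ∀ n n', ((Bf n n' : ℤ) : ℂ) = (κ : ℂ) * ∑ s, V n s * conj (V n' s)) :
    (∀ n, 0 ≤ Bf n n) ∧ (∀ v, Bf v v = 0 → ∀ s, V v s = 0) := by
  have h1 : ∀ n, ((Bf n n : ℤ) : ℝ) = κ * ∑ s, ‖V n s‖ ^ 2 := by
    intro n
    have h2 : (((Bf n n : ℤ) : ℝ) : ℂ) = ((κ * ∑ s, ‖V n s‖ ^ 2 : ℝ) : ℂ) := by
      push_cast
      rw [hF]
      congr 1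
      exact Finset.sum_congr rfl fun s _ => Complex.mul_conj' _
    exact_mod_cast h2
  constructor
  · intro n
    have : (0 : ℝ) ≤ ((Bf n n : ℤ) : ℝ) := by rw [h1]; positivity
    exact_mod_cast this
  · intro v hv s
    have h3 := h1 v
    rw [hv, Int.cast_zero] at h3
    have h4 : ∑ s, ‖V v s‖ ^ 2 = 0 := by
      rcases mul_eq_zero.1 h3.symm with h | h
      · exact absurd h hκ.ne'
      · exact h
    have h5 := (Finset.sum_eq_zero_iff_of_nonneg (fun s _ => by positivity)).1 h4 s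
      (Finset.mem_univ s)
    exact norm_eq_zero.1 (pow_eq_zero_iff two_ne_zero |>.1 h5)

theorem form_gram3 (Bf : Λ → Λ → ℤ) (V : Λ → S → ℂ) (κ : ℂ)
    (hF : ∀ n n', ((Bf n n' : ℤ) : ℂ) = κ * ∑ s, V n s * conj (V n' s))
    (hsym : ∀ n n', Bf n n' = Bf n' n)
    (hdep : ∀ n1 n2 n3 : Λ, ∃ g : Fin 3 → ℂ, g ≠ 0 ∧
      ∀ s, g 0 * V n1 s + g 1 * V n2 s + g 2 * V n3 s = 0) (a b c : Λ) :
    Bf c c * (Bf a a * Bf b b - Bf a b ^ 2)
      = Bf b b * Bf c a ^ 2 - 2 * Bf a b * Bf c a * Bf c b + Bf a a * Bf c b ^ 2 := by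
  obtain ⟨g, hg0, hg⟩ := hdep a b c
  set nn : Fin 3 → Λ := ![a, b, c] with hnn
  set Mx : Matrix (Fin 3) (Fin 3) ℂ := Matrix.of fun i j => ((Bf (nn i) (nn j) : ℤ) : ℂ) with hMx
  have hv : Matrix.vecMul g Mx = 0 := by
    funext j
    simp only [Matrix.vecMul, dotProduct, Fin.sum_univ_three, hMx, Matrix.of_apply, Pi.zero_apply]
    rw [hF, hF, hF]
    have : g 0 * (κ * ∑ s, V (nn 0) s * conj (V (nn j) s))
        + g 1 * (κ * ∑ s, V (nn 1) s * conj (V (nn j) s))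
        + g 2 * (κ * ∑ s, V (nn 2) s * conj (V (nn j) s))
        = κ * ∑ s, (g 0 * V a s + g 1 * V b s + g 2 * V c s) * conj (V (nn j) s) := by
      simp only [Finset.mul_sum, ← Finset.sum_add_distrib]
      refine Finset.sum_congr rfl fun s _ => ?_
      simp only [hnn, Matrix.cons_val_zero, Matrix.cons_val_one, Matrix.cons_val]
      ring
    rw [this]
    simp only [hg, zero_mul, Finset.sum_const_zero, mul_zero]
  have hdet : Mx.det = 0 := Matrix.exists_vecMul_eq_zero_iff.1 ⟨g, hg0, hv⟩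
  rw [Matrix.det_fin_three] at hdet
  simp only [hMx, Matrix.of_apply, hnn, Matrix.cons_val_zero, Matrix.cons_val_one,
    Matrix.cons_val] at hdet
  rw [hsym b a, hsym a c, hsym b c] at hdet
  have hdet' : Bf a a * Bf b b * Bf c c - Bf a a * Bf c b * Bf c b - Bf a b * Bf a b * Bf c c
      + Bf a b * Bf c b * Bf c a + Bf c a * Bf a b * Bf c b - Bf c a * Bf b b * Bf c a = 0 := by
    exact_mod_cast hdet
  linear_combination hdet'

end Abstract

section One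

variable {K : Type*} [Group K] [Fintype K]
variable {M : Ideal AlgInt} {p : ℕ}

open Classical in
/-- the integral combination `∑ n_ζ ζ`, cut down to the regular elements -/
noncomputable def Vr (p : ℕ) (b : Set (IrrCharacter K)) (n : IrrCharacter K → ℤ) (s : K) : ℂ :=
  if ¬ p ∣ orderOf s then ∑ ζ ∈ Finset.univ.filter (· ∈ b), (n ζ : ℂ) * (ζ : K → ℂ) s else 0

open Classical in
theorem regForm_eq (b : Set (IrrCharacter K)) (m : IrrCharacter K → IrrCharacter K → ℤ) (κ : ℂ)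
    (hm : ∀ ζ ∈ b, ∀ ξ, (m ζ ξ : ℂ) = κ *
        ∑ s : K, if ¬ p ∣ orderOf s then (ζ : K → ℂ) s * conj ((ξ : K → ℂ) s) else 0)
    (n n' : IrrCharacter K → ℤ) :
    ((regForm (Finset.univ.filter (· ∈ b)) m n n' : ℤ) : ℂ)
      = κ * ∑ s : K, Vr p b n s * conj (Vr p b n' s) := by
  have h1 : ∀ s : K, Vr p b n s * conj (Vr p b n' s)
      = ∑ ζ ∈ Finset.univ.filter (· ∈ b), ∑ ξ ∈ Finset.univ.filter (· ∈ b),
        (n ζ : ℂ) * (n' ξ : ℂ) *
        (if ¬ p ∣ orderOf s then (ζ : K → ℂ) s * conj ((ξ : K → ℂ) s) else 0) := by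
    intro s
    by_cases hs : p ∣ orderOf s
    · simp [Vr, hs]
    · simp only [Vr, if_pos hs]
      rw [map_sum, Finset.sum_mul_sum]
      refine Finset.sum_congr rfl fun ζ _ => Finset.sum_congr rfl fun ξ _ => ?_
      rw [map_mul, map_intCast]
      ring
  rw [Finset.sum_congr rfl fun s _ => h1 s, Finset.sum_comm, Finset.mul_sum, regForm_apply]
  push_cast
  refine Finset.sum_congr rfl fun ζ hζ => ?_
  rw [Finset.sum_comm, Finset.mul_sum]
  refine Finset.sum_congr rfl fun ξ _ => ?_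
  rw [hm ζ (Finset.mem_filter.1 hζ).2 ξ, ← Finset.mul_sum]
  ring

theorem Vr_mem_span (b : Set (IrrCharacter K)) (n : IrrCharacter K → ℤ) :
    (Vr p b n : K → ℂ) ∈ Submodule.span ℂ
      ((fun χ : IrrCharacter K => pRegularPart p (χ : K → ℂ)) '' b) := by
  classical
  have h1 : (Vr p b n : K → ℂ) = ∑ ζ ∈ Finset.univ.filter (· ∈ b),
      (n ζ : ℂ) • pRegularPart p (ζ : K → ℂ) := by
    funext s
    rw [Finset.sum_apply]
    by_cases hs : p ∣ orderOf s
    · simp [Vr, hs, pRegularPart, IsPRegular]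
    · simp [Vr, hs, pRegularPart, IsPRegular]
  rw [h1]
  refine Submodule.sum_mem _ fun ζ hζ => Submodule.smul_mem _ _ (Submodule.subset_span ?_)
  exact ⟨ζ, (Finset.mem_filter.1 hζ).2, rfl⟩

theorem Vr_dep (b : Set (IrrCharacter K)) (hl : blockRank p b ≤ 2)
    (n1 n2 n3 : IrrCharacter K → ℤ) : ∃ g : Fin 3 → ℂ, g ≠ 0 ∧
      ∀ s, g 0 * Vr p b n1 s + g 1 * Vr p b n2 s + g 2 * Vr p b n3 s = 0 := by
  set W := Submodule.span ℂ ((fun χ : IrrCharacter K => pRegularPart p (χ : K → ℂ)) '' b) with hW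
  set u : Fin 3 → W := ![⟨Vr p b n1, Vr_mem_span b n1⟩, ⟨Vr p b n2, Vr_mem_span b n2⟩,
    ⟨Vr p b n3, Vr_mem_span b n3⟩] with hu
  have h1 : ¬ LinearIndependent ℂ u := by
    intro hli
    have h2 := hli.fintype_card_le_finrank
    rw [Fintype.card_fin] at h2
    have h4 : Module.finrank ℂ W ≤ 2 := hl
    omega
  obtain ⟨g, hg, i, hi⟩ := Fintype.not_linearIndependent_iff.1 h1
  refine ⟨g, fun h0 => hi (by rw [h0]; rfl), fun s => ?_⟩
  rw [Fin.sum_univ_three] at hg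
  have h3 := congrFun (congrArg Subtype.val hg) s
  simpa [hu] using h3

open Classical in
/-- modulo the maximal ideal the form has rank one -/
theorem exists_rank_one_mod (h : IsPModular p M) {b : Set (IrrCharacter K)} (hb : IsPBlock M b)
    (m : IrrCharacter K → IrrCharacter K → ℤ)
    (hm : ∀ ζ ∈ b, ∀ ξ, (m ζ ξ : ℂ) * ((p ^ minDeg p b : ℕ) : ℂ)
        = classInner (tilde p (ζ : K → ℂ)) (ξ : K → ℂ)) :
    ∃ O R : (IrrCharacter K → ℤ) → ℂ, (∀ v, MemLocalRing M (O v)) ∧ (∀ v, MemLocalRing M (R v)) ∧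
      ∀ v w, MemLocalIdeal M
        (((regForm (Finset.univ.filter (· ∈ b)) m v w : ℤ) : ℂ) - O v * R w) := by
  have hM := pmod_isPrime h
  have hp0 : ((p ^ minDeg p b : ℕ) : ℂ) ≠ 0 := by
    exact_mod_cast pow_ne_zero _ h.1.ne_zero
  have hr : ∀ ζ ∈ b, ∃ r : ℕ, (ζ : K → ℂ) 1 = (r : ℂ) * ((p ^ minDeg p b : ℕ) : ℂ) := by
    intro ζ hζ
    have h1 : p ^ minDeg p b ∣ charDegree (ζ : K → ℂ) :=
      (pow_dvd_pow p (minDeg_le hζ)).trans (Nat.ordProj_dvd _ _)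
    obtain ⟨r, hr⟩ := h1
    exact ⟨r, by rw [irr_one_eq, hr]; push_cast; ring⟩
  choose! r hr1 using hr
  have h6 : ∀ ζ ∈ b, ∀ ξ ∈ b, (m ζ ξ : ℂ) = (r ξ : ℂ) * omega (ξ : K → ℂ) (cfun p (ζ : K → ℂ)) := by
    intro ζ hζ ξ hξ
    have h5 := hm ζ hζ ξ
    rw [classInner_tilde_eq p (fun g => irr_inv ζ g), hr1 ξ hξ] at h5
    apply mul_right_cancel₀ hp0
    rw [h5]; ring
  obtain ⟨ξ1, hξ1⟩ := IsPBlock.nonempty hM hb
  have hoR : ∀ ζ ξ : IrrCharacter K, MemLocalRing M (omega (ξ : K → ℂ) (cfun p (ζ : K → ℂ))) :=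
    fun ζ ξ => memLocalRing_omega hM ξ (cfun_isClassFunction p (irr_isClassFunction ζ))
      (cfun_memLocalRing h ζ)
  refine ⟨fun v => ∑ ζ ∈ Finset.univ.filter (· ∈ b),
      (v ζ : ℂ) * omega (ξ1 : K → ℂ) (cfun p (ζ : K → ℂ)),
    fun w => ∑ ξ ∈ Finset.univ.filter (· ∈ b), (w ξ : ℂ) * (r ξ : ℂ), fun v => ?_, fun w => ?_,
    fun v w => ?_⟩
  · exact MemLocalRing.sum hM _ _ fun ζ _ => MemLocalRing.mul hM (memLocalRing_intCast hM _)
      (hoR ζ ξ1)
  · exact MemLocalRing.sum hM _ _ fun ζ _ => MemLocalRing.mul hM (memLocalRing_intCast hM _)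
      (memLocalRing_natCast hM _)
  · rw [regForm_apply, Finset.sum_mul_sum]
    push_cast
    rw [← Finset.sum_sub_distrib]
    refine MemLocalIdeal.sum hM _ _ fun ζ hζ => ?_
    rw [← Finset.sum_sub_distrib]
    refine MemLocalIdeal.sum hM _ _ fun ξ hξ => ?_
    have hζb := (Finset.mem_filter.1 hζ).2
    have hξb := (Finset.mem_filter.1 hξ).2
    rw [h6 ζ hζb ξ hξb]
    have : (v ζ : ℂ) * ((r ξ : ℂ) * omega (ξ : K → ℂ) (cfun p (ζ : K → ℂ))) * (w ξ : ℂ)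
        - (v ζ : ℂ) * omega (ξ1 : K → ℂ) (cfun p (ζ : K → ℂ)) * ((w ξ : ℂ) * (r ξ : ℂ))
        = ((v ζ : ℂ) * (r ξ : ℂ) * (w ξ : ℂ)) * (omega (ξ : K → ℂ) (cfun p (ζ : K → ℂ))
          - omega (ξ1 : K → ℂ) (cfun p (ζ : K → ℂ))) := by ring
    rw [this]
    refine MemLocalIdeal.mul_left hM (MemLocalRing.mul hM (MemLocalRing.mul hM
      (memLocalRing_intCast hM _) (memLocalRing_natCast hM _)) (memLocalRing_intCast hM _)) ?_
    exact memLocalIdeal_omega_sub hM (IsPBlock.sameBlock hM hb hξb hξ1)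
      (cfun_isClassFunction p (irr_isClassFunction ζ)) (cfun_memLocalRing h ζ)

open Classical in
theorem memLocalIdeal_regForm_det (h : IsPModular p M) {b : Set (IrrCharacter K)}
    (hb : IsPBlock M b) (m : IrrCharacter K → IrrCharacter K → ℤ) (hm1 : ∀ ζ ξ, m ζ ξ = m ξ ζ)
    (hm : ∀ ζ ∈ b, ∀ ξ, (m ζ ξ : ℂ) * ((p ^ minDeg p b : ℕ) : ℂ)
        = classInner (tilde p (ζ : K → ℂ)) (ξ : K → ℂ)) (v w : IrrCharacter K → ℤ) :
    MemLocalIdeal M ((regForm (Finset.univ.filter (· ∈ b)) m v v *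
      regForm (Finset.univ.filter (· ∈ b)) m w w
        - regForm (Finset.univ.filter (· ∈ b)) m v w ^ 2 : ℤ) : ℂ) := by
  have hM := pmod_isPrime h
  obtain ⟨O, R, hO, hR, hE⟩ := exists_rank_one_mod h hb m hm
  set Bf := regForm (Finset.univ.filter (· ∈ b)) m with hBf
  have key : ((Bf v v * Bf w w - Bf v w ^ 2 : ℤ) : ℂ)
      = (O v * R v) * (((Bf w w : ℤ) : ℂ) - O w * R w)
        + (((Bf v v : ℤ) : ℂ) - O v * R v) * ((Bf w w : ℤ) : ℂ)
        - ((O v * R w) * (((Bf w v : ℤ) : ℂ) - O w * R v)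
        + (((Bf v w : ℤ) : ℂ) - O v * R w) * ((Bf w v : ℤ) : ℂ)) := by
    rw [hBf, regForm_symm _ m hm1 w v]
    push_cast
    ring
  rw [key]
  refine MemLocalIdeal.sub hM (MemLocalIdeal.add hM ?_ ?_) (MemLocalIdeal.add hM ?_ ?_)
  · exact MemLocalIdeal.mul_left hM (MemLocalRing.mul hM (hO v) (hR v)) (hE w w)
  · exact MemLocalIdeal.mul_right hM (hE v v) (memLocalRing_intCast hM _)
  · exact MemLocalIdeal.mul_left hM (MemLocalRing.mul hM (hO v) (hR w)) (hE w v)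
  · exact MemLocalIdeal.mul_right hM (hE v w) (memLocalRing_intCast hM _)

end One

end Cfsg.Agent.Lib.Helper78
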