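import Mathlib
import Cfsg.Prelude.Def_Blocks
import Cfsg.Agent.Lib.Helper78.SubsecForm
import Cfsg.Agent.Lib.Helper74.FongReynolds

/-!
# Major subsections: non-vanishing of contributions (helper78)
-/

set_option autoImplicit false

namespace Cfsg.Agent.Lib.Helper78

open Cfsg Cfsg.Agent.Lib.Helper4 Cfsg.Agent.Lib.Helper16 Cfsg.Agent.Lib.Helper97
open scoped ComplexConjugate

variable {G : Type*} [Group G] [Fintype G]
variable {M : Ideal AlgInt} {p : ℕ}

open Classical in
/-- **Brauer (5H), qualitative form.**  Pair the characters of a block `B` of defect `d` with a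
locally integral class function on the `p`-section of `x`, normalised by `p^d / |C_G(x)|`.
If the pairing vanishes for one member of `B`, it is a non-unit for every member of `B`. -/
theorem section_pairing (h : IsPModular p M) (x : G) {B : Set (IrrCharacter G)}
    (hB : IsPBlock M B) (g : Cen x → ℂ) (hg : IsClassFunction (Cen x) g)
    (hgR : ∀ s, MemLocalRing M (g s)) {χ ψ : IrrCharacter G} (hχ : χ ∈ B) (hψ : ψ ∈ B)
    (h0 : ∑ s : Cen x, (if ¬ p ∣ orderOf s then (χ : G → ℂ) (x * (s : G)) * g s else 0) = 0) :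
    MemLocalIdeal M (((p ^ blockDefect p B : ℕ) : ℂ) / (Fintype.card (Cen x) : ℂ) *
      ∑ s : Cen x, if ¬ p ∣ orderOf s then (ψ : G → ℂ) (x * (s : G)) * g s else 0) := by
  have hM := pmod_isPrime h
  set cfn : Cen x → ℂ := fun u => regPart p g ((cenSelf x)⁻¹ * u) with hcfn
  have hcl : IsClassFunction (Cen x) cfn := by
    intro u t
    simp only [hcfn]
    have h1 : (cenSelf x)⁻¹ * (t * u * t⁻¹) = t * ((cenSelf x)⁻¹ * u) * t⁻¹ := by
      have h2 : (cenSelf x)⁻¹ * t = t * (cenSelf x)⁻¹ := by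
        have := cenSelf_central x t
        rw [eq_mul_inv_iff_mul_eq, mul_assoc, this, inv_mul_cancel_left]
      rw [← mul_assoc, ← mul_assoc, h2]
      group
    rw [h1, regPart_isClassFunction p hg]
  have hR : ∀ u, MemLocalRing M (cfn u) := by
    intro u
    simp only [hcfn, regPart]
    split_ifs
    · exact memLocalRing_zero hM
    · exact hgR _
  have hsum : ∀ φ : G → ℂ, ∑ u : Cen x, cfn u * φ u
      = ∑ s : Cen x, if ¬ p ∣ orderOf s then φ (x * (s : G)) * g s else 0 := by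
    intro φ
    refine Fintype.sum_equiv (Equiv.mulLeft (cenSelf x)⁻¹) _ _ fun u => ?_
    simp only [Equiv.coe_mulLeft, hcfn, regPart]
    have h3 : x * (((cenSelf x)⁻¹ * u : Cen x) : G) = (u : G) := by
      show x * (x⁻¹ * (u : G)) = u
      group
    rw [h3]
    split_ifs <;> simp_all [mul_comm]
  set Θ := indFun (Cen x) cfn with hΘ
  have hΘcl : IsClassFunction G Θ := Helper3.isClassFunction_indFun _ _
  have hΘR : ∀ y, MemLocalRing M (Θ y) := Helper74.memLocalRing_indFun hM (Cen x) hcl hR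
  have hom : ∀ φ : IrrCharacter G, omega (φ : G → ℂ) Θ * (φ : G → ℂ) 1
      = ((Cen x).index : ℂ) * ∑ s : Cen x,
        if ¬ p ∣ orderOf s then (φ : G → ℂ) (x * (s : G)) * g s else 0 := by
    intro φ
    unfold omega
    rw [div_mul_cancel₀ _ (irr_one_ne_zero φ),
      Helper74.sum_indFun_mul (Cen x) cfn (irr_isClassFunction φ), hsum]
  have hχ0 : omega (χ : G → ℂ) Θ = 0 := by
    have := hom χ
    rw [h0, mul_zero] at this
    exact (mul_eq_zero.1 this).resolve_right (irr_one_ne_zero χ)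
  have hψI : MemLocalIdeal M (omega (ψ : G → ℂ) Θ) := by
    have := memLocalIdeal_omega_sub hM (IsPBlock.sameBlock hM hB hψ hχ) hΘcl hΘR
    rwa [hχ0, sub_zero] at this
  have hidx : ((Cen x).index : ℂ) ≠ 0 := by
    exact_mod_cast Subgroup.index_ne_zero_of_finite
  have hcardH : (Fintype.card (Cen x) : ℂ) ≠ 0 := by exact_mod_cast Fintype.card_ne_zero
  have hcard : ((Nat.card G : ℕ) : ℂ) = (Fintype.card (Cen x) : ℂ) * ((Cen x).index : ℂ) := by
    rw [← (Cen x).card_mul_index, Nat.card_eq_fintype_card]; push_cast; ring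
  have key : ((p ^ blockDefect p B : ℕ) : ℂ) / (Fintype.card (Cen x) : ℂ) *
      ∑ s : Cen x, (if ¬ p ∣ orderOf s then (ψ : G → ℂ) (x * (s : G)) * g s else 0)
      = ((p ^ blockDefect p B * charDegree (ψ : G → ℂ) : ℕ) : ℂ) / ((Nat.card G : ℕ) : ℂ) *
        omega (ψ : G → ℂ) Θ := by
    have h4 := hom ψ
    rw [irr_one_eq] at h4
    rw [hcard]
    push_cast
    field_simp
    linear_combination (- ((p : ℂ) ^ blockDefect p B)) * h4
  rw [key]
  refine MemLocalIdeal.mul_left hM (memLocalRing_natCast_div h Nat.card_pos.ne' ?_) hψI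
  rw [Nat.factorization_mul (pow_ne_zero _ h.1.ne_zero) (irr_charDegree_pos ψ).ne',
    Finsupp.add_apply, h.1.factorization_pow, Finsupp.single_eq_same, blockDefect_eq]
  have := minDeg_le (p := p) hψ
  omega

/-- abstract frame identity for two test vectors -/
theorem gram_pair {S I : Type*} [Fintype S] (BF : Finset I) (X : I → S → ℂ) (K : S → S → ℂ)
    (N : ℂ) (hKI : ∀ s s', ∑ i ∈ BF, X i s * conj (X i s') = K s s') (W W' : S → ℂ)
    (hRep : ∀ s, ∑ s', W' s' * K s s' = N * W' s) :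
    ∑ i ∈ BF, (∑ s, X i s * conj (W s)) * conj (∑ s, X i s * conj (W' s))
      = N * ∑ s, W' s * conj (W s) := by
  have h1 : ∀ i, (∑ s, X i s * conj (W s)) * conj (∑ s, X i s * conj (W' s))
      = ∑ s, ∑ s', conj (W s) * (W' s' * (X i s * conj (X i s'))) := by
    intro i
    rw [map_sum, Finset.sum_mul_sum]
    refine Finset.sum_congr rfl fun s _ => Finset.sum_congr rfl fun s' _ => ?_
    rw [map_mul, Complex.conj_conj]
    ring
  rw [Finset.sum_congr rfl fun i _ => h1 i, Finset.sum_comm, Finset.mul_sum]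
  refine Finset.sum_congr rfl fun s _ => ?_
  rw [Finset.sum_comm]
  have h2 : ∀ s', ∑ i ∈ BF, conj (W s) * (W' s' * (X i s * conj (X i s')))
      = conj (W s) * (W' s' * K s s') := by
    intro s'
    rw [← Finset.mul_sum, ← Finset.mul_sum, hKI]
  rw [Finset.sum_congr rfl fun s' _ => h2 s', ← Finset.mul_sum, hRep]
  ring

section One

variable {K : Type*} [Group K] [Fintype K]

open Classical in
theorem Vr_single (b : Set (IrrCharacter K)) {ζ : IrrCharacter K} (hζ : ζ ∈ b) (s : K) :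
    Vr p b (Pi.single ζ 1) s = if ¬ p ∣ orderOf s then (ζ : K → ℂ) s else 0 := by
  unfold Vr
  split_ifs with hs
  · rfl
  · rw [Finset.sum_eq_single ζ]
    · simp
    · intro ζ' _ hne
      simp [Pi.single_eq_of_ne hne]
    · intro h; exact absurd (Finset.mem_filter.2 ⟨Finset.mem_univ _, hζ⟩) h

open Classical in
/-- reproducing property of the block kernel on integral combinations -/
theorem Vr_rep (hM : IsPModular p M) {b : Set (IrrCharacter K)} (hb : IsPBlock M b)
    (w : IrrCharacter K → ℤ) (s : K) :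
    ∑ s' : K, Vr p b w s' *
      (if ¬ p ∣ orderOf s then (if ¬ p ∣ orderOf s' then blockKer b s s' else 0) else 0)
      = (Fintype.card K : ℂ) * Vr p b w s := by
  by_cases hs : p ∣ orderOf s
  · simp [Vr, hs]
  · simp only [if_pos hs]
    have h1 : ∀ s' : K, Vr p b w s' * (if ¬ p ∣ orderOf s' then blockKer b s s' else 0)
        = ∑ ζ ∈ Finset.univ.filter (· ∈ b), (w ζ : ℂ) * (blockKer b s s' * (ζ : K → ℂ) s') := by
      intro s'
      by_cases hs' : p ∣ orderOf s'
      · simp [Vr, hs', blockKer_eq_zero hM hb s s' hs hs']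
      · simp only [Vr, if_pos hs']
        rw [Finset.sum_mul]
        refine Finset.sum_congr rfl fun ζ _ => by ring
    rw [Finset.sum_congr rfl fun s' _ => h1 s', Finset.sum_comm]
    simp only [Vr, if_pos hs]
    rw [Finset.mul_sum]
    refine Finset.sum_congr rfl fun ζ hζ => ?_
    rw [← Finset.mul_sum, sum_blockKer_mul, if_pos (Finset.mem_filter.1 hζ).2]
    ring

end One

section One'

variable {K : Type*} [Group K] [Fintype K]

open Classical in
/-- test functions `∑ κ_ξ conj ξ` -/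
noncomputable def gK (b : Set (IrrCharacter K)) (κ : IrrCharacter K → ℂ) (s : K) : ℂ :=
  ∑ ξ ∈ Finset.univ.filter (· ∈ b), κ ξ * conj ((ξ : K → ℂ) s)

theorem gK_isClassFunction (b : Set (IrrCharacter K)) (κ : IrrCharacter K → ℂ) :
    IsClassFunction K (gK b κ) := by
  intro g t
  unfold gK
  refine Finset.sum_congr rfl fun ξ _ => ?_
  rw [irr_isClassFunction ξ g t]

theorem gK_memLocalRing (hM : M.IsPrime) (b : Set (IrrCharacter K)) {κ : IrrCharacter K → ℂ}
    (hκ : ∀ ξ, MemLocalRing M (κ ξ)) (s : K) : MemLocalRing M (gK b κ s) :=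
  MemLocalRing.sum hM _ _ fun ξ _ => MemLocalRing.mul hM (hκ ξ) (memLocalRing_conj_irr hM ξ s)

open Classical in
theorem sum_regular_eq_zero' (h : IsPModular p M) {b : Set (IrrCharacter K)}
    (hb : IsPBlock M b) {ζ ξ : IrrCharacter K} (hζ : ζ ∉ b) (hξ : ξ ∈ b) :
    ∑ s : K, (if ¬ p ∣ orderOf s then (ζ : K → ℂ) s * conj ((ξ : K → ℂ) s) else 0) = 0 := by
  have h1 := congrArg conj (sum_regular_eq_zero h hb hξ hζ)
  rw [map_sum, map_zero] at h1
  refine Eq.trans ?_ h1
  refine Finset.sum_congr rfl fun s _ => ?_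
  by_cases hs : p ∣ orderOf s
  · simp [hs]
  · simp only [if_pos hs]
    rw [map_mul, Complex.conj_conj, mul_comm]

end One'

section Two

variable [Fact p.Prime]

/-- the pairing of `X_χ` with a test function -/
noncomputable def subGam (p : ℕ) (x : G) (b : Set (IrrCharacter (Cen x)))
    (κ : IrrCharacter (Cen x) → ℂ) (χ : IrrCharacter G) : ℂ :=
  ((p ^ blockDefect p b : ℕ) : ℂ) / (Fintype.card (Cen x) : ℂ) *
    ∑ s : Cen x, Xr p x b χ s * gK b κ s

open Classical in
theorem subGam_eq (hM : IsPModular p M) (x : G) {b : Set (IrrCharacter (Cen x))}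
    (hb : IsPBlock M b) (κ : IrrCharacter (Cen x) → ℂ) (χ : IrrCharacter G) :
    subGam p x b κ χ = ((p ^ blockDefect p b : ℕ) : ℂ) / (Fintype.card (Cen x) : ℂ) *
      ∑ s : Cen x, if ¬ p ∣ orderOf s then (χ : G → ℂ) (x * (s : G)) * gK b κ s else 0 := by
  unfold subGam
  congr 1
  have hT : ∀ ξ ∈ b, ∑ s : Cen x, Xr p x b χ s * conj ((ξ : Cen x → ℂ) s)
      = ∑ s : Cen x, if ¬ p ∣ orderOf s then (χ : G → ℂ) (x * (s : G)) * conj ((ξ : Cen x → ℂ) s)
        else 0 := by
    intro ξ hξ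
    have h1 : ∀ s : Cen x, Xr p x b χ s * conj ((ξ : Cen x → ℂ) s)
        = ∑ ζ : IrrCharacter (Cen x), (if ζ ∈ b then classInner (tw x (χ : G → ℂ)) (ζ : Cen x → ℂ)
          else 0) * (if ¬ p ∣ orderOf s then (ζ : Cen x → ℂ) s * conj ((ξ : Cen x → ℂ) s)
            else 0) := by
      intro s
      by_cases hs : p ∣ orderOf s
      · simp [Xr, hs]
      · simp only [Xr, if_pos hs]
        rw [blockPart_apply, Finset.sum_mul]
        refine Finset.sum_congr rfl fun ζ _ => ?_
        split_ifs <;> ring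
    have h2 : ∀ s : Cen x, (if ¬ p ∣ orderOf s then (χ : G → ℂ) (x * (s : G)) *
        conj ((ξ : Cen x → ℂ) s) else 0)
        = ∑ ζ : IrrCharacter (Cen x), classInner (tw x (χ : G → ℂ)) (ζ : Cen x → ℂ) *
          (if ¬ p ∣ orderOf s then (ζ : Cen x → ℂ) s * conj ((ξ : Cen x → ℂ) s) else 0) := by
      intro s
      by_cases hs : p ∣ orderOf s
      · simp [hs]
      · simp only [if_pos hs]
        have h3 := sum_classInner_mul
          (Cfsg.Agent.S0923.twist_isClassFunction x (irr_isClassFunction χ)) s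
        rw [← h3, Finset.sum_mul]
        refine Finset.sum_congr rfl fun ζ _ => by ring
    rw [Finset.sum_congr rfl fun s _ => h1 s, Finset.sum_congr rfl fun s _ => h2 s]
    conv_lhs => rw [Finset.sum_comm]
    conv_rhs => rw [Finset.sum_comm]
    refine Finset.sum_congr rfl fun ζ _ => ?_
    rw [← Finset.mul_sum, ← Finset.mul_sum]
    by_cases hζ : ζ ∈ b
    · rw [if_pos hζ]
    · rw [sum_regular_eq_zero' hM hb hζ hξ, mul_zero, mul_zero]
  have e1 : ∑ s : Cen x, Xr p x b χ s * gK b κ s = ∑ ξ ∈ Finset.univ.filter (· ∈ b),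
      κ ξ * ∑ s : Cen x, Xr p x b χ s * conj ((ξ : Cen x → ℂ) s) := by
    unfold gK
    simp only [Finset.mul_sum]
    rw [Finset.sum_comm]
    refine Finset.sum_congr rfl fun ξ _ => Finset.sum_congr rfl fun s _ => by ring
  have e2 : ∑ s : Cen x, (if ¬ p ∣ orderOf s then (χ : G → ℂ) (x * (s : G)) * gK b κ s else 0)
      = ∑ ξ ∈ Finset.univ.filter (· ∈ b), κ ξ * ∑ s : Cen x,
        if ¬ p ∣ orderOf s then (χ : G → ℂ) (x * (s : G)) * conj ((ξ : Cen x → ℂ) s) else 0 := by
    unfold gK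
    simp only [Finset.mul_sum]
    rw [Finset.sum_comm]
    refine Finset.sum_congr rfl fun s _ => ?_
    by_cases hs : p ∣ orderOf s
    · simp [hs]
    · simp only [if_pos hs]
      refine Finset.sum_congr rfl fun ξ _ => by ring
  rw [e1, e2]
  exact Finset.sum_congr rfl fun ξ hξ => by rw [hT ξ (Finset.mem_filter.1 hξ).2]

/-- **non-vanishing**: if `Γ_κ(χ) = 0` for one `χ ∈ B` then `Γ_κ(ψ)` is a non-unit for all
`ψ ∈ B` (major subsections). -/
theorem subGam_major (hM : IsPModular p M) (x : G) {B : Set (IrrCharacter G)}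
    {b : Set (IrrCharacter (Cen x))} (hind : IsInducedBlock M (Cen x) b B)
    (hdef : blockDefect p b = blockDefect p B) {κ : IrrCharacter (Cen x) → ℂ}
    (hκ : ∀ ξ, MemLocalRing M (κ ξ)) {χ ψ : IrrCharacter G} (hχ : χ ∈ B) (hψ : ψ ∈ B)
    (h0 : subGam p x b κ χ = 0) : MemLocalIdeal M (subGam p x b κ ψ) := by
  have hMp := pmod_isPrime hM
  rw [subGam_eq hM x hind.1] at h0 ⊢
  rw [hdef]
  apply section_pairing hM x hind.2.1 (gK b κ) (gK_isClassFunction b κ)
    (gK_memLocalRing hMp b hκ) hχ hψ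
  refine (mul_eq_zero.1 h0).resolve_left ?_
  apply div_ne_zero
  · exact_mod_cast pow_ne_zero _ hM.1.ne_zero
  · exact_mod_cast Fintype.card_ne_zero

open Classical in
/-- the pairing of `X_χ` with an integral combination, in terms of the integral form -/
noncomputable def subC (x : G) (b : Set (IrrCharacter (Cen x)))
    (m : IrrCharacter (Cen x) → IrrCharacter (Cen x) → ℤ) (χ : IrrCharacter G)
    (v : IrrCharacter (Cen x) → ℤ) : ℂ :=
  ∑ ζ ∈ Finset.univ.filter (· ∈ b), classInner (tw x (χ : G → ℂ)) (ζ : Cen x → ℂ) *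
    ((regForm (Finset.univ.filter (· ∈ b)) m (Pi.single ζ 1) v : ℤ) : ℂ)

open Classical in
theorem subC_eq (x : G) (b : Set (IrrCharacter (Cen x)))
    (m : IrrCharacter (Cen x) → IrrCharacter (Cen x) → ℤ)
    (hm : ∀ ζ ∈ b, ∀ ξ, (m ζ ξ : ℂ) = ((p ^ blockDefect p b : ℕ) : ℂ) / (Fintype.card (Cen x) : ℂ) *
        ∑ s : Cen x, if ¬ p ∣ orderOf s then (ζ : Cen x → ℂ) s * conj ((ξ : Cen x → ℂ) s) else 0)
    (χ : IrrCharacter G) (v : IrrCharacter (Cen x) → ℤ) :
    subC x b m χ v = ((p ^ blockDefect p b : ℕ) : ℂ) / (Fintype.card (Cen x) : ℂ) *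
      ∑ s : Cen x, Xr p x b χ s * conj (Vr p b v s) := by
  unfold subC
  have h1 : ∀ s : Cen x, Xr p x b χ s = ∑ ζ ∈ Finset.univ.filter (· ∈ b),
      classInner (tw x (χ : G → ℂ)) (ζ : Cen x → ℂ) * Vr p b (Pi.single ζ 1) s := by
    intro s
    by_cases hs : p ∣ orderOf s
    · simp [Xr, Vr, hs]
    · simp only [Xr, if_pos hs]
      rw [blockPart_apply, ← Finset.sum_filter]
      refine Finset.sum_congr rfl fun ζ hζ => ?_
      rw [Vr_single b (Finset.mem_filter.1 hζ).2, if_pos hs]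
  simp only [h1, Finset.sum_mul, Finset.mul_sum]
  rw [Finset.sum_comm]
  refine Finset.sum_congr rfl fun ζ _ => ?_
  rw [regForm_eq b m _ hm, Finset.mul_sum, Finset.mul_sum]
  refine Finset.sum_congr rfl fun s _ => by ring

open Classical in
theorem Xr_mul_conj_Vr (x : G) (b : Set (IrrCharacter (Cen x))) (χ : IrrCharacter G)
    (v : IrrCharacter (Cen x) → ℤ) (s : Cen x) :
    Xr p x b χ s * conj (Vr p b v s) = Xr p x b χ s * gK b (fun ξ => (v ξ : ℂ)) s := by
  by_cases hs : p ∣ orderOf s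
  · simp [Xr, hs]
  · simp only [Vr, if_pos hs, gK]
    rw [map_sum]
    congr 1
    refine Finset.sum_congr rfl fun ξ _ => ?_
    rw [map_mul, map_intCast]

open Classical in
theorem subC_eq_subGam (x : G) (b : Set (IrrCharacter (Cen x)))
    (m : IrrCharacter (Cen x) → IrrCharacter (Cen x) → ℤ)
    (hm : ∀ ζ ∈ b, ∀ ξ, (m ζ ξ : ℂ) = ((p ^ blockDefect p b : ℕ) : ℂ) / (Fintype.card (Cen x) : ℂ) *
        ∑ s : Cen x, if ¬ p ∣ orderOf s then (ζ : Cen x → ℂ) s * conj ((ξ : Cen x → ℂ) s) else 0)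
    (χ : IrrCharacter G) (v : IrrCharacter (Cen x) → ℤ) :
    subC x b m χ v = subGam p x b (fun ξ => (v ξ : ℂ)) χ := by
  rw [subC_eq x b m hm]
  unfold subGam
  congr 1
  exact Finset.sum_congr rfl fun s _ => Xr_mul_conj_Vr x b χ v s

open Classical in
theorem sum_mul_subC_single (x : G) (b : Set (IrrCharacter (Cen x)))
    (m : IrrCharacter (Cen x) → IrrCharacter (Cen x) → ℤ)
    (hm : ∀ ζ ∈ b, ∀ ξ, (m ζ ξ : ℂ) = ((p ^ blockDefect p b : ℕ) : ℂ) / (Fintype.card (Cen x) : ℂ) *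
        ∑ s : Cen x, if ¬ p ∣ orderOf s then (ζ : Cen x → ℂ) s * conj ((ξ : Cen x → ℂ) s) else 0)
    (κ : IrrCharacter (Cen x) → ℂ) (χ : IrrCharacter G) :
    ∑ ξ ∈ Finset.univ.filter (· ∈ b), κ ξ * subC x b m χ (Pi.single ξ 1) = subGam p x b κ χ := by
  unfold subGam gK
  simp only [subC_eq x b m hm, Finset.mul_sum]
  rw [Finset.sum_comm]
  refine Finset.sum_congr rfl fun s _ => Finset.sum_congr rfl fun ξ hξ => ?_
  rw [Vr_single b (Finset.mem_filter.1 hξ).2]
  by_cases hs : p ∣ orderOf s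
  · simp [Xr, hs]
  · simp only [if_pos hs]; ring

open Classical in
theorem subGam_conj_eq_subAlpha (x : G) (b : Set (IrrCharacter (Cen x))) (χ ψ : IrrCharacter G) :
    subGam p x b (fun ξ => conj (classInner (tw x (ψ : G → ℂ)) (ξ : Cen x → ℂ))) χ
      = subAlpha p x b χ ψ := by
  unfold subGam subAlpha
  congr 1
  refine Finset.sum_congr rfl fun s _ => ?_
  by_cases hs : p ∣ orderOf s
  · simp [Xr, hs]
  · congr 1
    simp only [Xr, if_pos hs, gK]
    rw [blockPart_apply, ← Finset.sum_filter, map_sum]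
    refine Finset.sum_congr rfl fun ξ _ => ?_
    rw [map_mul]

open Classical in
theorem subC_frame (hM : IsPModular p M) (x : G) (hx : ∃ k : ℕ, orderOf x = p ^ k)
    {B : Set (IrrCharacter G)} {b : Set (IrrCharacter (Cen x))}
    (hind : IsInducedBlock M (Cen x) b B)
    (m : IrrCharacter (Cen x) → IrrCharacter (Cen x) → ℤ) (hm1 : ∀ ζ ξ, m ζ ξ = m ξ ζ)
    (hm : ∀ ζ ∈ b, ∀ ξ, (m ζ ξ : ℂ) = ((p ^ blockDefect p b : ℕ) : ℂ) / (Fintype.card (Cen x) : ℂ) *
        ∑ s : Cen x, if ¬ p ∣ orderOf s then (ζ : Cen x → ℂ) s * conj ((ξ : Cen x → ℂ) s) else 0)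
    (v w : IrrCharacter (Cen x) → ℤ) :
    ∑ χ ∈ Finset.univ.filter (· ∈ B), subC x b m χ v * conj (subC x b m χ w)
      = ((p ^ blockDefect p b : ℕ) : ℂ) *
        ((regForm (Finset.univ.filter (· ∈ b)) m v w : ℤ) : ℂ) := by
  have hc0 : (Fintype.card (Cen x) : ℂ) ≠ 0 := by exact_mod_cast Fintype.card_ne_zero
  have h1 := gram_pair (Finset.univ.filter (· ∈ B)) (Xr p x b) _ (Fintype.card (Cen x) : ℂ)
    (Xr_gram hM x hx hind) (Vr p b v) (Vr p b w) (Vr_rep hM hind.1 w)
  rw [regForm_symm _ m hm1 v w, regForm_eq b m _ hm w v]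
  simp only [subC_eq x b m hm, map_mul, map_div₀, Complex.conj_natCast]
  have h2 : ∀ χ : IrrCharacter G,
      ((p ^ blockDefect p b : ℕ) : ℂ) / (Fintype.card (Cen x) : ℂ) *
        (∑ s : Cen x, Xr p x b χ s * conj (Vr p b v s)) *
      (((p ^ blockDefect p b : ℕ) : ℂ) / (Fintype.card (Cen x) : ℂ) *
        conj (∑ s : Cen x, Xr p x b χ s * conj (Vr p b w s)))
      = (((p ^ blockDefect p b : ℕ) : ℂ) / (Fintype.card (Cen x) : ℂ)) ^ 2 *
        ((∑ s : Cen x, Xr p x b χ s * conj (Vr p b v s)) *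
          conj (∑ s : Cen x, Xr p x b χ s * conj (Vr p b w s))) := fun χ => by ring
  rw [Finset.sum_congr rfl fun χ _ => h2 χ, ← Finset.mul_sum, h1]
  field_simp

end Two

end Cfsg.Agent.Lib.Helper78
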