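import Mathlib
import Cfsg.Prelude.Def_Blocks
import Cfsg.Agent.Lib.Helper78.SubsecMajor

/-!
# `k(B) ≤ p^d` for a major subsection `(z,b)` with `l(b) ≤ 2` (helper78)
-/

set_option autoImplicit false

namespace Cfsg.Agent.Lib.Helper78

open Cfsg Cfsg.Agent.Lib.Helper4 Cfsg.Agent.Lib.Helper16 Cfsg.Agent.Lib.Helper97
open scoped ComplexConjugate

variable {G : Type*} [Group G] [Fintype G]
variable {M : Ideal AlgInt} {p : ℕ} [Fact p.Prime]

theorem memLocalRing_of_mem_rootRing (hM : M.IsPrime) {n : ℕ} (hn : 0 < n) {w : ℂ}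
    (hw : w ∈ rootRing n) : MemLocalRing M w := by
  have h1 : rootRing n ≤ localRing M hM := by
    unfold rootRing
    rw [Subring.closure_le]
    intro u hu
    have hu' : u ^ n = 1 := hu
    exact memLocalRing_of_isIntegral hM (IsIntegral.of_pow hn (by rw [hu']; exact isIntegral_one))
  exact h1 hw

/-- contributions of height zero characters are units -/
theorem not_memLocalIdeal_subAlpha (hM : IsPModular p M) (x : G) {k : ℕ} (hx : orderOf x = p ^ k)
    {B : Set (IrrCharacter G)} {b : Set (IrrCharacter (Cen x))}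
    (hind : IsInducedBlock M (Cen x) b B) {χ ψ : IrrCharacter G} (hχ : χ ∈ B) (hψ : ψ ∈ B)
    (h0χ : blockHeight p B (χ : G → ℂ) = 0) (h0ψ : blockHeight p B (ψ : G → ℂ) = 0) :
    ¬ MemLocalIdeal M (subAlpha p x b χ ψ) := by
  classical
  have hMp : M.IsPrime := hM.2.1.isPrime
  obtain ⟨lam, nn, m, hl, hm, hα, hβ⟩ := exists_subsection_data hM x hx hind
  have hw : ∀ ζ ξ, (lam ζ * conj (lam ξ)) ^ p ^ k = 1 := by
    intro ζ ξ
    rw [mul_pow, ← map_pow, hl, hl, map_one, one_mul]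
  have h1 : MemLocalIdeal M (subAlpha p x b χ ψ -
      ((∑ ζ ∈ Finset.univ.filter (· ∈ b), ∑ ξ ∈ Finset.univ.filter (· ∈ b),
        (nn χ ζ : ℤ) * (nn ψ ξ : ℤ) * m ζ ξ : ℤ) : ℂ)) := by
    rw [hα, Int.cast_sum, ← Finset.sum_sub_distrib]
    refine MemLocalIdeal.sum hMp _ _ fun ζ _ => ?_
    rw [Int.cast_sum, ← Finset.sum_sub_distrib]
    refine MemLocalIdeal.sum hMp _ _ fun ξ _ => ?_
    have : lam ζ * conj (lam ξ) * (((nn χ ζ : ℤ) * (nn ψ ξ : ℤ) * m ζ ξ : ℤ) : ℂ)
        - (((nn χ ζ : ℤ) * (nn ψ ξ : ℤ) * m ζ ξ : ℤ) : ℂ)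
        = (lam ζ * conj (lam ξ) - 1) * (((nn χ ζ : ℤ) * (nn ψ ξ : ℤ) * m ζ ξ : ℤ) : ℂ) := by
      ring
    rw [this]
    exact MemLocalIdeal.mul_right hMp (memLocalIdeal_root_sub_one hM (hw ζ ξ))
      (memLocalRing_intCast hMp _)
  rw [MemLocalIdeal.congr hMp h1]
  exact hβ χ hχ ψ hψ h0χ h0ψ

theorem classInner_tw_mem_rootRing (x : G) {k : ℕ} (hx : orderOf x = p ^ k) (χ : IrrCharacter G)
    (ζ : IrrCharacter (Cen x)) :
    classInner (tw x (χ : G → ℂ)) (ζ : Cen x → ℂ) ∈ rootRing (p ^ k) := by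
  obtain ⟨n, hn⟩ := Helper74.IsCharacter.classInner_irr_nat
      (Helper74.IsCharacter.restrict (Helper74.IrrCharacter.isCharacter χ) (Cen x)) ζ
  have e1 : classInner (fun c : Cen x => (χ : G → ℂ) (c : G)) (ζ : Cen x → ℂ) = (n : ℂ) := hn
  rw [classInner_tw, e1]
  exact Subring.mul_mem _ (mem_rootRing_of_pow (central_ratio_pow x hx ζ)) (natCast_mem _ _)

open Classical in
/-- **Major subsections of rank at most two.** -/
theorem card_le_of_major (hM : IsPModular p M) (x : G) {k : ℕ} (hx : orderOf x = p ^ k)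
    {B : Set (IrrCharacter G)} {b : Set (IrrCharacter (Cen x))}
    (hind : IsInducedBlock M (Cen x) b B) (hdef : blockDefect p b = blockDefect p B)
    (hl : blockRank p b ≤ 2) :
    (Finset.univ.filter (· ∈ B)).card ≤ p ^ blockDefect p B := by
  have hMp : M.IsPrime := hM.2.1.isPrime
  have hBr : BrauerChar (Cen x) := fun θ hθ hE => Cfsg.Agent.S0164.result θ hθ hE
  obtain ⟨m, hm1, hm2, hm3⟩ := exists_regMatrix hBr hM hind.1
  obtain ⟨ψ0, hψ0, hψ0h⟩ := exists_height_zero (p := p) (IsPBlock.nonempty hMp hind.2.1)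
  set bF := Finset.univ.filter (· ∈ b) with hbF
  have hκpos : (0 : ℝ) < ((p ^ blockDefect p b : ℕ) : ℝ) / (Fintype.card (Cen x) : ℝ) := by
    apply div_pos
    · exact_mod_cast pow_pos hM.1.pos _
    · exact_mod_cast Fintype.card_pos
  have hF : ∀ n n' : IrrCharacter (Cen x) → ℤ, ((regForm bF m n n' : ℤ) : ℂ)
      = ((((p ^ blockDefect p b : ℕ) : ℝ) / (Fintype.card (Cen x) : ℝ) : ℝ) : ℂ) *
        ∑ s, Vr p b n s * conj (Vr p b n' s) := by
    intro n n'
    rw [regForm_eq b m _ hm3]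
    push_cast
    rfl
  obtain ⟨hpos, hzero⟩ := form_pos (fun n n' => regForm bF m n n') (Vr p b) _ hκpos hF
  have hrad : ∀ v, regForm bF m v v = 0 → ∀ w, regForm bF m v w = 0 := by
    intro v hv w
    have h1 := hF v w
    simp only [hzero v hv, zero_mul, Finset.sum_const_zero, mul_zero] at h1
    exact_mod_cast h1
  have h3 := form_gram3 (fun n n' => regForm bF m n n') (Vr p b) _ hF (regForm_symm bF m hm1)
    (Vr_dep b hl)
  have hJ2' : ¬ MemLocalIdeal M (subGam p x b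
      (fun ξ => conj (classInner (tw x (ψ0 : G → ℂ)) (ξ : Cen x → ℂ))) ψ0) := by
    rw [subGam_conj_eq_subAlpha]
    exact not_memLocalIdeal_subAlpha hM x hx hind hψ0 hψ0 hψ0h hψ0h
  have hκR : ∀ ξ : IrrCharacter (Cen x), MemLocalRing M
      (conj (classInner (tw x (ψ0 : G → ℂ)) (ξ : Cen x → ℂ))) := fun ξ =>
    memLocalRing_of_mem_rootRing hMp (pow_pos hM.1.pos k)
      (conj_mem_rootRing (classInner_tw_mem_rootRing x hx ψ0 ξ))
  rw [← hdef]
  refine card_le_of_form (regForm bF m) (regForm_symm bF m hm1) hpos hrad h3 bF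
    (fun ζ => Pi.single ζ 1) (Finset.univ.filter (· ∈ B))
    (fun χ ζ => classInner (tw x (χ : G → ℂ)) (ζ : Cen x → ℂ)) (p ^ k)
    (fun χ ζ => classInner_tw_mem_rootRing x hx χ ζ) (p ^ blockDefect p b)
    (subC x b m) (fun χ v => rfl) (subC_frame hM x ⟨k, hx⟩ hind m hm1 hm3) ?_
    (MemLocalIdeal M) (fun u v => MemLocalIdeal.add hMp)
    (fun w hw u hu => MemLocalIdeal.mul_left hMp
      (memLocalRing_of_mem_rootRing hMp (pow_pos hM.1.pos k) hw) hu) ψ0 ?_ ?_
    (memLocalIdeal_regForm_det hM hind.1 m hm1 hm2)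
  · -- non-vanishing of the rows
    intro χ hχ
    by_contra hcon
    push Not at hcon
    apply hJ2'
    apply subGam_major hM x hind hdef hκR (Finset.mem_filter.1 hχ).2 hψ0
    rw [← sum_mul_subC_single x b m hm3]
    exact Finset.sum_eq_zero fun ξ _ => by rw [hcon, mul_zero]
  · intro v χ hχ h0
    rw [subC_eq_subGam x b m hm3] at h0 ⊢
    exact subGam_major hM x hind hdef (fun ξ => memLocalRing_intCast hMp _)
      (Finset.mem_filter.1 hχ).2 hψ0 h0
  · rw [sum_mul_subC_single x b m hm3]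
    exact hJ2'

end Cfsg.Agent.Lib.Helper78
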